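import Cfsg.Agent.H464.L2StageOne
import Cfsg.Agent.H875.DefCov
import Cfsg.Agent.S0253
import Cfsg.Agent.S0254

/-!
# Low-dimensional hub, row T2, stage 1: cores with socle `A₅`, `A₆` (helper937)

* `exists_rep` : `Core P`, `Soc P ≃* PSL₂(K)`, `|K| ≥ 4`, scalars of `P` of order prime to the characteristic of `K`
  ⟹ `P` is the range of a homomorphism from `SL₂(K)` (also `|K| = 4, 9`); `exists_rep_fin` : on `Fin n`;
* `dims` : the five possible degrees (cross characteristic); `a6_dims` : `4, 5, 8, 9, 10`;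
* `a5_sd` : socle `A₅` ⟹ `SD P` (every degree, every characteristic);
* `a6_sd` : socle `A₆`, `3 ∤ |P ∩ scalars|` ⟹ `SD P`; `a6_sd_of_not_dvd` : `3 ∤ n`; `a6_sd_three` : characteristic `3`.
-/

set_option autoImplicit false
set_option linter.unusedSectionVars false

namespace Cfsg.Agent.H937.T2

open Matrix Module Cfsg Cfsg.Geo Cfsg.Agent.H915.LD Cfsg.Agent.H464.Sl2

universe u v

variable {ι : Type} [Fintype ι] [DecidableEq ι] {F : Type u} [Field F] {P : Subgroup (GL ι F)}

/-- `P` is an image of `SL₂(K)` if its scalars have order prime to the characteristic `r` of `K`. -/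
theorem exists_rep [Finite F] (hC : Core P) {K : Type v} [Field K] [Fintype K] {r : ℕ} (hr : r.Prime) [CharP K r]
    (h4 : 4 ≤ Fintype.card K) (hcop : (Nat.card ((scalars ι F).subgroupOf P)).Coprime r)
    (e : Soc P ≃* ProjectiveSpecialLinearGroup (Fin 2) K) :
    ∃ ρ : SpecialLinearGroup (Fin 2) K →* GL ι F, ρ.range = P ∧
      ∀ (g : SpecialLinearGroup (Fin 2) K) (h : ρ g ∈ P), e (toSoc P ⟨ρ g, h⟩) = QuotientGroup.mk g := by
  have hker := ker_comp e
  obtain ⟨θ, h1, h2⟩ := H905.PCover.exists_hom_of_noPCov (G := SpecialLinearGroup (Fin 2) K) (p := r)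
    (commutator_sl2 h4)
    (fun s hs hne => H60.CrossA.noPCov_SL_cross 1 r hs hne)
    (πG := QuotientGroup.mk' (Subgroup.center (SpecialLinearGroup (Fin 2) K))) (QuotientGroup.mk'_surjective _)
    (by rw [QuotientGroup.ker_mk']) hC.commutator_top
    (f := e.toMonoidHom.comp (toSoc P)) (e.surjective.comp (toSoc_surjective P))
    (by rw [hker]; exact scalars_le_center) hr (by rw [hker]; exact hcop)
  refine ⟨P.subtype.comp θ, ?_, ?_⟩
  · rw [MonoidHom.range_comp, MonoidHom.range_eq_top.2 h1, ← MonoidHom.range_eq_map, Subgroup.range_subtype]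
  · intro g h
    exact DFunLike.congr_fun h2 g

/-- The same on `Fin n`. -/
theorem exists_rep_fin [Finite F] (hC : Core P) {K : Type v} [Field K] [Fintype K] {r : ℕ} (hr : r.Prime) [CharP K r]
    (h4 : 4 ≤ Fintype.card K) (hcop : (Nat.card ((scalars ι F).subgroupOf P)).Coprime r)
    (e : Soc P ≃* ProjectiveSpecialLinearGroup (Fin 2) K) :
    ∃ (ρ : SpecialLinearGroup (Fin 2) K →* GL ι F)
      (ρ' : SpecialLinearGroup (Fin 2) K →* GL (Fin (Fintype.card ι)) F), ρ.range = P ∧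
      (∀ (g : SpecialLinearGroup (Fin 2) K) (h : ρ g ∈ P), e (toSoc P ⟨ρ g, h⟩) = QuotientGroup.mk g) ∧
      (∀ g, ρ' g = reGL (Fintype.equivFin ι) (ρ g)) ∧
      (∀ g, (ρ' g : Matrix (Fin (Fintype.card ι)) (Fin (Fintype.card ι)) F).trace = tr (ρ g)) ∧ ρ' ≠ 1 ∧
      ActsAbsolutelyIrreducibly (matrixSet ρ'.range) := by
  obtain ⟨ρ, hρ, hρ2⟩ := exists_rep hC hr h4 hcop e
  let re := reGL (F := F) (Fintype.equivFin ι)
  refine ⟨ρ, re.toMonoidHom.comp ρ, hρ, hρ2, fun g => rfl, fun g => trace_reGL (Fintype.equivFin ι) (ρ g), ?_, ?_⟩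
  · intro h
    have h1 : ρ = 1 := by
      ext1 g
      apply re.injective
      have h2 := DFunLike.congr_fun h g
      rw [MonoidHom.one_apply, map_one]
      exact h2
    rw [h1] at hρ
    apply hC.nonabelian
    have h3 : Subsingleton P := by
      constructor
      rintro ⟨a, ha⟩ ⟨b, hb⟩
      rw [← hρ] at ha hb
      obtain ⟨x, rfl⟩ := ha
      obtain ⟨y, rfl⟩ := hb
      rfl
    have h2 : Subsingleton (P ⧸ (scalars ι F).subgroupOf P) := by
      constructor
      intro a b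
      induction a using QuotientGroup.induction_on with
      | H a =>
        induction b using QuotientGroup.induction_on with
        | H b => rw [Subsingleton.elim a b]
    exact ⟨⟨fun a b => Subsingleton.elim _ _⟩⟩
  · have h1 : (re.toMonoidHom.comp ρ).range = P.map re.toMonoidHom := by
      rw [MonoidHom.range_comp, hρ]
    rw [h1]
    exact absIrr_reGL _ hC.absIrred

section finite

variable [Finite F] (p : ℕ) [hp : Fact p.Prime] [CharP F p]

theorem prime_ne_zero {r : ℕ} (hr : r.Prime) (h : p ≠ r) : (r : F) ≠ 0 := by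
  intro h0
  rw [CharP.cast_eq_zero_iff F p] at h0
  exact h ((Nat.prime_dvd_prime_iff_eq hp.out hr).1 h0)

/-- **Degrees.** -/
theorem dims (hC : Core P) {K : Type v} [Field K] [Fintype K] {r : ℕ} (hr : r.Prime) [CharP K r]
    (h4 : 4 ≤ Fintype.card K) (hcop : (Nat.card ((scalars ι F).subgroupOf P)).Coprime r) (hpr : p ≠ r)
    (e : Soc P ≃* ProjectiveSpecialLinearGroup (Fin 2) K) :
    Fintype.card ι = Fintype.card K - 1 ∨ Fintype.card ι = Fintype.card K ∨ Fintype.card ι = Fintype.card K + 1 ∨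
      (Fintype.card K % 2 = 1 ∧
        (Fintype.card ι = (Fintype.card K - 1) / 2 ∨ Fintype.card ι = (Fintype.card K + 1) / 2)) := by
  obtain ⟨ρ, ρ', -, -, -, -, h1, h2⟩ := exists_rep_fin hC hr h4 hcop e
  exact sl2_dims (r := r) hr rfl h4 (prime_ne_zero p hr hpr) ρ' h1 h2

/-- **Self-duality, `|K| ≢ 3 (mod 4)`.** -/
theorem sd_of_psl2_cross (hC : Core P) {K : Type v} [Field K] [Fintype K] {r : ℕ} (hr : r.Prime) [CharP K r]
    (h4 : 4 ≤ Fintype.card K) (hcop : (Nat.card ((scalars ι F).subgroupOf P)).Coprime r) (hpr : p ≠ r)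
    (h3 : Fintype.card K % 4 ≠ 3) (e : Soc P ≃* ProjectiveSpecialLinearGroup (Fin 2) K) : SD P := by
  obtain ⟨ρ, ρ', hρ, -, -, htr, h1, h2⟩ := exists_rep_fin hC hr h4 hcop e
  have h3 := sl2_selfdual (r := r) hr rfl h4 (prime_ne_zero p hr hpr) ρ' h1 h2 (Or.inl h3)
  intro g hg
  rw [← hρ] at hg
  obtain ⟨x, rfl⟩ := hg
  rw [← map_inv, ← htr, ← htr, h3]

/-- `|K| ≢ 3 (mod 4)`, scalars prime to the characteristic of `K` : self-dual in every characteristic. -/
theorem sd_of_psl2 (hC : Core P) {K : Type v} [Field K] [Fintype K] {r : ℕ} (hr : r.Prime) [CharP K r]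
    (h4 : 4 ≤ Fintype.card K) (hcop : (Nat.card ((scalars ι F).subgroupOf P)).Coprime r)
    (h3 : Fintype.card K % 4 ≠ 3) (e : Soc P ≃* ProjectiveSpecialLinearGroup (Fin 2) K) : SD P := by
  obtain ⟨p, hch⟩ := CharP.exists F
  have hp : Fact p.Prime := ⟨CharP.char_is_prime F p⟩
  by_cases hpr : p = r
  · subst hpr
    exact H875.DefCov.sd_of_psl2 hC p (by rw [Nat.card_eq_fintype_card]; omega) e
  · exact sd_of_psl2_cross p hC hr h4 hcop hpr h3 e

/-- **`A₅`** -/
theorem a5_sd (hC : Core P) (e : Soc P ≃* alternatingGroup (Fin 5)) : SD P := by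
  obtain ⟨p, hch⟩ := CharP.exists F
  have hp : Fact p.Prime := ⟨CharP.char_is_prime F p⟩
  have : Fact (Nat.Prime 5) := ⟨by norm_num⟩
  obtain ⟨f⟩ := Cfsg.Agent.S0253.result (F := ZMod 5) (ZMod.card 5)
  have e' : Soc P ≃* ProjectiveSpecialLinearGroup (Fin 2) (ZMod 5) := e.trans f.symm
  by_cases h5 : p = 5
  · subst h5
    exact H875.DefCov.sd_of_psl2 hC 5 (by rw [Nat.card_eq_fintype_card, ZMod.card]; norm_num) e'
  · have h1 := l2_stage1 p hC (K := ZMod 5) (by rw [ZMod.card]) (by rw [ZMod.card]; norm_num) (by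
      rw [ZMod.card]
      intro h
      exact h5 ((Nat.prime_dvd_prime_iff_eq hp.out (by norm_num)).1 h)) e'
    rcases h1 with h1 | h1
    · exact h1
    · rw [ZMod.card] at h1
      omega

/-- degrees for `A₅`, `p ≠ 5` -/
theorem a5_dims (hC : Core P) (e : Soc P ≃* alternatingGroup (Fin 5)) (h5 : p ≠ 5) :
    Fintype.card ι ∈ ({2, 3, 4, 5, 6} : Finset ℕ) := by
  have : Fact (Nat.Prime 5) := ⟨by norm_num⟩
  obtain ⟨f⟩ := Cfsg.Agent.S0253.result (F := ZMod 5) (ZMod.card 5)
  have e' : Soc P ≃* ProjectiveSpecialLinearGroup (Fin 2) (ZMod 5) := e.trans f.symm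
  have h1 := l2_dims p hC (K := ZMod 5) (by rw [ZMod.card]) (by rw [ZMod.card]; norm_num) (by
      rw [ZMod.card]
      intro h
      exact h5 ((Nat.prime_dvd_prime_iff_eq hp.out (by norm_num)).1 h)) e'
  rw [ZMod.card] at h1
  simp only [Finset.mem_insert, Finset.mem_singleton]
  omega

/-- `A₆` as `PSL₂(9)` -/
theorem exists_nine {T : Type v} [Group T] (e : T ≃* alternatingGroup (Fin 6)) :
    ∃ (K : Type) (_ : Field K) (_ : Fintype K), Fintype.card K = 9 ∧ CharP K 3 ∧
      Nonempty (T ≃* ProjectiveSpecialLinearGroup (Fin 2) K) := by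
  have : Fact (Nat.Prime 3) := ⟨Nat.prime_three⟩
  have h9 : Nat.card (GaloisField 3 2) = 9 := by rw [GaloisField.card 3 2 (by norm_num)]; norm_num
  have hfin : Finite (GaloisField 3 2) := Nat.finite_of_card_ne_zero (by rw [h9]; norm_num)
  have := Fintype.ofFinite (GaloisField 3 2)
  have h9' : Fintype.card (GaloisField 3 2) = 9 := by rw [← Nat.card_eq_fintype_card, h9]
  obtain ⟨f⟩ := Cfsg.Agent.S0254.result h9'
  exact ⟨GaloisField 3 2, inferInstance, inferInstance, h9', inferInstance, ⟨e.trans f.symm⟩⟩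

/-- **`A₆`, scalars of order prime to `3`** -/
theorem a6_sd (hC : Core P) (e : Soc P ≃* alternatingGroup (Fin 6))
    (h3 : ¬ 3 ∣ Nat.card ((scalars ι F).subgroupOf P)) : SD P := by
  obtain ⟨K, _, _, hK, _, ⟨f⟩⟩ := exists_nine e
  exact sd_of_psl2 hC Nat.prime_three (by omega) (((Nat.Prime.coprime_iff_not_dvd Nat.prime_three).2 h3).symm)
    (by omega) f

/-- degrees for `A₆`, scalars of order prime to `3`, `p ≠ 3` -/
theorem a6_dims (hC : Core P) (e : Soc P ≃* alternatingGroup (Fin 6))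
    (h3 : ¬ 3 ∣ Nat.card ((scalars ι F).subgroupOf P)) (hp3 : p ≠ 3) :
    Fintype.card ι ∈ ({4, 5, 8, 9, 10} : Finset ℕ) := by
  obtain ⟨K, _, _, hK, _, ⟨f⟩⟩ := exists_nine e
  have h1 := dims p hC Nat.prime_three (by omega) (((Nat.Prime.coprime_iff_not_dvd Nat.prime_three).2 h3).symm)
    hp3 f
  rw [hK] at h1
  simp only [Finset.mem_insert, Finset.mem_singleton]
  omega

/-- the order of the scalars divides a power of `n` -/
theorem not_dvd_scalars (hC : Core P) {r : ℕ} (hr : r.Prime) (hn : ¬ r ∣ Fintype.card ι) :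
    ¬ r ∣ Nat.card ((scalars ι F).subgroupOf P) := by
  intro h
  have := Fact.mk hr
  obtain ⟨z, hz⟩ := exists_prime_orderOf_dvd_card' r h
  have h1 := hC.pow_card z.2
  have h2 : orderOf (z : P) ∣ Fintype.card ι := orderOf_dvd_of_pow_eq_one h1
  rw [Subgroup.orderOf_coe, hz] at h2
  exact hn h2

theorem a6_sd_of_not_dvd (hC : Core P) (e : Soc P ≃* alternatingGroup (Fin 6)) (hn : ¬ 3 ∣ Fintype.card ι) : SD P :=
  a6_sd hC e (not_dvd_scalars hC Nat.prime_three hn)

theorem not_dvd_scalars_char : ¬ p ∣ Nat.card ((scalars ι F).subgroupOf P) :=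
  (Nat.Prime.coprime_iff_not_dvd hp.out).1 (H875.DefCov.card_scalars_coprime (P := P) p).symm

end finite

theorem a6_sd_three [Finite F] [CharP F 3] (hC : Core P) (e : Soc P ≃* alternatingGroup (Fin 6)) : SD P := by
  have : Fact (Nat.Prime 3) := ⟨Nat.prime_three⟩
  exact a6_sd hC e (not_dvd_scalars_char 3)

end Cfsg.Agent.H937.T2
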