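import Cfsg.Agent.H937.A6Gen
import Cfsg.Agent.H908.TrFrob
import Cfsg.Agent.ClassicalGeometry.SympBasic

/-!
`A₆` in `Sp₄(F)`, `F` of characteristic two: the traces lie in the prime field (task for S5791).
-/

set_option autoImplicit false
open Cfsg
open scoped Matrix MatrixGroups

namespace Cfsg.Agent.H937.A6

open Equiv Module Cfsg.Agent.ClassicalGeometry.SympBasic

section alg

variable {F : Type*} [Field F] [CharP F 2]

/-- the computation in the commutative algebra generated by `a`. -/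
theorem comm_aux {R : Type*} [CommRing R] [Algebra F R] [Nontrivial R] {a : R} {t s : F}
    (h5 : a ^ 5 = 1) (hs : 1 + a + a ^ 2 + a ^ 3 + a ^ 4 = 0)
    (hp : a ^ 4 + algebraMap F R t * a ^ 3 + algebraMap F R s * a ^ 2 + algebraMap F R t * a + 1 = 0)
    (ht : t ≠ 1) : ∃ c : F, c ^ 2 + c + 1 = 0 ∧ c * (t + 1) = s + 1 ∧ a ^ 2 = algebraMap F R c * a + 1 := by
  have two : (2 : R) = 0 := by
    have h1 : algebraMap F R 2 = 0 := by rw [CharTwo.two_eq_zero, map_zero]
    rwa [map_ofNat] at h1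
  have two' : (2 : F) = 0 := CharTwo.two_eq_zero
  have ht' : t + 1 ≠ 0 := by
    intro h
    apply ht
    linear_combination h - two'
  have h1 : (a + a ^ 4) ^ 2 + (a + a ^ 4) + 1 = 0 := by
    linear_combination hs + (a ^ 3 + 2) * h5 + two
  have h2 : (a + a ^ 4) ^ 2 + algebraMap F R t * (a + a ^ 4) + algebraMap F R s = 0 := by
    linear_combination a ^ 3 * hp + (a ^ 3 - algebraMap F R t * a - algebraMap F R s + 2 - a ^ 2) * h5 + two
  have h3 : algebraMap F R (t + 1) * (a + a ^ 4) = algebraMap F R (s + 1) := by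
    rw [map_add, map_add, map_one]
    linear_combination h2 - h1 + (a + a ^ 4) * two - (algebraMap F R s) * two
  have h4 : a + a ^ 4 = algebraMap F R ((s + 1) / (t + 1)) := by
    have h5 : algebraMap F R (t + 1)⁻¹ * algebraMap F R (t + 1) = 1 := by
      rw [← map_mul, inv_mul_cancel₀ ht', map_one]
    rw [div_eq_inv_mul, map_mul, ← h3, ← mul_assoc, h5, one_mul]
  refine ⟨(s + 1) / (t + 1), ?_, by field_simp, ?_⟩
  · have h6 : algebraMap F R (((s + 1) / (t + 1)) ^ 2 + (s + 1) / (t + 1) + 1) = 0 := by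
      rw [map_add, map_add, map_pow, ← h4, map_one, h1]
    exact (map_eq_zero _).1 h6
  · rw [← h4]
    linear_combination -h5 - two

omit [CharP F 2] in
theorem comm_sym {R : Type*} [CommRing R] [Algebra F R] {a : R} {t s u : F}
    (h5 : a ^ 5 = 1) (ha : a ≠ 1)
    (hp : a ^ 4 + algebraMap F R t * a ^ 3 + algebraMap F R s * a ^ 2 + algebraMap F R u * a + 1 = 0)
    (hp' : (a ^ 4) ^ 4 + algebraMap F R t * (a ^ 4) ^ 3 + algebraMap F R s * (a ^ 4) ^ 2 +
      algebraMap F R u * a ^ 4 + 1 = 0) : u = t := by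
  by_contra hne
  have h1 : algebraMap F R (t - u) * (a ^ 3 - a) = 0 := by
    rw [map_sub]
    linear_combination hp - a ^ 4 * hp' + ((a ^ 15 + a ^ 10 + a ^ 5 + 1) + algebraMap F R t * a * (a ^ 10 + a ^ 5 + 1) +
      algebraMap F R s * a ^ 2 * (a ^ 5 + 1) + algebraMap F R u * a ^ 3) * h5
  have h2 : algebraMap F R (t - u)⁻¹ * algebraMap F R (t - u) = 1 := by
    rw [← map_mul, inv_mul_cancel₀ (sub_ne_zero.2 (Ne.symm hne)), map_one]
  have h3 : a ^ 3 - a = 0 := by
    linear_combination (algebraMap F R (t - u)⁻¹) * h1 - (a ^ 3 - a) * h2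
  have h4 : a ^ 2 = 1 := by linear_combination a ^ 4 * h3 - (a ^ 2 - 1) * h5
  apply ha
  linear_combination h5 - (a ^ 3 + a) * h4

end alg

section mat

variable {F : Type*} [Field F] [CharP F 2]

local notation "I4" => (Fin 2 ⊕ Fin 2)
local notation "M4" => Matrix (Fin 2 ⊕ Fin 2) (Fin 2 ⊕ Fin 2) F

omit [CharP F 2] in
theorem charpoly_inv {A B : M4} (hA : A ∈ Matrix.symplecticGroup (Fin 2) F) (hAB : A * B = 1) :
    B.charpoly = A.charpoly := by
  have h1 : B = -Matrix.J (Fin 2) F * Aᵀ * Matrix.J (Fin 2) F := by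
    have h2 := SymplecticGroup.inv_eq_symplectic_inv A hA
    rw [← h2]
    exact (Matrix.inv_eq_right_inv hAB).symm
  rw [h1, Matrix.charpoly_mul_comm, ← mul_assoc]
  have h3 : Matrix.J (Fin 2) F * -Matrix.J (Fin 2) F = 1 := by
    rw [mul_neg, Matrix.J_squared, neg_neg]
  rw [h3, one_mul, Matrix.charpoly_transpose]

omit [CharP F 2] in
theorem trace_inv {A B : M4} (hA : A ∈ Matrix.symplecticGroup (Fin 2) F) (hAB : A * B = 1) :
    B.trace = A.trace := by
  rw [Matrix.trace_eq_neg_charpoly_coeff, Matrix.trace_eq_neg_charpoly_coeff, charpoly_inv hA hAB]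

omit [CharP F 2] in
theorem charpoly_eq (A : M4) : A.charpoly = Polynomial.X ^ 4 + Polynomial.C (A.charpoly.coeff 3) * Polynomial.X ^ 3 +
    Polynomial.C (A.charpoly.coeff 2) * Polynomial.X ^ 2 + Polynomial.C (A.charpoly.coeff 1) * Polynomial.X +
    Polynomial.C (A.charpoly.coeff 0) := by
  have h1 : A.charpoly.natDegree = 4 := by
    rw [Matrix.charpoly_natDegree_eq_dim]
    rfl
  have h2 : A.charpoly.coeff 4 = 1 := by
    have := (Matrix.charpoly_monic A).coeff_natDegree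
    rwa [h1] at this
  conv_lhs => rw [A.charpoly.as_sum_range_C_mul_X_pow, h1]
  rw [Finset.sum_range_succ, Finset.sum_range_succ, Finset.sum_range_succ, Finset.sum_range_succ,
    Finset.sum_range_one, h2, map_one]
  ring

/-- no eigenvalue one. -/
theorem trace_of_no_fix {A : M4} (hA : A ∈ Matrix.symplecticGroup (Fin 2) F) (h5 : A ^ 5 = 1)
    (hdet : (1 - A).det ≠ 0) : A.trace = 0 ∨ A.trace = 1 := by
  classical
  have two' : (2 : F) = 0 := CharTwo.two_eq_zero
  set t := A.charpoly.coeff 3 with htdef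
  set s := A.charpoly.coeff 2 with hsdef
  have htr : A.trace = t := by
    rw [Matrix.trace_eq_neg_charpoly_coeff, CharTwo.neg_eq]
    rfl
  have hd0 : A.charpoly.coeff 0 = 1 := by
    have h1 := Matrix.det_eq_sign_charpoly_coeff A
    rw [SymplecticGroup.det_eq_one hA] at h1
    have h2 : (-1 : F) ^ Fintype.card I4 = 1 := by
      rw [show Fintype.card I4 = 4 from rfl]
      norm_num
    rw [h2, one_mul] at h1
    exact h1.symm
  have hA4 : A * A ^ 4 = 1 := by rw [← pow_succ', h5]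
  have hchar := charpoly_inv hA hA4
  let S := Algebra.adjoin F ({A} : Set M4)
  let _ : CommRing S := Algebra.adjoinCommRingOfComm F (by
    intro a ha b hb
    rw [Set.mem_singleton_iff.1 ha, Set.mem_singleton_iff.1 hb])
  let a : S := ⟨A, Algebra.subset_adjoin (Set.mem_singleton _)⟩
  have ha5 : a ^ 5 = 1 := Subtype.ext h5
  have CH : ∀ (b : S), (b : M4).charpoly = A.charpoly → b ^ 4 + algebraMap F S t * b ^ 3 + algebraMap F S s * b ^ 2 +
      algebraMap F S (A.charpoly.coeff 1) * b + 1 = 0 := by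
    intro b hb
    apply Subtype.ext
    have h1 := Matrix.aeval_self_charpoly (b : M4)
    rw [hb, charpoly_eq A, hd0] at h1
    simp only [map_add, map_mul, map_pow, Polynomial.aeval_X, Polynomial.aeval_C, map_one] at h1
    exact h1
  have hdet' : ∀ N : M4, (1 - A) * N = 0 → N = 0 := by
    intro N hN
    have h1 : IsUnit (1 - A) := (Matrix.isUnit_iff_isUnit_det _).2 (isUnit_iff_ne_zero.2 hdet)
    exact (h1.mul_right_eq_zero).1 hN
  have hs : 1 + a + a ^ 2 + a ^ 3 + a ^ 4 = 0 := by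
    apply Subtype.ext
    apply hdet'
    have h1 : (1 - a) * (1 + a + a ^ 2 + a ^ 3 + a ^ 4) = 0 := by
      linear_combination -ha5
    exact congrArg Subtype.val h1
  have hane : a ≠ 1 := by
    intro h
    apply hdet
    have h1 : A = 1 := congrArg Subtype.val h
    rw [h1, sub_self, Matrix.det_zero]
  have hc1 : A.charpoly.coeff 1 = t := comm_sym ha5 hane (CH a rfl) (CH (a ^ 4) hchar)
  by_cases ht1 : t = 1
  · right; rw [htr, ht1]
  have hpa := CH a rfl
  rw [hc1] at hpa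
  obtain ⟨c, hc2, hc3, hc4⟩ := comm_aux ha5 hs hpa ht1
  left
  rw [htr]
  have h6 : A ^ 2 = c • A + 1 := by
    have h7 := congrArg Subtype.val hc4
    have h8 : ((algebraMap F S c * a + 1 : S) : M4) = c • A + 1 := by
      rw [Algebra.algebraMap_eq_smul_one, smul_mul_assoc, one_mul]
      rfl
    rw [← h8]
    exact h7
  have h7 : t ^ 2 = c * t := by
    have h8 := Cfsg.Agent.H908.trace_pow_char 2 A
    rw [h6, Matrix.trace_add, Matrix.trace_smul, Matrix.trace_one, htr, smul_eq_mul] at h8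
    rw [← h8, show Fintype.card I4 = 4 from rfl]
    push_cast
    linear_combination 2 * two'
  by_contra ht0
  have h9 : t = c := by
    apply mul_right_cancel₀ ht0
    rw [← pow_two]
    exact h7
  have hs0 : s = 0 := by
    rw [h9] at hc3
    linear_combination hc2 - hc3 - two'
  apply hdet
  have h10 := Matrix.eval_charpoly A 1
  rw [map_one] at h10
  rw [← h10, charpoly_eq A, ← hsdef, ← htdef, hc1, hd0, hs0]
  simp only [Polynomial.eval_add, Polynomial.eval_mul, Polynomial.eval_pow, Polynomial.eval_X, Polynomial.eval_C, one_pow, mul_one]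
  linear_combination (1 + t) * two'

end mat

section fix

variable {F : Type*} [Field F]

local notation "V4" => (Fin 2 ⊕ Fin 2 → F)
local notation "M4" => Matrix (Fin 2 ⊕ Fin 2) (Fin 2 ⊕ Fin 2) F

/-- the fixed space. -/
noncomputable def fx (A : M4) : Submodule F V4 := LinearMap.ker (Matrix.toLin' A - 1)

/-- the commutator space. -/
noncomputable def cm (A : M4) : Submodule F V4 := LinearMap.range (Matrix.toLin' A - 1)

theorem mem_fx {A : M4} {v : V4} : v ∈ fx A ↔ A *ᵥ v = v := by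
  rw [fx, LinearMap.mem_ker, LinearMap.sub_apply, sub_eq_zero, Matrix.toLin'_apply]
  rfl

theorem mem_cm {A : M4} {w : V4} : w ∈ cm A ↔ ∃ v, A *ᵥ v - v = w := by
  rw [cm, LinearMap.mem_range]
  rfl

theorem finrank_add (A : M4) : finrank F (cm A) + finrank F (fx A) = 4 := by
  have h := LinearMap.finrank_range_add_finrank_ker (Matrix.toLin' A - 1)
  rw [Module.finrank_fintype_fun_eq_card] at h
  exact h

theorem even_fx [CharP F 2] {A : M4} (hA : A ∈ Matrix.symplecticGroup (Fin 2) F) (h5 : A ^ 5 = 1) :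
    Even (finrank F (fx A)) := by
  have two' : (2 : F) = 0 := CharTwo.two_eq_zero
  set P : M4 := 1 + A + A ^ 2 + A ^ 3 + A ^ 4 with hP
  have hAP : A * P = P := by
    rw [hP]
    simp only [mul_add, mul_one, ← pow_succ', ← pow_two]
    rw [show A ^ (4 + 1) = 1 from h5]
    abel
  have hproj : LinearMap.IsProj (fx A) (Matrix.toLin' P) := by
    refine ⟨fun v => ?_, fun v hv => ?_⟩
    · rw [mem_fx, Matrix.toLin'_apply, Matrix.mulVec_mulVec, hAP]
    · rw [mem_fx] at hv
      have hk : ∀ k : ℕ, A ^ k *ᵥ v = v := by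
        intro k
        induction k with
        | zero => rw [pow_zero, Matrix.one_mulVec]
        | succ k ih => rw [pow_succ, ← Matrix.mulVec_mulVec, hv, ih]
      rw [Matrix.toLin'_apply, hP, Matrix.add_mulVec, Matrix.add_mulVec, Matrix.add_mulVec, Matrix.add_mulVec,
        Matrix.one_mulVec, hv, hk, hk, hk]
      have h2 : (2 : F) • v = 0 := by rw [two', zero_smul]
      have h3 : v + v + v + v + v = (2 : F) • v + (2 : F) • v + v := by
        rw [two_smul]
        abel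
      rw [h3, h2, zero_add, zero_add]
  have htr := hproj.trace
  rw [Matrix.trace_toLin'_eq] at htr
  have h4 : (A ^ 4).trace = A.trace := trace_inv hA (by rw [← pow_succ', h5])
  have h3 : (A ^ 3).trace = (A ^ 2).trace := by
    refine trace_inv (A := A ^ 2) (Submonoid.pow_mem _ hA 2) ?_
    rw [← pow_add, h5]
  have h0 : P.trace = 0 := by
    rw [hP, Matrix.trace_add, Matrix.trace_add, Matrix.trace_add, Matrix.trace_add, h4, h3, Matrix.trace_one]
    simp only [Fintype.card_sum, Fintype.card_fin]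
    push_cast
    linear_combination (2 + A.trace + (A ^ 2).trace) * two'
  rw [h0] at htr
  rw [even_iff_two_dvd, ← CharP.cast_eq_zero_iff F 2]
  exact htr.symm

/-- Scott's lemma for three elements with large fixed spaces. -/
theorem scott {X Y : M4} {X' : M4} (hX' : X' * X = 1) (hfix : ∀ v : V4, X *ᵥ v = v → Y *ᵥ v = v → v = 0)
    (hcm : cm X ⊔ cm Y = ⊤) (hX : 2 ≤ finrank F (fx X)) (hY : 2 ≤ finrank F (fx Y)) {v : V4}
    (hv : (X * Y) *ᵥ v = v) : v = 0 := by
  have h1 : fx X ⊓ fx Y = ⊥ := by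
    rw [eq_bot_iff]
    rintro v ⟨h1, h2⟩
    exact hfix v (mem_fx.1 h1) (mem_fx.1 h2)
  have h2 := Submodule.finrank_sup_add_finrank_inf_eq (fx X) (fx Y)
  rw [h1, finrank_bot, add_zero] at h2
  have h3 : finrank F V4 = 4 := by rw [Module.finrank_fintype_fun_eq_card]; rfl
  have h4 : fx X ⊔ fx Y = ⊤ := by
    apply Submodule.eq_top_of_finrank_eq
    have := Submodule.finrank_le (fx X ⊔ fx Y)
    omega
  have h5 := Submodule.finrank_sup_add_finrank_inf_eq (cm X) (cm Y)
  have h6 := finrank_add X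
  have h7 := finrank_add Y
  rw [hcm, finrank_top] at h5
  have h8 : cm X ⊓ cm Y = ⊥ := by
    rw [← Submodule.finrank_eq_zero (R := F)]
    omega
  obtain ⟨a, ha, b, hb, rfl⟩ := Submodule.mem_sup.1 (show v ∈ fx X ⊔ fx Y by rw [h4]; exact Submodule.mem_top)
  rw [mem_fx] at ha hb
  have h9 : Y *ᵥ a - a = X' *ᵥ b - b := by
    have h10 := congrArg (fun w => X' *ᵥ w) hv
    simp only [Matrix.mulVec_mulVec] at h10
    rw [← mul_assoc, hX', one_mul, Matrix.mulVec_add, Matrix.mulVec_add, hb] at h10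
    have h11 : X' *ᵥ a = a := by
      conv_lhs => rw [← ha]
      rw [Matrix.mulVec_mulVec, hX', Matrix.one_mulVec]
    rw [h11] at h10
    rw [sub_eq_sub_iff_add_eq_add, h10]
    abel
  have h12 : Y *ᵥ a - a ∈ cm X ⊓ cm Y := by
    refine ⟨?_, mem_cm.2 ⟨a, rfl⟩⟩
    rw [h9]
    refine mem_cm.2 ⟨-(X' *ᵥ b), ?_⟩
    have hX2 : X * X' = 1 := mul_eq_one_comm.1 hX'
    rw [Matrix.mulVec_neg, Matrix.mulVec_mulVec, hX2, Matrix.one_mulVec]
    abel
  rw [h8, Submodule.mem_bot] at h12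
  have h13 : a = 0 := hfix a ha (sub_eq_zero.1 h12)
  rw [h12] at h9
  have h14 : X' *ᵥ b = b := (sub_eq_zero.1 h9.symm)
  have h15 : X *ᵥ b = b := by
    have hX2 : X * X' = 1 := mul_eq_one_comm.1 hX'
    conv_lhs => rw [← h14]
    rw [Matrix.mulVec_mulVec, hX2, Matrix.one_mulVec]
  rw [h13, hfix b h15 hb, add_zero]

end fix

section grp

/-- `x0` in `A₆`. -/
def X0 : alternatingGroup (Fin 6) := ⟨x0, by rw [Perm.mem_alternatingGroup]; decide⟩

/-- `y0` in `A₆`. -/
def Y0 : alternatingGroup (Fin 6) := ⟨y0, by rw [Perm.mem_alternatingGroup]; decide⟩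

theorem gen {H : Subgroup (alternatingGroup (Fin 6))} (hx : X0 ∈ H) (hy : Y0 ∈ H) : H = ⊤ := by
  set H' := H.map (alternatingGroup (Fin 6)).subtype with hH'
  have hx' : x0 ∈ H' := ⟨X0, hx, rfl⟩
  have hy' : y0 ∈ H' := ⟨Y0, hy, rfl⟩
  have hw : ∀ i, wd i ∈ H' := by
    have h1 : ∀ a b c d : ℕ, x0 ^ a * y0 ^ b * x0 ^ c * y0 ^ d ∈ H' := fun a b c d =>
      mul_mem (mul_mem (mul_mem (pow_mem hx' _) (pow_mem hy' _)) (pow_mem hx' _)) (pow_mem hy' _)
    intro i
    fin_cases i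
    · exact h1 1 1 2 3
    · exact h1 1 2 4 1
    · exact h1 2 1 4 3
    · exact h1 1 1 4 3
    · exact h1 2 4 1 1
    · exact h1 3 1 1 4
    · exact h1 3 4 4 2
    · exact h1 2 3 1 1
  have h3 : alternatingGroup (Fin 6) ≤ H' := by
    rw [← Perm.closure_three_cycles_eq_alternating, Subgroup.closure_le]
    intro σ hσ
    obtain ⟨m, i, hm⟩ := three_dec σ (card_support_eq_three_iff.2 hσ)
    rw [← eq_mul_inv_iff_mul_eq] at hm
    rw [SetLike.mem_coe, hm]
    exact mul_mem (mul_mem (pow_mem hx' _) (hw i)) (inv_mem (pow_mem hx' _))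
  rw [eq_top_iff]
  rintro ⟨σ, hσ⟩ -
  obtain ⟨τ, hτ, e⟩ := h3 hσ
  have : τ = ⟨σ, hσ⟩ := Subtype.ext e
  rwa [← this]

theorem five_conj {g : alternatingGroup (Fin 6)} (h5 : g ^ 5 = 1) (h1 : g ≠ 1) :
    ∃ h : alternatingGroup (Fin 6), h * g = X0 * h ∨ h * g = X0 ^ 2 * h := by
  rcases five_dec (g : Perm (Fin 6)) (congrArg Subtype.val h5) with h | ⟨τ, hs, hτ⟩
  · exact absurd (Subtype.ext h) h1
  · refine ⟨⟨τ, Perm.mem_alternatingGroup.2 hs⟩, ?_⟩
    rcases hτ with h | h
    · exact Or.inl (Subtype.ext h)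
    · exact Or.inr (Subtype.ext h)

variable {F : Type*} [Field F] {f : alternatingGroup (Fin 6) →* GL (Fin 2 ⊕ Fin 2) F}

local notation "V4" => (Fin 2 ⊕ Fin 2 → F)
local notation "M4" => Matrix (Fin 2 ⊕ Fin 2) (Fin 2 ⊕ Fin 2) F

theorem mulv (g h : alternatingGroup (Fin 6)) (v : V4) :
    (f (g * h) : M4) *ᵥ v = (f g : M4) *ᵥ ((f h : M4) *ᵥ v) := by
  rw [map_mul, Units.val_mul, Matrix.mulVec_mulVec]

/-- `h g = k h` and `g v = v` give `k (h v) = h v`. -/
theorem fix_conj {g h k : alternatingGroup (Fin 6)} (e : h * g = k * h) {v : V4} (hv : (f g : M4) *ᵥ v = v) :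
    (f k : M4) *ᵥ ((f h : M4) *ᵥ v) = (f h : M4) *ᵥ v := by
  rw [← mulv, ← e, mulv, hv]

theorem pow_fix {g : alternatingGroup (Fin 6)} {v : V4} (hv : (f g : M4) *ᵥ v = v) (n : ℕ) :
    (f (g ^ n) : M4) *ᵥ v = v := by
  induction n with
  | zero => rw [pow_zero, map_one, Units.val_one, Matrix.one_mulVec]
  | succ n ih => rw [pow_succ, mulv, hv, ih]

theorem ne_zero_mulv (h : alternatingGroup (Fin 6)) {v : V4} (hv : v ≠ 0) : (f h : M4) *ᵥ v ≠ 0 := by
  intro h0
  apply hv
  have h1 : (f (h⁻¹ * h) : M4) *ᵥ v = 0 := by rw [mulv, h0, Matrix.mulVec_zero]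
  rwa [inv_mul_cancel, map_one, Units.val_one, Matrix.one_mulVec] at h1

theorem X0_five : X0 ^ 5 = 1 := Subtype.ext (by decide +kernel)

theorem Y0_five : Y0 ^ 5 = 1 := Subtype.ext (by decide +kernel)

theorem XY_five : (X0 * Y0) ^ 5 = 1 := Subtype.ext (by decide +kernel)

theorem X0_ne : X0 ≠ 1 := fun h => absurd (congrArg Subtype.val h) (by decide +kernel)

theorem Y0_ne : Y0 ≠ 1 := fun h => absurd (congrArg Subtype.val h) (by decide +kernel)

theorem XY_ne : X0 * Y0 ≠ 1 := fun h => absurd (congrArg Subtype.val h) (by decide +kernel)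

/-- if one element of order five has a fixed vector then all have. -/
theorem fix_all {g g' : alternatingGroup (Fin 6)} (h5 : g ^ 5 = 1) (h1 : g ≠ 1) (h5' : g' ^ 5 = 1) (h1' : g' ≠ 1)
    {v : V4} (hv0 : v ≠ 0) (hv : (f g : M4) *ᵥ v = v) : ∃ w : V4, w ≠ 0 ∧ (f g' : M4) *ᵥ w = w := by
  obtain ⟨w, hw0, hw⟩ : ∃ w : V4, w ≠ 0 ∧ (f X0 : M4) *ᵥ w = w := by
    obtain ⟨h, e | e⟩ := five_conj h5 h1
    · exact ⟨(f h : M4) *ᵥ v, ne_zero_mulv h hv0, fix_conj e hv⟩
    · refine ⟨(f h : M4) *ᵥ v, ne_zero_mulv h hv0, ?_⟩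
      have h2 := pow_fix (fix_conj e hv) 3
      rwa [← pow_mul, show 2 * 3 = 5 + 1 from rfl, pow_add, X0_five, one_mul, pow_one] at h2
  obtain ⟨h, e⟩ := five_conj h5' h1'
  refine ⟨(f h⁻¹ : M4) *ᵥ w, ne_zero_mulv _ hw0, ?_⟩
  rcases e with e | e
  · refine fix_conj (k := g') (g := X0) (h := h⁻¹) ?_ hw
    rw [inv_mul_eq_iff_eq_mul, ← mul_assoc, e, mul_inv_cancel_right]
  · refine fix_conj (k := g') (g := X0 ^ 2) (h := h⁻¹) ?_ (pow_fix hw 2)
    rw [inv_mul_eq_iff_eq_mul, ← mul_assoc, e, mul_inv_cancel_right]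

variable [CharP F 2]

theorem no_fix (hf : Function.Injective f) (hfs : ∀ g, f g ∈ spGL 2 F)
    (hirr : ∀ W : Submodule F V4, (∀ g, ∀ v ∈ W, (f g : M4) *ᵥ v ∈ W) → W = ⊥ ∨ W = ⊤)
    {g : alternatingGroup (Fin 6)} (h5 : g ^ 5 = 1) (h1 : g ≠ 1) {v : V4} (hv : (f g : M4) *ᵥ v = v) : v = 0 := by
  by_contra hv0
  have hsp : ∀ g, (f g : M4) ∈ Matrix.symplecticGroup (Fin 2) F := fun g =>
    mem_symplecticGroup_iff.2 fun u v => hfs g u v
  have hfive : ∀ g : alternatingGroup (Fin 6), g ^ 5 = 1 → (f g : M4) ^ 5 = 1 := by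
    intro g hg
    rw [← Units.val_pow_eq_pow_val, ← map_pow, hg, map_one, Units.val_one]
  have htriv : ¬ ∀ (g : alternatingGroup (Fin 6)) (v : V4), (f g : M4) *ᵥ v = v := by
    intro h
    apply X0_ne
    apply hf
    rw [map_one]
    apply Units.ext
    apply Matrix.toLin'.injective
    apply LinearMap.ext
    intro v
    rw [Matrix.toLin'_apply, h, Units.val_one, Matrix.toLin'_one]
    rfl
  have h2 : ∀ g' : alternatingGroup (Fin 6), g' ^ 5 = 1 → g' ≠ 1 → 2 ≤ finrank F (fx (f g' : M4)) := by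
    intro g' hg5 hg1
    obtain ⟨w, hw0, hw⟩ := fix_all h5 h1 hg5 hg1 hv0 hv
    have h3 : fx (f g' : M4) ≠ ⊥ := (Submodule.ne_bot_iff _).2 ⟨w, mem_fx.2 hw, hw0⟩
    have h4 : finrank F (fx (f g' : M4)) ≠ 0 := fun h => h3 (Submodule.finrank_eq_zero.1 h)
    obtain ⟨r, hr⟩ := even_fx (hsp g') (hfive g' hg5)
    omega
  obtain ⟨w, hw0, hw⟩ := fix_all h5 h1 XY_five XY_ne hv0 hv
  apply hw0
  refine scott (X := (f X0 : M4)) (Y := (f Y0 : M4)) (X' := (f X0⁻¹ : M4)) ?_ ?_ ?_ (h2 _ X0_five X0_ne)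
    (h2 _ Y0_five Y0_ne) (v := w) ?_
  · rw [← Units.val_mul, ← map_mul, inv_mul_cancel, map_one, Units.val_one]
  · intro u hu1 hu2
    let S : Subgroup (alternatingGroup (Fin 6)) :=
      { carrier := {g | (f g : M4) *ᵥ u = u}
        mul_mem' := fun {a b} ha hb => by
          show (f (a * b) : M4) *ᵥ u = u
          rw [mulv, show (f b : M4) *ᵥ u = u from hb]
          exact ha
        one_mem' := by
          show (f 1 : M4) *ᵥ u = u
          rw [map_one, Units.val_one, Matrix.one_mulVec]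
        inv_mem' := fun {a} ha => by
          show (f a⁻¹ : M4) *ᵥ u = u
          have ha' : (f a : M4) *ᵥ u = u := ha
          have h3 : (f (a⁻¹ * a) : M4) *ᵥ u = (f a⁻¹ : M4) *ᵥ u := by rw [mulv, ha']
          rw [← h3, inv_mul_cancel, map_one, Units.val_one, Matrix.one_mulVec] }
    have hS : S = ⊤ := gen hu1 hu2
    have hall : ∀ g, (f g : M4) *ᵥ u = u := fun g => by
      have : g ∈ S := by rw [hS]; exact Subgroup.mem_top g
      exact this
    rcases hirr (Submodule.span F {u}) (fun g v hv => by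
      obtain ⟨c, rfl⟩ := Submodule.mem_span_singleton.1 hv
      rw [Matrix.mulVec_smul, hall]
      exact hv) with h3 | h3
    · rwa [Submodule.span_singleton_eq_bot] at h3
    · exfalso
      apply htriv
      intro g v
      obtain ⟨c, rfl⟩ := Submodule.mem_span_singleton.1 (show v ∈ Submodule.span F {u} by rw [h3]; exact Submodule.mem_top)
      rw [Matrix.mulVec_smul, hall]
  · set W := cm (f X0 : M4) ⊔ cm (f Y0 : M4) with hW
    let S : Subgroup (alternatingGroup (Fin 6)) :=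
      { carrier := {g | ∀ u : V4, (f g : M4) *ᵥ u - u ∈ W}
        mul_mem' := fun {a b} ha hb u => by
          have h3 : (f (a * b) : M4) *ᵥ u - u = ((f a : M4) *ᵥ ((f b : M4) *ᵥ u) - (f b : M4) *ᵥ u) +
              ((f b : M4) *ᵥ u - u) := by rw [mulv]; abel
          rw [h3]
          exact W.add_mem (ha _) (hb _)
        one_mem' := fun u => by
          rw [map_one, Units.val_one, Matrix.one_mulVec, sub_self]
          exact W.zero_mem
        inv_mem' := fun {a} ha u => by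
          have h3 : (f a⁻¹ : M4) *ᵥ u - u = -((f a : M4) *ᵥ ((f a⁻¹ : M4) *ᵥ u) - (f a⁻¹ : M4) *ᵥ u) := by
            rw [← mulv, mul_inv_cancel, map_one, Units.val_one, Matrix.one_mulVec]
            abel
          rw [h3]
          exact W.neg_mem (ha _) }
    have hS : S = ⊤ := gen (fun u => le_sup_left (a := cm (f X0 : M4)) (mem_cm.2 ⟨u, rfl⟩))
      (fun u => le_sup_right (a := cm (f X0 : M4)) (mem_cm.2 ⟨u, rfl⟩))
    have hall : ∀ g (u : V4), (f g : M4) *ᵥ u - u ∈ W := fun g => by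
      have : g ∈ S := by rw [hS]; exact Subgroup.mem_top g
      exact this
    rcases hirr W (fun g v hv => by
      have h3 : (f g : M4) *ᵥ v = ((f g : M4) *ᵥ v - v) + v := by abel
      rw [h3]
      exact W.add_mem (hall g v) hv) with h3 | h3
    · exfalso
      apply htriv
      intro g v
      have h4 := hall g v
      rw [h3, Submodule.mem_bot] at h4
      exact sub_eq_zero.1 h4
    · exact h3
  · rw [← Units.val_mul, ← map_mul]
    exact hw

/-- the traces of an irreducible `A₆` in `Sp₄(F)`, `char F = 2`, lie in the prime field. -/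
theorem a6_trace {F : Type*} [Field F] [Finite F] [CharP F 2] (f : alternatingGroup (Fin 6) →* GL (Fin 2 ⊕ Fin 2) F)
    (hf : Function.Injective f) (hfs : ∀ g, f g ∈ spGL 2 F)
    (hirr : ∀ W : Submodule F (Fin 2 ⊕ Fin 2 → F), (∀ g, ∀ v ∈ W, (f g : Matrix (Fin 2 ⊕ Fin 2) (Fin 2 ⊕ Fin 2) F) *ᵥ v ∈ W) →
      W = ⊥ ∨ W = ⊤) (g : alternatingGroup (Fin 6)) :
    (f g : Matrix (Fin 2 ⊕ Fin 2) (Fin 2 ⊕ Fin 2) F).trace = 0 ∨ (f g : Matrix (Fin 2 ⊕ Fin 2) (Fin 2 ⊕ Fin 2) F).trace = 1 := by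
  have two' : (2 : F) = 0 := CharTwo.two_eq_zero
  have hsp : ∀ g, (f g : Matrix (Fin 2 ⊕ Fin 2) (Fin 2 ⊕ Fin 2) F) ∈ Matrix.symplecticGroup (Fin 2) F := fun g =>
    mem_symplecticGroup_iff.2 fun u v => hfs g u v
  have hpw : ∀ n : ℕ, ((f g : Matrix (Fin 2 ⊕ Fin 2) (Fin 2 ⊕ Fin 2) F)) ^ n =
      (f (g ^ n) : Matrix (Fin 2 ⊕ Fin 2) (Fin 2 ⊕ Fin 2) F) := by
    intro n
    rw [map_pow, Units.val_pow_eq_pow_val]
  rcases ord_dec (g : Perm (Fin 6)) (Perm.mem_alternatingGroup.1 g.2) with h | h | h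
  · left
    have h4 : g ^ 4 = 1 := Subtype.ext h
    have h1 := Cfsg.Agent.H908.trace_pow_char_pow 2 (f g : Matrix (Fin 2 ⊕ Fin 2) (Fin 2 ⊕ Fin 2) F) 2
    rw [show 2 ^ 2 = 4 from rfl, hpw, h4, map_one, Units.val_one, Matrix.trace_one] at h1
    have h2 : ((Fintype.card (Fin 2 ⊕ Fin 2) : ℕ) : F) = 0 := by
      rw [show Fintype.card (Fin 2 ⊕ Fin 2) = 4 from rfl]
      push_cast
      linear_combination 2 * two'
    rw [h2] at h1
    exact pow_eq_zero_iff (by norm_num) |>.1 h1.symm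
  · have h3 : g ^ 3 = 1 := Subtype.ext h
    have h1 := Cfsg.Agent.H908.trace_pow_char 2 (f g : Matrix (Fin 2 ⊕ Fin 2) (Fin 2 ⊕ Fin 2) F)
    have h2 := trace_inv (B := (f g : Matrix (Fin 2 ⊕ Fin 2) (Fin 2 ⊕ Fin 2) F) ^ 2) (hsp g)
      (by rw [← pow_succ', hpw, h3, map_one, Units.val_one])
    rw [h2] at h1
    have h4 : (f g : Matrix (Fin 2 ⊕ Fin 2) (Fin 2 ⊕ Fin 2) F).trace *
        ((f g : Matrix (Fin 2 ⊕ Fin 2) (Fin 2 ⊕ Fin 2) F).trace - 1) = 0 := by linear_combination -h1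
    rcases mul_eq_zero.1 h4 with h5 | h5
    · exact Or.inl h5
    · exact Or.inr (sub_eq_zero.1 h5)
  · have h5 : g ^ 5 = 1 := Subtype.ext h
    by_cases hg1 : g = 1
    · left
      rw [hg1, map_one, Units.val_one, Matrix.trace_one]
      rw [show Fintype.card (Fin 2 ⊕ Fin 2) = 4 from rfl]
      push_cast
      linear_combination 2 * two'
    · refine trace_of_no_fix (hsp g) (by rw [hpw, h5, map_one, Units.val_one]) ?_
      intro hdet
      obtain ⟨v, hv0, hv⟩ := Matrix.exists_mulVec_eq_zero_iff.2 hdet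
      rw [Matrix.sub_mulVec, Matrix.one_mulVec, sub_eq_zero] at hv
      exact hv0 (no_fix hf hfs hirr h5 hg1 hv.symm)

end grp

end Cfsg.Agent.H937.A6
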