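import Cfsg.Agent.H98.SzBasic
import Cfsg.Agent.OddCyclic.ClaimC.SzIso
import Cfsg.Prelude.Def_Sz

/-!
In `Sz(q)` every element of odd order is conjugate to its `q`-th power.
-/

set_option autoImplicit false

namespace Cfsg.Agent.H937.SzConj

open Module Cfsg.Agent.LieExceptional

section general

variable {F V : Type*} [Field F] [Finite F] [AddCommGroup V] [Module F V] [FiniteDimensional F V]
  {g : Module.End F V} {p : ℕ}

/-- In the (commutative) centraliser of `g` a polynomial has at most as many roots as its degree. -/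
theorem card_le_of_roots (hp : p.Prime) (hgp : g ^ p = 1) (hg1 : g ≠ 1)
    (hpn : p ∣ Nat.card F ^ finrank F V - 1)
    (hpd : ∀ d, 0 < d → d < finrank F V → ¬ p ∣ Nat.card F ^ d - 1)
    (P : Polynomial F) (hP : P ≠ 0) {ι : Type*} (f : ι → Module.End F V) (hf : Function.Injective f)
    (hfg : ∀ i, Commute (f i) g) (hr : ∀ i, Polynomial.aeval (f i) P = 0) :
    Nat.card ι ≤ P.natDegree := by
  classical
  have : Finite V := Module.finite_of_finite F
  have : Finite (Module.End F V) := Module.finite_of_finite F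
  have : Finite ι := Finite.of_injective f hf
  have hdom := SingerCentralizer.isDomain_centralizer hp hgp hg1 hpn hpd
  have hfield := Finite.isDomain_to_isField (Subalgebra.centralizer F ({g} : Set (Module.End F V)))
  let _ : CommRing (Subalgebra.centralizer F ({g} : Set (Module.End F V))) :=
    { (inferInstance : Ring (Subalgebra.centralizer F ({g} : Set (Module.End F V)))) with
      mul_comm := hfield.mul_comm }
  let _ : Algebra F (Subalgebra.centralizer F ({g} : Set (Module.End F V))) :=
    Subalgebra.algebra _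
  have : IsDomain (Subalgebra.centralizer F ({g} : Set (Module.End F V))) := hdom
  let f' : ι → Subalgebra.centralizer F ({g} : Set (Module.End F V)) := fun i =>
    ⟨f i, (Subalgebra.mem_centralizer_iff F).2 (fun x hx => by
        rw [Set.mem_singleton_iff.1 hx]; exact (hfg i).symm)⟩
  have hf' : Function.Injective f' := fun i j h => hf (congrArg Subtype.val h)
  have hroot : ∀ i, Polynomial.aeval (f' i) P = 0 := by
    intro i
    apply Subtype.ext
    have h1 : ((Polynomial.aeval (f' i) P :
        Subalgebra.centralizer F ({g} : Set (Module.End F V))) : Module.End F V) =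
        Polynomial.aeval (f i) P := by
      exact (Polynomial.aeval_algHom_apply (Subalgebra.val _) (f' i) P).symm
    rw [h1, hr]
    rfl
  have hmem : ∀ i, f' i ∈ (P.aroots (Subalgebra.centralizer F ({g} : Set (Module.End F V)))).toFinset := by
    intro i
    rw [Multiset.mem_toFinset, Polynomial.mem_aroots]
    exact ⟨hP, hroot i⟩
  let _ : Fintype ι := Fintype.ofFinite ι
  rw [Nat.card_eq_fintype_card, ← Finset.card_univ, ← Finset.card_image_of_injective _ hf']
  have h3 : Finset.univ.image f' ⊆ (P.aroots (Subalgebra.centralizer F ({g} : Set (Module.End F V)))).toFinset := by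
    intro x hx
    obtain ⟨i, -, rfl⟩ := Finset.mem_image.1 hx
    exact hmem i
  refine (Finset.card_le_card h3).trans ((Multiset.toFinset_card_le _).trans ?_)
  refine (Polynomial.card_roots' _).trans ?_
  exact Polynomial.natDegree_map_le

omit [FiniteDimensional F V] in
theorem aeval_pow_card (a : Module.End F V) (P : Polynomial F) (h : Polynomial.aeval a P = 0) :
    Polynomial.aeval (a ^ Nat.card F) P = 0 := by
  have : Fintype F := Fintype.ofFinite F
  rw [← Polynomial.expand_aeval, Nat.card_eq_fintype_card, FiniteField.expand_card, map_pow, h, zero_pow]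
  exact Fintype.card_ne_zero

omit [Finite F] [FiniteDimensional F V] in
theorem aeval_conj (u : (Module.End F V)ˣ) (a : Module.End F V) (P : Polynomial F) :
    Polynomial.aeval ((u : Module.End F V) * a * (u⁻¹ : (Module.End F V)ˣ)) P =
        u * Polynomial.aeval a P * (u⁻¹ : (Module.End F V)ˣ) := by
  induction P using Polynomial.induction_on' with
  | add a b ha hb => rw [map_add, map_add, ha, hb, mul_add, add_mul]
  | monomial n c =>
    rw [Polynomial.aeval_monomial, Polynomial.aeval_monomial, Units.conj_pow,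
      Algebra.algebraMap_eq_smul_one, smul_mul_assoc, smul_mul_assoc, one_mul, one_mul,
      mul_smul_comm, smul_mul_assoc]

/-- If the centraliser `C` of an element `z` of primitive prime order has the maximal possible normaliser, then
every `x` with `C(x) = C(z)` is conjugate to its `q`-th power. -/
theorem isConj_pow {G : Type*} [Group G] (φ : G →* Module.End F V) (hφ : Function.Injective φ)
    (hp : p.Prime) {z : G} (hz : orderOf z = p)
    (hpn : p ∣ Nat.card F ^ finrank F V - 1)
    (hpd : ∀ d, 0 < d → d < finrank F V → ¬ p ∣ Nat.card F ^ d - 1) {x : G}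
    (hx : Subgroup.centralizer ({x} : Set G) = Subgroup.centralizer ({z} : Set G))
    (hN : finrank F V * Nat.card (Subgroup.centralizer ({z} : Set G)) ≤
      Nat.card (Subgroup.normalizer ((Subgroup.centralizer ({z} : Set G) : Subgroup G) : Set G))) :
    IsConj x (x ^ Nat.card F) := by
  have : Finite V := Module.finite_of_finite F
  have : Finite (Module.End F V) := Module.finite_of_finite F
  have : Finite G := Finite.of_injective φ hφ
  have h1 : φ z ^ p = 1 := by rw [← map_pow, ← hz, pow_orderOf_eq_one, map_one]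
  have h2 : φ z ≠ 1 := by
    intro h
    have : z = 1 := hφ (by rw [h, map_one])
    rw [this, orderOf_one] at hz
    exact hp.one_lt.ne hz
  by_contra hcon
  rw [isConj_iff] at hcon
  push Not at hcon
  set C := Subgroup.centralizer ({z} : Set G) with hC
  set N := Subgroup.normalizer (C : Set G) with hNdef
  have hCN : C ≤ N := Subgroup.le_normalizer
  have hxC : x ∈ C := by
    rw [← hx]
    exact Subgroup.mem_centralizer_singleton_iff.2 rfl
  have hconjC : ∀ t ∈ N, t * x * t⁻¹ ∈ C := fun t ht =>
    ((Subgroup.mem_normalizer_iff.1 ht) x).1 hxC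
  rw [Subgroup.card_eq_card_quotient_mul_card_subgroup (C.subgroupOf N)] at hN
  have hcard : Nat.card (C.subgroupOf N) = Nat.card C :=
    Nat.card_congr (Subgroup.subgroupOfEquivOfLe hCN).toEquiv
  rw [hcard] at hN
  have hN2 : finrank F V ≤ Nat.card (N ⧸ C.subgroupOf N) := Nat.le_of_mul_le_mul_right hN Nat.card_pos
  let f0 : (N ⧸ C.subgroupOf N) → G := fun i => (i.out : G) * x * (i.out : G)⁻¹
  have hf0 : Function.Injective f0 := by
    intro i j hij
    have h3 : (i.out : G) * x * (i.out : G)⁻¹ = (j.out : G) * x * (j.out : G)⁻¹ := hij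
    rw [← QuotientGroup.out_eq' i, ← QuotientGroup.out_eq' j]
    apply QuotientGroup.eq.2
    rw [Subgroup.mem_subgroupOf]
    apply hx.le
    apply Subgroup.mem_centralizer_singleton_iff.2
    show ((i.out : G)⁻¹ * (j.out : G)) * x = x * ((i.out : G)⁻¹ * (j.out : G))
    have h4 : (j.out : G) * x = (i.out : G) * x * (i.out : G)⁻¹ * (j.out : G) := by
      rw [h3, inv_mul_cancel_right]
    rw [mul_assoc, h4]
    group
  let f1 : Option (N ⧸ C.subgroupOf N) → G := fun o => o.elim (x ^ Nat.card F) f0
  have hf1 : Function.Injective f1 := by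
    intro a b hab
    cases a with
    | none =>
      cases b with
      | none => rfl
      | some j => exact absurd hab.symm (hcon (j.out : G))
    | some i =>
      cases b with
      | none => exact absurd hab (hcon (i.out : G))
      | some j => exact congrArg some (hf0 hab)
  have hmemC : ∀ o, f1 o ∈ C := by
    intro o
    cases o with
    | none => exact Subgroup.pow_mem _ hxC _
    | some i => exact hconjC _ (i.out).2
  have key := card_le_of_roots hp h1 h2 hpn hpd (LinearMap.charpoly (φ x)) (LinearMap.charpoly_monic _).ne_zero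
    (fun o => φ (f1 o)) (hφ.comp hf1) (fun o => by
      have := Subgroup.mem_centralizer_singleton_iff.1 (hmemC o)
      show φ _ * φ z = φ z * φ _
      rw [← map_mul, ← map_mul, this]) (fun o => by
      cases o with
      | none =>
        show Polynomial.aeval (φ (x ^ Nat.card F)) _ = 0
        rw [map_pow]
        exact aeval_pow_card _ _ (LinearMap.aeval_self_charpoly _)
      | some i =>
        show Polynomial.aeval (φ ((i.out : G) * x * (i.out : G)⁻¹)) _ = 0
        have h5 := aeval_conj ⟨φ (i.out : G), φ ((i.out : G)⁻¹), by rw [← map_mul, mul_inv_cancel, map_one],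
          by rw [← map_mul, inv_mul_cancel, map_one]⟩ (φ x) (LinearMap.charpoly (φ x))
        rw [LinearMap.aeval_self_charpoly, mul_zero, zero_mul] at h5
        rw [map_mul, map_mul]
        exact h5)
  rw [LinearMap.charpoly_natDegree] at key
  have : Finite (N ⧸ C.subgroupOf N) := inferInstance
  rw [Finite.card_option] at key
  omega

end general

section sz

open SuzukiTori SuzukiHyp Cfsg.Agent.H98.SzBasic

variable {F : Type*} [Field F] [Fintype F] {m : ℕ}

theorem free_conj (hm : 1 ≤ m) (hF : Fintype.card F = 2 ^ (2 * m + 1)) {x : Cfsg.Sz F m}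
    (hx : x ∈ SuzukiTori.Hyp.free (Cfsg.Sz F m) (Cfsg.suzukiOvoid F m)) : IsConj x (x ^ Nat.card F) := by
  have : Finite (Cfsg.suzukiOvoid F m) := Finite.of_equiv _ (SuzukiBasic.ovoidEquiv F m)
  have H := hyp hm hF
  have hk := card_centralizer_free hm hF hx
  obtain ⟨g, hg, hc, hn⟩ := H.exists_tori rfl (Nat.card (Subgroup.centralizer ({x} : Set (Cfsg.Sz F m)))) hk
  obtain ⟨p, j, hp, hpq, hj⟩ := H.exists_prime_pow hx
  have hpc : p ∣ Nat.card (Subgroup.centralizer ({x} : Set (Cfsg.Sz F m))) := by
    rw [← hj]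
    exact Subgroup.orderOf_dvd_natCard _ (Subgroup.mem_centralizer_singleton_iff.2 (Commute.self_pow x j).symm)
  obtain ⟨hx1, y, hy⟩ := H.mem_tset_of_dvd hg hx hp (by rw [hc]; exact hpc) hpc
  have hx1' : y⁻¹ * x * y ≠ 1 := by
    intro e
    apply hx1
    have : x = y * (y⁻¹ * x * y) * y⁻¹ := by group
    rw [this, e]
    group
  have h3 := H.centralizer_eq hg hy hx1'
  obtain ⟨r, i, hr, hrq, hi⟩ := H.exists_prime_pow hg
  have h4 := H.centralizer_eq_pow hr hrq hi
  obtain ⟨h5, h6⟩ := dvd_facts hm hF hr hrq
  have h7 : IsConj (y⁻¹ * x * y) ((y⁻¹ * x * y) ^ Nat.card F) := by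
    refine isConj_pow (rep F m) (rep_injective m) hr hi h5 h6 (h3.trans h4) ?_
    rw [← h4, hn, hc, Module.finrank_fin_fun]
  have h8 : IsConj x (y⁻¹ * x * y) := isConj_iff.2 ⟨y⁻¹, by rw [inv_inv]⟩
  have h9 : IsConj (x ^ Nat.card F) ((y⁻¹ * x * y) ^ Nat.card F) := by
    refine isConj_iff.2 ⟨y⁻¹, ?_⟩
    have h10 : y⁻¹ * x * y = y⁻¹ * x * (y⁻¹)⁻¹ := by rw [inv_inv]
    rw [h10, conj_pow]
  exact (h8.trans h7).trans h9.symm

theorem sz_conj' (hm : 1 ≤ m) (hF : Fintype.card F = 2 ^ (2 * m + 1)) {x : Cfsg.Sz F m} (hx : Odd (orderOf x)) :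
    IsConj x (x ^ Nat.card F) := by
  have : Finite (Cfsg.suzukiOvoid F m) := Finite.of_equiv _ (SuzukiBasic.ovoidEquiv F m)
  by_cases hx1 : x = 1
  · rw [hx1, one_pow]
  rcases trichotomy hm hF hx1 with h | ⟨y, k, hk, e⟩ | ⟨y, a, b, hab, e⟩
  · exact free_conj hm hF h
  · have h1 : x ^ Nat.card F = x := by
      have h2 : h hF k ^ Nat.card F = h hF k := by
        have h3 : hHom hF (m := m) k ^ Nat.card F = hHom hF k := by
          rw [← map_pow]
          congr 1
          apply Units.ext
          rw [Units.val_pow_eq_pow_val, Nat.card_eq_fintype_card, FiniteField.pow_card]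
        exact h3
      have h4 : x = y⁻¹ * h hF k * (y⁻¹)⁻¹ := by rw [← e]; group
      rw [h4, conj_pow, h2]
    rw [h1]
  · exfalso
    have h0 : x ∈ ((y⁻¹ • SuzukiSylow.sylowQ hm hF : Sylow 2 (Cfsg.Sz F m)) : Subgroup (Cfsg.Sz F m)) := by
      rw [mem_smul_sylowQ_iff]
      exact ⟨a, b, by rw [inv_inv]; exact e⟩
    obtain ⟨n, hn⟩ := (y⁻¹ • SuzukiSylow.sylowQ hm hF : Sylow 2 (Cfsg.Sz F m)).2 ⟨x, h0⟩
    have h3 : x ^ 2 ^ n = 1 := congrArg Subtype.val hn
    have h4 := orderOf_dvd_of_pow_eq_one h3
    have h5 : orderOf x = 1 := Nat.eq_one_of_dvd_coprimes (Nat.Coprime.pow_left n (Nat.coprime_two_left.2 hx)) h4 dvd_rfl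
    exact hx1 (orderOf_eq_one_iff.1 h5)

/-- In `Sz(K)`, `q = |K|`, an element of odd order is conjugate to its `q`-th power. -/
theorem sz_conj {K : Type*} [Field K] [Finite K] {m : ℕ} (hm : 1 ≤ m) (hK : Nat.card K = 2 ^ (2 * m + 1))
    (x : Cfsg.Lie.Sz K (2 ^ (m + 1))) (hx : Odd (orderOf x)) : IsConj x (x ^ Nat.card K) := by
  have : Fintype K := Fintype.ofFinite K
  rw [Nat.card_eq_fintype_card] at hK
  obtain ⟨e⟩ := Cfsg.Agent.OddCyclic.ClaimC.SzIso.iso (F := K) hm hK
  have h1 := sz_conj' hm hK (x := e.symm x) (by rwa [MulEquiv.orderOf_eq])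
  rw [isConj_iff] at h1 ⊢
  obtain ⟨c, hc⟩ := h1
  refine ⟨e c, ?_⟩
  have h2 := congrArg e hc
  rwa [map_mul, map_mul, map_inv, map_pow, e.apply_symm_apply] at h2

end sz

end Cfsg.Agent.H937.SzConj
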