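import Mathlib
import Cfsg.Agent.H937.Basic
import Cfsg.Agent.Lib.Dihedral

/-!
# Tori of `PGL₂(F)` and their dihedral normalisers
-/

set_option autoImplicit false

namespace Cfsg.Agent.H937

open Matrix OnePoint
open Cfsg.Agent.ClassicalGeometry.DicksonSubfield (gl_mul00 gl_mul01 gl_mul10 gl_mul11 toGL_apply
  gl_det_ne exists_sl_of_isSquare)

section general

variable {G : Type*} [Group G]

/-- The union of a subgroup and a coset by an involution normalising it. -/
def twoUnion (T : Subgroup G) (s : G) (hs : s * s = 1) (hT : ∀ x ∈ T, s * x * s ∈ T) :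
    Subgroup G where
  carrier := {g | g ∈ T ∨ s * g ∈ T}
  one_mem' := Or.inl T.one_mem
  mul_mem' := by
    rintro g h (hg | hg) (hh | hh)
    · exact Or.inl (T.mul_mem hg hh)
    · right
      have h1 := T.mul_mem (hT g hg) hh
      have h2 : s * g * s * (s * h) = s * (g * h) := by
        calc s * g * s * (s * h) = s * g * (s * s) * h := by simp only [mul_assoc]
          _ = s * (g * h) := by rw [hs, mul_one, mul_assoc]
      rwa [h2] at h1
    · right
      have h1 := T.mul_mem hg hh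
      rwa [mul_assoc] at h1
    · left
      have h1 := T.mul_mem (hT _ hg) hh
      have h2 : s * (s * g) * s * (s * h) = g * h := by
        calc s * (s * g) * s * (s * h) = (s * s) * g * (s * s) * h := by simp only [mul_assoc]
          _ = g * h := by rw [hs, one_mul, mul_one]
      rwa [h2] at h1
  inv_mem' := by
    rintro g (hg | hg)
    · exact Or.inl (T.inv_mem hg)
    · right
      have h1 := hT _ (T.inv_mem hg)
      have h2 : s * (s * g)⁻¹ * s = s * g⁻¹ := by
        rw [_root_.mul_inv_rev, inv_eq_of_mul_eq_one_left hs]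
        calc s * (g⁻¹ * s) * s = s * g⁻¹ * (s * s) := by simp only [mul_assoc]
          _ = s * g⁻¹ := by rw [hs, mul_one]
      rwa [h2] at h1

theorem mem_twoUnion {T : Subgroup G} {s : G} {hs : s * s = 1} {hT : ∀ x ∈ T, s * x * s ∈ T}
    {g : G} : g ∈ twoUnion T s hs hT ↔ g ∈ T ∨ s * g ∈ T := Iff.rfl

/-- A finite group with a cyclic subgroup of index two inverted by the involutions outside. -/
theorem dihedral_of_inverted {N T : Subgroup G} (hTN : T ≤ N) (hcyc : IsCyclic T)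
    {n : ℕ} (hn : n ≠ 0) (hT : Nat.card T = n) (hN : Nat.card N = 2 * n)
    (h : ∀ y ∈ N, y ∉ T → y * y = 1 ∧ ∀ x ∈ T, y * x * y = x⁻¹) :
    Nonempty (N ≃* DihedralGroup n) := by
  obtain ⟨⟨ρ, hρ⟩, hgen⟩ := hcyc.exists_generator
  have hord : orderOf ρ = n := by
    rw [← hT, ← orderOf_eq_card_of_forall_mem_zpowers hgen]
    exact (Subgroup.orderOf_mk ρ hρ).symm
  obtain ⟨s, hsN, hsT⟩ : ∃ s ∈ N, s ∉ T := by
    by_contra hcon
    push Not at hcon
    have h1 : N = T := le_antisymm hcon hTN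
    rw [h1, hT] at hN
    omega
  obtain ⟨h1, h2⟩ := h s hsN hsT
  exact Cfsg.Agent.Lib.Dihedral.nonempty_mulEquiv_subgroup hn N ρ s (hTN hρ) hsN hord h1
    (h2 ρ hρ) (fun h3 => hsT ((Subgroup.zpowers_le.mpr hρ) h3)) hN

/-- Intersection with a subgroup of index two. -/
theorem dihedral_inf [Finite G] {N T L : Subgroup G} (hTN : T ≤ N) (hcyc : IsCyclic T)
    {n k : ℕ} (hk : k ≠ 0) (hnk : n = 2 * k) (hT : Nat.card T = n) (hN : Nat.card N = 2 * n)
    (h : ∀ y ∈ N, y ∉ T → y * y = 1 ∧ ∀ x ∈ T, y * x * y = x⁻¹) (hL : L.index = 2)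
    (hTL : ¬ T ≤ L) :
    Nonempty ((N ⊓ L : Subgroup G) ≃* DihedralGroup k) := by
  have key : ∀ X : Subgroup G, ¬ X ≤ L → 2 * Nat.card (X ⊓ L : Subgroup G) = Nat.card X := by
    intro X hX
    have h1 : L.relIndex X = 2 := by
      have hLn : L.Normal := Subgroup.normal_of_index_eq_two hL
      have h2 : L.relIndex X ∣ 2 := by
        have := Subgroup.relIndex_dvd_index_of_normal L X
        rwa [hL] at this
      rcases (Nat.dvd_prime Nat.prime_two).mp h2 with h3 | h3
      · exact absurd (Subgroup.relIndex_eq_one.mp h3) hX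
      · exact h3
    have h2 := Subgroup.card_mul_index (L.subgroupOf X)
    have h3 : Nat.card (L.subgroupOf X) = Nat.card (X ⊓ L : Subgroup G) := by
      rw [← Subgroup.inf_subgroupOf_left]
      exact Nat.card_congr (Subgroup.subgroupOfEquivOfLe inf_le_left).toEquiv
    rw [h3] at h2
    have h4 : (L.subgroupOf X).index = 2 := h1
    rw [h4] at h2
    omega
  have hNL : ¬ N ≤ L := fun h1 => hTL (hTN.trans h1)
  have h1 := key T hTL
  have h2 := key N hNL
  apply dihedral_of_inverted (T := T ⊓ L) (inf_le_inf_right L hTN) ?_ hk (by omega) (by omega)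
  · rintro y ⟨hyN, hyL⟩ hyT
    obtain ⟨h3, h4⟩ := h y hyN (fun h5 => hyT ⟨h5, hyL⟩)
    exact ⟨h3, fun x hx => h4 x hx.1⟩
  · have h3 : (T ⊓ L) ≤ T := inf_le_left
    exact isCyclic_of_injective (Subgroup.inclusion h3) (Subgroup.inclusion_injective h3)

end general

section torus

variable {F : Type*} [Field F]

/-- The centraliser of the companion matrix of `X² - t X + d`. -/
def TT (t d : F) : Subgroup (GL (Fin 2) F) where
  carrier := {g | g 0 1 = - d * g 1 0 ∧ g 1 1 = g 0 0 + t * g 1 0}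
  one_mem' := by
    refine ⟨?_, ?_⟩
    · rw [one01, one10, mul_zero]
    · rw [one11, one00, one10, mul_zero, add_zero]
  mul_mem' := by
    rintro g h ⟨h1, h2⟩ ⟨h3, h4⟩
    refine ⟨?_, ?_⟩
    · rw [gl_mul01, gl_mul10, h1, h2, h3, h4]; ring
    · rw [gl_mul11, gl_mul00, gl_mul10, h1, h2, h3, h4]; ring
  inv_mem' := by
    rintro g ⟨h1, h2⟩
    have e1 : g * g⁻¹ = 1 := mul_inv_cancel g
    have e00 : g 0 0 * g⁻¹ 0 0 + g 0 1 * g⁻¹ 1 0 = 1 := by rw [← gl_mul00, e1, one00]
    have e01 : g 0 0 * g⁻¹ 0 1 + g 0 1 * g⁻¹ 1 1 = 0 := by rw [← gl_mul01, e1, one01]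
    have e10 : g 1 0 * g⁻¹ 0 0 + g 1 1 * g⁻¹ 1 0 = 0 := by rw [← gl_mul10, e1, one10]
    have e11 : g 1 0 * g⁻¹ 0 1 + g 1 1 * g⁻¹ 1 1 = 1 := by rw [← gl_mul11, e1, one11]
    have hdet := gl_det_ne g
    rw [h1] at e00 e01
    rw [h2] at e10 e11
    rw [h1, h2] at hdet
    have i00 : g⁻¹ 0 0 * (g 0 0 * (g 0 0 + t * g 1 0) - -d * g 1 0 * g 1 0) =
        g 0 0 + t * g 1 0 := by
      linear_combination (g 0 0 + t * g 1 0) * e00 + (d * g 1 0) * e10
    have i10 : g⁻¹ 1 0 * (g 0 0 * (g 0 0 + t * g 1 0) - -d * g 1 0 * g 1 0) = - g 1 0 := by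
      linear_combination (g 0 0) * e10 - (g 1 0) * e00
    have i01 : g⁻¹ 0 1 * (g 0 0 * (g 0 0 + t * g 1 0) - -d * g 1 0 * g 1 0) = d * g 1 0 := by
      linear_combination (g 0 0 + t * g 1 0) * e01 + (d * g 1 0) * e11
    have i11 : g⁻¹ 1 1 * (g 0 0 * (g 0 0 + t * g 1 0) - -d * g 1 0 * g 1 0) = g 0 0 := by
      linear_combination (g 0 0) * e11 - (g 1 0) * e01
    refine ⟨?_, ?_⟩
    · apply mul_right_cancel₀ hdet
      rw [i01, mul_assoc, i10]; ring
    · apply mul_right_cancel₀ hdet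
      rw [i11, add_mul, i00, mul_assoc, i10]; ring

theorem mem_TT {t d : F} {g : GL (Fin 2) F} :
    g ∈ TT t d ↔ g 0 1 = - d * g 1 0 ∧ g 1 1 = g 0 0 + t * g 1 0 := Iff.rfl

/-- The involution normalising `TT t d`. -/
noncomputable def BB (t : F) : GL (Fin 2) F :=
  GeneralLinearGroup.mkOfDetNeZero !![1, t; 0, -1] (by simp)

theorem BB00 (t : F) : BB t 0 0 = 1 := rfl
theorem BB01 (t : F) : BB t 0 1 = t := rfl
theorem BB10 (t : F) : BB t 1 0 = 0 := rfl
theorem BB11 (t : F) : BB t 1 1 = -1 := rfl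

theorem BB_sq (t : F) : BB t * BB t = 1 := by
  apply gl_ext
  · rw [gl_mul00, BB00, BB01, BB10, one00]; ring
  · rw [gl_mul01, BB00, BB01, BB11, one01]; ring
  · rw [gl_mul10, BB10, BB00, BB11, one10]; ring
  · rw [gl_mul11, BB10, BB01, BB11, one11]; ring

/-- Conjugation by `BB` gives the adjugate. -/
theorem BB_conj {t d : F} {g : GL (Fin 2) F} (hg : g ∈ TT t d) :
    (BB t * g * BB t) 0 0 = g 1 1 ∧ (BB t * g * BB t) 0 1 = - g 0 1 ∧
      (BB t * g * BB t) 1 0 = - g 1 0 ∧ (BB t * g * BB t) 1 1 = g 0 0 := by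
  obtain ⟨h1, h2⟩ := hg
  refine ⟨?_, ?_, ?_, ?_⟩
  · rw [gl_mul00, gl_mul00, gl_mul01, BB00, BB01, BB10, h1, h2]; ring
  · rw [gl_mul01, gl_mul00, gl_mul01, BB00, BB01, BB11, h1, h2]; ring
  · rw [gl_mul10, gl_mul10, gl_mul11, BB00, BB10, BB11, h1, h2]; ring
  · rw [gl_mul11, gl_mul10, gl_mul11, BB01, BB10, BB11, h1, h2]; ring

theorem BB_conj_mem {t d : F} (g : GL (Fin 2) F) (hg : g ∈ TT t d) :
    BB t * g * BB t ∈ TT t d := by
  obtain ⟨h00, h01, h10, h11⟩ := BB_conj hg
  obtain ⟨h1, h2⟩ := hg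
  rw [mem_TT, h00, h01, h10, h11]
  refine ⟨?_, ?_⟩
  · rw [h1]; ring
  · rw [h2]; ring

/-- The normaliser. -/
noncomputable def NT (t d : F) : Subgroup (GL (Fin 2) F) :=
  twoUnion (TT t d) (BB t) (BB_sq t) BB_conj_mem

theorem mem_NT {t d : F} {g : GL (Fin 2) F} : g ∈ NT t d ↔ g ∈ TT t d ∨ BB t * g ∈ TT t d :=
  Iff.rfl

/-- The companion matrix. -/
noncomputable def CC (t d : F) (hd : d ≠ 0) : GL (Fin 2) F :=
  GeneralLinearGroup.mkOfDetNeZero !![0, -d; 1, t] (by simpa using hd)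

theorem CC00 (t d : F) (hd : d ≠ 0) : CC t d hd 0 0 = 0 := rfl
theorem CC01 (t d : F) (hd : d ≠ 0) : CC t d hd 0 1 = -d := rfl
theorem CC10 (t d : F) (hd : d ≠ 0) : CC t d hd 1 0 = 1 := rfl
theorem CC11 (t d : F) (hd : d ≠ 0) : CC t d hd 1 1 = t := rfl

theorem CC_mem (t d : F) (hd : d ≠ 0) : CC t d hd ∈ TT t d := by
  rw [mem_TT, CC00, CC01, CC10, CC11]
  exact ⟨by ring, by ring⟩

/-- Elements commuting with the companion matrix. -/
theorem mem_TT_of_commute {t d : F} (hd : d ≠ 0) {g : GL (Fin 2) F}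
    (h : g * CC t d hd = CC t d hd * g) : g ∈ TT t d := by
  have e00 := congrArg (fun M : GL (Fin 2) F => M 0 0) h
  have e10 := congrArg (fun M : GL (Fin 2) F => M 1 0) h
  simp only [gl_mul00, gl_mul10, CC00, CC01, CC10, CC11] at e00 e10
  rw [mem_TT]
  exact ⟨by linear_combination e00, by linear_combination e10⟩

theorem trace_conj (g A : GL (Fin 2) F) :
    (g * A * g⁻¹) 0 0 + (g * A * g⁻¹) 1 1 = A 0 0 + A 1 1 := by
  have h1 : ((g * A * g⁻¹ : GL (Fin 2) F) : Matrix (Fin 2) (Fin 2) F).trace =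
      (A : Matrix (Fin 2) (Fin 2) F).trace := by
    rw [Units.val_mul, Units.val_mul]
    rw [Matrix.trace_mul_comm, ← mul_assoc]
    have h2 : ((g⁻¹ : GL (Fin 2) F) : Matrix (Fin 2) (Fin 2) F) * (g : Matrix (Fin 2) (Fin 2) F) =
        1 := Units.inv_mul g
    rw [h2, one_mul]
  rw [trace_fin_two, trace_fin_two] at h1
  exact h1

theorem det_conj (g A : GL (Fin 2) F) :
    (g * A * g⁻¹) 0 0 * (g * A * g⁻¹) 1 1 - (g * A * g⁻¹) 0 1 * (g * A * g⁻¹) 1 0 =
      A 0 0 * A 1 1 - A 0 1 * A 1 0 := by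
  have h1 : ((g * A * g⁻¹ : GL (Fin 2) F) : Matrix (Fin 2) (Fin 2) F).det =
      (A : Matrix (Fin 2) (Fin 2) F).det := by
    have h2 : GeneralLinearGroup.det (g * A * g⁻¹) = GeneralLinearGroup.det A := by
      rw [map_mul, map_mul, map_inv, mul_comm, inv_mul_cancel_left]
    exact congrArg Units.val h2
  rw [det_gl, det_gl] at h1
  exact h1

/-- The normaliser property. -/
theorem mem_NT_of_conj {t d : F} (hd : d ≠ 0) (hdisc : t ^ 2 - 4 * d ≠ 0) {g : GL (Fin 2) F}
    (h : g * CC t d hd * g⁻¹ ∈ TT t d) : g ∈ NT t d := by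
  set X := g * CC t d hd * g⁻¹ with hX
  have hgC : g * CC t d hd = X * g := by rw [hX, inv_mul_cancel_right]
  obtain ⟨h1, h2⟩ := h
  have htr := trace_conj g (CC t d hd)
  have hdet := det_conj g (CC t d hd)
  rw [← hX, CC00, CC11, h2] at htr
  rw [← hX, CC00, CC11, CC01, CC10, h1, h2] at hdet
  set x := X 0 0 with hx
  set z := X 1 0 with hz
  have hz2 : z ^ 2 = 1 := by
    apply mul_left_cancel₀ hdisc
    linear_combination (2 * x + t * z + t) * htr - 4 * hdet
  have hxx : x * (x + t * z) = 0 := by linear_combination hdet - d * hz2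
  -- the two possibilities
  have hcases : (X = CC t d hd) ∨ (X 0 0 = t ∧ X 0 1 = d ∧ X 1 0 = -1 ∧ X 1 1 = 0) := by
    have hzc : (z - 1) * (z + 1) = 0 := by linear_combination hz2
    have hC : x = 0 → z = 1 → X = CC t d hd := by
      intro hx0 hz1
      apply gl_ext
      · rw [← hx, hx0, CC00]
      · rw [h1, hz1, CC01, mul_one]
      · rw [← hz, hz1, CC10]
      · rw [h2, hx0, hz1, CC11]; ring
    have hC' : x = t → z = -1 → (X 0 0 = t ∧ X 0 1 = d ∧ X 1 0 = -1 ∧ X 1 1 = 0) := by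
      intro hx0 hz1
      refine ⟨by rw [← hx, hx0], by rw [h1, hz1]; ring, by rw [← hz, hz1], ?_⟩
      rw [h2, hx0, hz1]; ring
    rcases mul_eq_zero.mp hxx with hx0 | hx0
    · rcases mul_eq_zero.mp hzc with hz1 | hz1
      · exact Or.inl (hC hx0 (by linear_combination hz1))
      · have hz1' : z = -1 := by linear_combination hz1
        by_cases ht : t = 0
        · exact Or.inr (hC' (by rw [hx0, ht]) hz1')
        · left
          have h3 : t * (z - 1) = 0 := by linear_combination htr - 2 * hx0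
          have h4 := (mul_eq_zero.mp h3).resolve_left ht
          exact hC hx0 (by linear_combination h4)
    · rcases mul_eq_zero.mp hzc with hz1 | hz1
      · have hz1' : z = 1 := by linear_combination hz1
        by_cases ht : t = 0
        · exact Or.inl (hC (by rw [ht] at hx0; linear_combination hx0) hz1')
        · right
          have h3 : t * (z + 1) = 0 := by linear_combination -htr + 2 * hx0
          have h4 := (mul_eq_zero.mp h3).resolve_left ht
          exact hC' (by linear_combination hx0 - t * h4) (by linear_combination h4)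
      · right
        exact hC' (by linear_combination hx0 - t * hz1) (by linear_combination hz1)
  rw [mem_NT]
  rcases hcases with hc | ⟨c00, c01, c10, c11⟩
  · left
    rw [hc] at hgC
    exact mem_TT_of_commute hd hgC
  · right
    have e00 := congrArg (fun M : GL (Fin 2) F => M 0 0) hgC
    have e01 := congrArg (fun M : GL (Fin 2) F => M 0 1) hgC
    have e10 := congrArg (fun M : GL (Fin 2) F => M 1 0) hgC
    have e11 := congrArg (fun M : GL (Fin 2) F => M 1 1) hgC
    simp only [gl_mul00, gl_mul10, gl_mul01, gl_mul11, CC00, CC01, CC10, CC11, c00, c01, c10,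
      c11] at e00 e01 e10 e11
    rw [mem_TT]
    refine ⟨?_, ?_⟩
    · rw [gl_mul01, gl_mul10, BB00, BB01, BB10, BB11]
      linear_combination e00 + t * e10
    · rw [gl_mul11, gl_mul00, gl_mul10, BB00, BB01, BB10, BB11]
      linear_combination (-1 : F) * e10

/-- The image of the torus in `PGL₂(F)`. -/
def TP (t d : F) : Subgroup (PGL F) := (TT t d).map pr

/-- The image of the normaliser of the torus in `PGL₂(F)`. -/
noncomputable def NP (t d : F) : Subgroup (PGL F) := (NT t d).map pr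

theorem center_le_TT (t d : F) {g : GL (Fin 2) F} (h : pr g = 1) : g ∈ TT t d := by
  rw [pr_eq_one_iff] at h
  obtain ⟨h01, h10, h⟩ := h
  rw [mem_TT, h01, h10, h]
  exact ⟨by ring, by ring⟩

theorem pr_mem_TP {t d : F} {g : GL (Fin 2) F} : pr g ∈ TP t d ↔ g ∈ TT t d := by
  constructor
  · rintro ⟨h, hh, hhg⟩
    have h1 : pr (h⁻¹ * g) = 1 := by
      rw [map_mul, map_inv, hhg, inv_mul_cancel]
    have h2 := mul_mem hh (center_le_TT t d h1)
    rwa [mul_inv_cancel_left] at h2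
  · intro h
    exact ⟨g, h, rfl⟩

theorem pr_mem_NP {t d : F} {g : GL (Fin 2) F} : pr g ∈ NP t d ↔ g ∈ NT t d := by
  constructor
  · rintro ⟨h, hh, hhg⟩
    have h1 : pr (h⁻¹ * g) = 1 := by
      rw [map_mul, map_inv, hhg, inv_mul_cancel]
    have h2 := mul_mem hh (show h⁻¹ * g ∈ NT t d from Or.inl (center_le_TT t d h1))
    rwa [mul_inv_cancel_left] at h2
  · intro h
    exact ⟨g, h, rfl⟩

theorem TP_le_NP (t d : F) : TP t d ≤ NP t d := by
  rintro _ ⟨g, hg, rfl⟩
  exact ⟨g, Or.inl hg, rfl⟩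

theorem BB_not_mem {t d : F} (hdisc : t ^ 2 - 4 * d ≠ 0) : BB t ∉ TT t d := by
  rintro ⟨h1, h2⟩
  rw [BB01, BB10] at h1
  rw [BB11, BB00, BB10] at h2
  apply hdisc
  linear_combination t * h1 + 2 * d * h2

/-- Elements of the normaliser outside the torus are involutions inverting the torus. -/
theorem NP_inverts {t d : F} :
    ∀ y ∈ NP t d, y ∉ TP t d → y * y = 1 ∧ ∀ x ∈ TP t d, y * x * y = x⁻¹ := by
  rintro _ ⟨g, hg, rfl⟩ hy
  have hg' : BB t * g ∈ TT t d := by
    rcases hg with h | h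
    · exact absurd ⟨g, h, rfl⟩ hy
    · exact h
  -- entries of `g`
  obtain ⟨h1, h2⟩ := hg'
  rw [gl_mul01, gl_mul10, BB00, BB01, BB10, BB11] at h1
  rw [gl_mul11, gl_mul00, gl_mul10, BB00, BB01, BB10, BB11] at h2
  have g11 : g 1 1 = - g 0 0 := by linear_combination (-1 : F) * h2
  have g01 : g 0 1 = t * g 0 0 + d * g 1 0 := by linear_combination h1 - t * g11
  have hdet := gl_det_ne g
  have hsq : ∀ x ∈ TT t d, pr (g * x * g) = (pr x)⁻¹ := by
    rintro x ⟨h3, h4⟩
    have hdx := gl_det_ne x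
    rw [← map_inv, ← mul_inv_eq_one, ← map_inv, inv_inv, ← map_mul, pr_eq_one_iff]
    rw [g11, g01] at hdet
    refine ⟨?_, ?_, ?_⟩
    · simp only [gl_mul01, gl_mul00, gl_mul10, gl_mul11, g11, g01, h3, h4]; ring
    · simp only [gl_mul01, gl_mul00, gl_mul10, gl_mul11, g11, g01, h3, h4]; ring
    · simp only [gl_mul01, gl_mul00, gl_mul10, gl_mul11, g11, g01, h3, h4]; ring
  refine ⟨?_, ?_⟩
  · have h3 := hsq 1 (one_mem _)
    rw [mul_one, map_one, inv_one, map_mul] at h3
    exact h3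
  · rintro _ ⟨x, hx, rfl⟩
    rw [← map_mul, ← map_mul]
    exact hsq x hx

end torus

end Cfsg.Agent.H937
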