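import Mathlib
import Cfsg.Agent.H937.TorusCard
import Cfsg.Agent.ClassicalGeometry.PSL2ElemOrder

/-!
# The normaliser of a semisimple element of `PGL₂(F)` lies in a dihedral group
-/

set_option autoImplicit false

namespace Cfsg.Agent.H937

open Matrix
open Cfsg.Agent.ClassicalGeometry.DicksonSubfield (gl_mul00 gl_mul01 gl_mul10 gl_mul11 toGL_apply
  gl_det_ne exists_sl_of_isSquare)

section LLcard

variable {F : Type*} [Field F]

instance finite_PGL [Finite F] : Finite (PGL F) := Finite.of_surjective _ pr_surjective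

instance finite_PSL [Finite F] : Finite (PSL F) :=
  Finite.of_surjective _ (QuotientGroup.mk_surjective (s := Subgroup.center _))

theorem card_LL : Nat.card (LL F) = Nat.card (PSL F) :=
  (Nat.card_congr (MonoidHom.ofInjective ta_injective).toEquiv).symm

theorem index_LL_odd [Fintype F] (hodd : Odd (Fintype.card F)) : (LL F).index = 2 := by
  have h1 := (LL F).card_mul_index
  rw [card_LL, Cfsg.Agent.ClassicalGeometry.PSL2Basic.card_PGL2,
    ← Cfsg.Agent.ClassicalGeometry.PSL2Basic.card_PSL2_odd F hodd] at h1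
  exact Nat.eq_of_mul_eq_mul_left Nat.card_pos h1

theorem LL_eq_top_even [Fintype F] (heven : Even (Fintype.card F)) : LL F = ⊤ := by
  apply Subgroup.eq_top_of_card_eq
  rw [card_LL, Cfsg.Agent.ClassicalGeometry.PSL2Basic.card_PGL2,
    Cfsg.Agent.ClassicalGeometry.PSL2Basic.card_PSL2_even F heven]

end LLcard

section companion

variable {F : Type*} [Field F]

theorem conj_CC_of_row {A : GL (Fin 2) F} (t d : F) (ht : A 0 0 + A 1 1 = t)
    (hd : A 0 0 * A 1 1 - A 0 1 * A 1 0 = d) (hd0 : d ≠ 0) (x y : F)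
    (hxy : (x * A 0 0 + y * A 1 0 - t * x) * y - (x * A 0 1 + y * A 1 1 - t * y) * x ≠ 0) :
    ∃ g : GL (Fin 2) F, g * A = CC t d hd0 * g := by
  refine ⟨GeneralLinearGroup.mkOfDetNeZero !![x * A 0 0 + y * A 1 0 - t * x,
    x * A 0 1 + y * A 1 1 - t * y; x, y] (by rw [det_fin_two_of]; exact hxy), ?_⟩
  set g := GeneralLinearGroup.mkOfDetNeZero !![x * A 0 0 + y * A 1 0 - t * x,
    x * A 0 1 + y * A 1 1 - t * y; x, y] (by rw [det_fin_two_of]; exact hxy) with hg
  have g00 : g 0 0 = x * A 0 0 + y * A 1 0 - t * x := rfl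
  have g01 : g 0 1 = x * A 0 1 + y * A 1 1 - t * y := rfl
  have g10 : g 1 0 = x := rfl
  have g11 : g 1 1 = y := rfl
  apply gl_ext
  · simp only [gl_mul00, CC00, CC01, g00, g01, g10]
    rw [← hd, ← ht]; ring
  · simp only [gl_mul01, CC00, CC01, g00, g01, g11]
    rw [← hd, ← ht]; ring
  · simp only [gl_mul10, CC10, CC11, g00, g10, g11]; ring
  · simp only [gl_mul11, CC10, CC11, g01, g10, g11]; ring

/-- A non-scalar matrix is conjugate to a companion matrix. -/
theorem exists_conj_CC {A : GL (Fin 2) F} (t d : F) (ht : A 0 0 + A 1 1 = t)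
    (hd : A 0 0 * A 1 1 - A 0 1 * A 1 0 = d) (hd0 : d ≠ 0) (hA : pr A ≠ 1) :
    ∃ g : GL (Fin 2) F, g * A = CC t d hd0 * g := by
  by_cases h01 : A 0 1 = 0
  · by_cases h10 : A 1 0 = 0
    · apply conj_CC_of_row t d ht hd hd0 1 1
      intro h
      apply hA
      rw [pr_eq_one_iff]
      exact ⟨h01, h10, by linear_combination h + h01 - h10⟩
    · apply conj_CC_of_row t d ht hd hd0 0 1
      intro h
      apply h10
      linear_combination h
  · apply conj_CC_of_row t d ht hd hd0 1 0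
    intro h
    apply h01
    linear_combination -h

end companion

section main

variable {F : Type*} [Field F]

/-- The torus is not contained in `PSL₂(F)`. -/
theorem not_TP_le [Fintype F] (hodd : Odd (Fintype.card F)) (h3 : 3 < Fintype.card F) {t d : F}
    (hdisc : t ^ 2 - 4 * d ≠ 0) {n : ℕ} (hn : n = Fintype.card F - 1 ∨ n = Fintype.card F + 1)
    (hT : Nat.card (TP t d) = n) : ¬ TP t d ≤ LL F := by
  intro hle
  obtain ⟨p, hp⟩ := CharP.exists F
  have hpp : Fact p.Prime := ⟨CharP.char_is_prime F p⟩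
  obtain ⟨m, hp', hm⟩ := FiniteField.card F p
  have hpq : p ∣ Fintype.card F := by
    rw [hm]
    exact dvd_pow_self p m.ne_zero
  have hpn : ¬ p ∣ n := by
    intro h
    rcases hn with rfl | rfl
    · have h1 := Nat.dvd_sub hpq h
      have h2 : Fintype.card F - (Fintype.card F - 1) = 1 := by omega
      rw [h2] at h1
      exact hp'.one_lt.ne' (Nat.dvd_one.mp h1)
    · have h1 := (Nat.dvd_add_right hpq).mp h
      exact hp'.one_lt.ne' (Nat.dvd_one.mp h1)
  obtain ⟨⟨ρ, hρ⟩, hgen⟩ := (TP_cyclic hdisc).exists_generator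
  have hord : orderOf ρ = n := by
    rw [← hT, ← orderOf_eq_card_of_forall_mem_zpowers hgen]
    exact (Subgroup.orderOf_mk ρ hρ).symm
  obtain ⟨a, ha⟩ := hle hρ
  have hord' : orderOf a = n := by
    rw [← hord, ← ha]
    exact (orderOf_injective ta ta_injective a).symm
  have h1 := Cfsg.Agent.ClassicalGeometry.PSL2ElemOrder.orderOf_dvd rfl p a (by rwa [hord'])
  have hgcd : Nat.gcd 2 (Fintype.card F - 1) = 2 := by
    apply Nat.gcd_eq_left
    rw [Nat.odd_iff] at hodd
    omega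
  rw [hgcd, hord'] at h1
  rcases h1 with h1 | h1
  · have h2 := Nat.le_of_dvd (by omega) h1
    rcases hn with rfl | rfl <;> omega
  · have h2 := Nat.le_of_dvd (by omega) h1
    rcases hn with rfl | rfl <;> omega

end main

section conj

variable {G : Type*} [Group G]

/-- Conjugation of subgroups. -/
def cj (b : G) (H : Subgroup G) : Subgroup G := H.map (MulAut.conj b).toMonoidHom

theorem mem_cj {b : G} {H : Subgroup G} {x : G} : x ∈ cj b H ↔ b⁻¹ * x * b ∈ H := by
  constructor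
  · rintro ⟨y, hy, rfl⟩
    have h1 : b⁻¹ * (MulAut.conj b).toMonoidHom y * b = y := by
      show b⁻¹ * (b * y * b⁻¹) * b = y
      group
    rwa [h1]
  · intro h
    refine ⟨_, h, ?_⟩
    show b * (b⁻¹ * x * b) * b⁻¹ = x
    group

theorem cj_one (H : Subgroup G) : cj 1 H = H := by
  ext x
  rw [mem_cj]
  simp

theorem cj_mul (a b : G) (H : Subgroup G) : cj (a * b) H = cj a (cj b H) := by
  ext x
  rw [mem_cj, mem_cj, mem_cj]
  have : (a * b)⁻¹ * x * (a * b) = b⁻¹ * (a⁻¹ * x * a) * b := by group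
  rw [this]

theorem cj_inv_cj (b : G) (H : Subgroup G) : cj b⁻¹ (cj b H) = H := by
  rw [← cj_mul, inv_mul_cancel, cj_one]

theorem cj_cj_inv (b : G) (H : Subgroup G) : cj b (cj b⁻¹ H) = H := by
  rw [← cj_mul, mul_inv_cancel, cj_one]

theorem cj_le_cj (b : G) {H K : Subgroup G} : cj b H ≤ cj b K ↔ H ≤ K := by
  constructor
  · intro h x hx
    have h1 : b * x * b⁻¹ ∈ cj b H := by
      rw [mem_cj]
      have : b⁻¹ * (b * x * b⁻¹) * b = x := by group
      rwa [this]
    have h2 := h h1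
    rw [mem_cj] at h2
    have : b⁻¹ * (b * x * b⁻¹) * b = x := by group
    rwa [this] at h2
  · intro h x hx
    rw [mem_cj] at hx ⊢
    exact h hx

theorem cj_mono (b : G) {H K : Subgroup G} (h : H ≤ K) : cj b H ≤ cj b K := (cj_le_cj b).mpr h

theorem cj_injective (b : G) : Function.Injective (cj b : Subgroup G → Subgroup G) := by
  intro H K h
  rw [← cj_inv_cj b H, h, cj_inv_cj]

theorem cj_inf (b : G) (H K : Subgroup G) : cj b (H ⊓ K) = cj b H ⊓ cj b K := by
  ext x
  rw [mem_cj, Subgroup.mem_inf, Subgroup.mem_inf, mem_cj, mem_cj]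

theorem cj_normal (b : G) (H : Subgroup G) [hH : H.Normal] : cj b H = H := by
  ext x
  rw [mem_cj]
  constructor
  · intro h
    have h1 := hH.conj_mem _ h b
    have : b * (b⁻¹ * x * b) * b⁻¹ = x := by group
    rwa [this] at h1
  · intro h
    have h1 := hH.conj_mem _ h b⁻¹
    rwa [inv_inv] at h1

theorem cj_top (b : G) : cj b (⊤ : Subgroup G) = ⊤ := cj_normal b ⊤

/-- The isomorphism with the conjugate. -/
noncomputable def cjEquiv (b : G) (H : Subgroup G) : H ≃* cj b H :=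
  H.equivMapOfInjective _ (MulAut.conj b).injective

theorem card_cj (b : G) (H : Subgroup G) : Nat.card (cj b H) = Nat.card H :=
  (Nat.card_congr (cjEquiv b H).toEquiv).symm

theorem cj_covBy {b : G} {H K : Subgroup G} : cj b H ⋖ cj b K ↔ H ⋖ K := by
  constructor
  · rintro ⟨h1, h2⟩
    refine ⟨lt_of_le_of_ne ((cj_le_cj b).mp h1.le) (fun h => h1.ne (by rw [h])), ?_⟩
    intro X hX hX'
    exact h2 (lt_of_le_of_ne (cj_mono b hX.le) (fun h => hX.ne (cj_injective b h)))
      (lt_of_le_of_ne (cj_mono b hX'.le) (fun h => hX'.ne (cj_injective b h)))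
  · rintro ⟨h1, h2⟩
    refine ⟨lt_of_le_of_ne (cj_mono b h1.le) (fun h => h1.ne (cj_injective b h)), ?_⟩
    intro X hX hX'
    rw [← cj_cj_inv b X] at hX hX'
    exact h2 (lt_of_le_of_ne ((cj_le_cj b).mp hX.le) (fun h => hX.ne (by rw [h])))
      (lt_of_le_of_ne ((cj_le_cj b).mp hX'.le) (fun h => hX'.ne (by rw [h])))

end conj

section main2

variable {F : Type*} [Field F]

/-- The normaliser of the subgroup generated by a semisimple element lies in a dihedral group. -/
theorem exists_torus [Fintype F] (A : GL (Fin 2) F)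
    (hdisc : (A 0 0 + A 1 1) ^ 2 - 4 * (A 0 0 * A 1 1 - A 0 1 * A 1 0) ≠ 0) :
    ∃ N : Subgroup (PGL F), (∀ h : PGL F, h * pr A * h⁻¹ ∈ Subgroup.zpowers (pr A) → h ∈ N) ∧
      ∃ n : ℕ, (n = Fintype.card F - 1 ∨ n = Fintype.card F + 1) ∧
        Nonempty (N ≃* DihedralGroup n) ∧
        (Odd (Fintype.card F) → 3 < Fintype.card F → ∀ k : ℕ, 2 * k = n →
          Nonempty ((N ⊓ LL F : Subgroup (PGL F)) ≃* DihedralGroup k)) := by
  classical
  obtain ⟨t, ht⟩ : ∃ t, A 0 0 + A 1 1 = t := ⟨_, rfl⟩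
  obtain ⟨d, hd⟩ : ∃ d, A 0 0 * A 1 1 - A 0 1 * A 1 0 = d := ⟨_, rfl⟩
  have hd0 : d ≠ 0 := by rw [← hd]; exact gl_det_ne A
  rw [ht, hd] at hdisc
  have hA : pr A ≠ 1 := by
    intro h
    rw [pr_eq_one_iff] at h
    obtain ⟨h01, h10, h11⟩ := h
    apply hdisc
    rw [← ht, ← hd, h01, h11]
    ring
  obtain ⟨g, hg⟩ := exists_conj_CC t d ht hd hd0 hA
  have hg' : g * A * g⁻¹ = CC t d hd0 := by rw [hg, mul_inv_cancel_right]
  obtain ⟨n, hn, hT⟩ : ∃ n : ℕ, (n = Fintype.card F - 1 ∨ n = Fintype.card F + 1) ∧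
      Nat.card (TP t d) = n := by
    by_cases h : ∀ x : F, x ^ 2 + t * x + d ≠ 0
    · exact ⟨_, Or.inr rfl, card_TP_nonsplit h⟩
    · push Not at h
      obtain ⟨y, hy⟩ := h
      exact ⟨_, Or.inl rfl, card_TP_split hdisc hy⟩
  have hq : 1 < Fintype.card F := Fintype.one_lt_card
  have hn0 : n ≠ 0 := by rcases hn with rfl | rfl <;> omega
  have hN : Nat.card (NP t d) = 2 * n := by rw [card_NP hdisc, hT]
  have hcyc := TP_cyclic hdisc
  refine ⟨cj (pr g)⁻¹ (NP t d), ?_, n, hn, ?_, ?_⟩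
  · intro h hh
    obtain ⟨h, rfl⟩ := pr_surjective h
    rw [mem_cj, inv_inv, ← map_inv, ← map_mul, ← map_mul, pr_mem_NP]
    apply mem_NT_of_conj hd0 hdisc
    rw [← hg', ← pr_mem_TP]
    obtain ⟨i, hi⟩ := hh
    have hi' : (pr A) ^ i = pr h * pr A * (pr h)⁻¹ := hi
    have h1 : pr (g * h * g⁻¹ * (g * A * g⁻¹) * (g * h * g⁻¹)⁻¹) =
        (pr (CC t d hd0)) ^ i := by
      rw [← hg']
      simp only [map_mul, map_inv]
      have h2 : (pr g * pr A * (pr g)⁻¹) ^ i = pr g * (pr A) ^ i * (pr g)⁻¹ := conj_zpow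
      rw [h2, hi']
      group
    rw [h1]
    exact zpow_mem (pr_mem_TP.mpr (CC_mem t d hd0)) i
  · obtain ⟨e⟩ := dihedral_of_inverted (TP_le_NP t d) hcyc hn0 hT hN NP_inverts
    exact ⟨(cjEquiv _ _).symm.trans e⟩
  · intro hodd h3 k hk
    have hk0 : k ≠ 0 := by
      rintro rfl
      omega
    obtain ⟨e⟩ := dihedral_inf (TP_le_NP t d) hcyc hk0 hk.symm hT hN NP_inverts
      (index_LL_odd hodd) (not_TP_le hodd h3 hdisc hn hT)
    have h1 : cj (pr g)⁻¹ (NP t d) ⊓ LL F = cj (pr g)⁻¹ (NP t d ⊓ LL F) := by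
      rw [cj_inf, cj_normal _ (LL F)]
    rw [h1]
    exact ⟨(cjEquiv _ _).symm.trans e⟩

end main2

end Cfsg.Agent.H937
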