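import Mathlib
import Cfsg.Agent.H937.TorusMain
import Cfsg.Agent.ClassicalGeometry.SL2Outer

/-!
# The subfield subgroups of `PGL₂(F)`
-/

set_option autoImplicit false
set_option linter.style.haveILetI false

namespace Cfsg.Agent.H937

open Matrix
open Cfsg.Agent.ClassicalGeometry.DicksonSubfield (gl_mul00 gl_mul01 gl_mul10 gl_mul11 toGL_apply
  gl_det_ne exists_sl_of_isSquare)

section

variable {F : Type*} [Field F]

/-- The image of `PGL₂(k)` in `PGL₂(F)`. -/
def PG (k : Subfield F) : Subgroup (PGL F) :=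
  (Matrix.ProjGenLinGroup.map (n := Fin 2) k.subtype).range

/-- The image of `PSL₂(k)` in `PGL₂(F)`. -/
def PS (k : Subfield F) : Subgroup (PGL F) :=
  ((Matrix.ProjGenLinGroup.map (n := Fin 2) k.subtype).comp (ta : PSL k →* PGL k)).range

theorem map_inj (k : Subfield F) :
    Function.Injective (Matrix.ProjGenLinGroup.map (n := Fin 2) k.subtype) :=
  Cfsg.Agent.S0805.pglMap_injective k.subtype

theorem PS_eq_map (k : Subfield F) :
    PS k = (LL k).map (Matrix.ProjGenLinGroup.map (n := Fin 2) k.subtype) := by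
  unfold PS LL
  rw [MonoidHom.range_comp]

theorem PG_eq_map (k : Subfield F) :
    PG k = (⊤ : Subgroup (PGL k)).map (Matrix.ProjGenLinGroup.map (n := Fin 2) k.subtype) :=
  MonoidHom.range_eq_map _

theorem PS_le_PG (k : Subfield F) : PS k ≤ PG k := by
  rw [PS_eq_map, PG_eq_map]
  exact Subgroup.map_mono le_top

theorem PS_le_LL (k : Subfield F) : PS k ≤ LL F := by
  rintro _ ⟨a, rfl⟩
  obtain ⟨A, rfl⟩ := QuotientGroup.mk_surjective a
  refine ⟨QuotientGroup.mk (Matrix.SpecialLinearGroup.map k.subtype A), ?_⟩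
  rw [MonoidHom.comp_apply, ta_mk, ta_mk, Matrix.ProjGenLinGroup.map_mk]
  congr 1
  exact GeneralLinearGroup.ext (fun i j => rfl)

theorem nonempty_PG (k : Subfield F) : Nonempty (PG k ≃* PGL k) :=
  ⟨(MonoidHom.ofInjective (map_inj k)).symm⟩

theorem nonempty_PS (k : Subfield F) : Nonempty (PS k ≃* PSL k) :=
  ⟨(MonoidHom.ofInjective (f := (Matrix.ProjGenLinGroup.map (n := Fin 2) k.subtype).comp
    (ta : PSL k →* PGL k)) ((map_inj k).comp ta_injective)).symm⟩

theorem card_PG (k : Subfield F) : Nat.card (PG k) = Nat.card (PGL k) :=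
  (Nat.card_congr (MonoidHom.ofInjective (map_inj k)).toEquiv).symm

theorem card_PS (k : Subfield F) : Nat.card (PS k) = Nat.card (PSL k) := by
  obtain ⟨e⟩ := nonempty_PS k
  exact Nat.card_congr e.toEquiv

/-- Membership in `PG k` by entries. -/
theorem pr_mem_PG {k : Subfield F} {g : GL (Fin 2) F} :
    pr g ∈ PG k ↔ ∃ s : F, s ≠ 0 ∧ ∀ i j, s * g i j ∈ k := by
  constructor
  · rintro ⟨x, hx⟩
    obtain ⟨h, rfl⟩ := pr_surjective x
    rw [Matrix.ProjGenLinGroup.map_mk, eq_comm, ← pr, pr_eq_iff] at hx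
    obtain ⟨s, hs, h00, h01, h10, h11⟩ := hx
    refine ⟨s⁻¹, inv_ne_zero hs, ?_⟩
    have e : ∀ i j, g i j = s * (GeneralLinearGroup.map k.subtype h) i j := by
      intro i j
      fin_cases i <;> fin_cases j
      · exact h00
      · exact h01
      · exact h10
      · exact h11
    intro i j
    rw [e, ← mul_assoc, inv_mul_cancel₀ hs, one_mul]
    exact (h i j).2
  · rintro ⟨s, hs, hk⟩
    have hdet : (Matrix.of (fun i j => (⟨s * g i j, hk i j⟩ : k)) :
        Matrix (Fin 2) (Fin 2) k).det ≠ 0 := by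
      intro h0
      have h1 := congrArg (fun z : k => (z : F)) h0
      rw [det_fin_two] at h1
      simp only [Matrix.of_apply] at h1
      have h2 : (s * g 0 0) * (s * g 1 1) - (s * g 0 1) * (s * g 1 0) = 0 := h1
      have h3 := gl_det_ne g
      apply h3
      have h4 : s ^ 2 * (g 0 0 * g 1 1 - g 0 1 * g 1 0) = 0 := by linear_combination h2
      exact (mul_eq_zero.mp h4).resolve_left (pow_ne_zero 2 hs)
    refine ⟨pr (GeneralLinearGroup.mkOfDetNeZero _ hdet), ?_⟩
    rw [Matrix.ProjGenLinGroup.map_mk]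
    apply pr_eq_of hs <;> rfl

theorem PG_mono {k k' : Subfield F} (h : k ≤ k') : PG k ≤ PG k' := by
  intro x hx
  obtain ⟨g, rfl⟩ := pr_surjective x
  rw [pr_mem_PG] at hx ⊢
  obtain ⟨s, hs, hk⟩ := hx
  exact ⟨s, hs, fun i j => h (hk i j)⟩

theorem PG_top : PG (⊤ : Subfield F) = ⊤ := by
  rw [eq_top_iff]
  intro x _
  obtain ⟨g, rfl⟩ := pr_surjective x
  rw [pr_mem_PG]
  exact ⟨1, one_ne_zero, fun i j => Subfield.mem_top _⟩

/-- Subgroups between `PS k` and `PG k`. -/
theorem between [Finite F] {k : Subfield F} {H : Subgroup (PGL F)} (h1 : PS k ≤ H)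
    (h2 : H ≤ PG k) : H = PS k ∨ H = PG k := by
  classical
  have : Finite k := Subtype.finite
  letI := Fintype.ofFinite k
  set f := Matrix.ProjGenLinGroup.map (n := Fin 2) k.subtype with hf
  set X := H.comap f with hX
  have hH : H = X.map f := by
    rw [hX, Subgroup.map_comap_eq, eq_comm, inf_eq_right]
    exact h2
  have hLX : LL k ≤ X := by
    rw [hX, ← Subgroup.map_le_iff_le_comap, ← PS_eq_map]
    exact h1
  have hcases : X = LL k ∨ X = ⊤ := by
    rcases Nat.even_or_odd (Fintype.card k) with he | ho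
    · right
      rw [eq_top_iff, ← LL_eq_top_even he]
      exact hLX
    · have h3 := Subgroup.index_dvd_of_le hLX
      rw [index_LL_odd ho] at h3
      rcases (Nat.dvd_prime Nat.prime_two).mp h3 with h4 | h4
      · right
        exact Subgroup.index_eq_one.mp h4
      · left
        have h5 := Subgroup.relIndex_mul_index hLX
        rw [index_LL_odd ho, h4] at h5
        have h6 : (LL k).relIndex X = 1 := by omega
        exact le_antisymm (Subgroup.relIndex_eq_one.mp h6) hLX
  rcases hcases with h3 | h3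
  · left
    rw [hH, h3, PS_eq_map]
  · right
    rw [hH, h3, PG_eq_map]

end

section fields

variable {F : Type*} [Field F] [Finite F]

/-- The elements of a subfield of a finite field. -/
theorem mem_subfield_iff (k : Subfield F) (x : F) : x ∈ k ↔ x ^ Nat.card k = x := by
  have : Finite k := Subtype.finite
  letI := Fintype.ofFinite k
  constructor
  · intro hx
    have h1 := FiniteField.pow_card (⟨x, hx⟩ : k)
    rw [← Nat.card_eq_fintype_card] at h1
    exact congrArg Subtype.val h1
  · intro hx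
    obtain ⟨t, ht⟩ := Cfsg.Agent.ClassicalGeometry.SL2Outer.exists_of_pow_card_eq (F := k) (E := F)
      hx
    rw [← ht]
    exact t.2

theorem card_subfield_pow (k : Subfield F) :
    Nat.card k ^ Module.finrank k F = Nat.card F :=
  (Module.natCard_eq_pow_finrank (K := k) (V := F)).symm

theorem subfield_le_of_card {k k' : Subfield F} {a : ℕ} (h : Nat.card k ^ a = Nat.card k') :
    k ≤ k' := by
  intro x hx
  rw [mem_subfield_iff] at hx ⊢
  rw [← h]
  clear h
  induction a with
  | zero => simp
  | succ a ih => rw [pow_succ, pow_mul, ih, hx]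

theorem subfield_eq_top_of_card {k : Subfield F} (h : Nat.card k = Nat.card F) : k = ⊤ := by
  rw [eq_top_iff]
  apply subfield_le_of_card (a := 1)
  rw [pow_one, h]
  exact Nat.card_congr (Equiv.Set.univ F)

/-- A subfield of given order. -/
theorem exists_subfield_card {p : ℕ} [hp : Fact p.Prime] {n b : ℕ} (hn : n ≠ 0)
    (h : Nat.card F = (p ^ n) ^ b) : ∃ k : Subfield F, Nat.card k = p ^ n := by
  classical
  letI := Fintype.ofFinite F
  let K := GaloisField p n
  letI : Fintype K := Fintype.ofFinite K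
  have hK : Fintype.card K = p ^ n := by
    rw [← Nat.card_eq_fintype_card]
    exact GaloisField.card p n hn
  have h1 : Fintype.card K ^ b = Fintype.card F := by
    rw [hK, ← Nat.card_eq_fintype_card (α := F), h]
  obtain ⟨f⟩ := Cfsg.Agent.ClassicalGeometry.PSL2Basic.exists_ringHom_of_card_pow h1
  refine ⟨f.fieldRange, ?_⟩
  rw [← hK, ← Nat.card_eq_fintype_card]
  exact (Nat.card_congr (Equiv.ofInjective f f.injective)).symm

/-- An intermediate field of given degree. -/
theorem exists_subfield_over (k : Subfield F) {a b : ℕ} (h : Nat.card k ^ (a * b) = Nat.card F) :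
    ∃ k' : Subfield F, k ≤ k' ∧ Nat.card k' = Nat.card k ^ a := by
  have : Finite k := Subtype.finite
  letI := Fintype.ofFinite k
  obtain ⟨p, hp⟩ := CharP.exists k
  obtain ⟨n, hp', hn⟩ := FiniteField.card k p
  haveI : Fact p.Prime := ⟨hp'⟩
  have hF : 1 < Nat.card F := Finite.one_lt_card
  have ha : a ≠ 0 := by
    rintro rfl
    rw [zero_mul, pow_zero] at h
    omega
  have hk : Nat.card k = p ^ (n : ℕ) := by rw [Nat.card_eq_fintype_card, hn]
  have h1 : Nat.card F = (p ^ ((n : ℕ) * a)) ^ b := by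
    rw [← h, hk, ← pow_mul, ← pow_mul]
    ring
  obtain ⟨k', hk'⟩ := exists_subfield_card (mul_ne_zero n.ne_zero ha) h1
  have h2 : Nat.card k' = Nat.card k ^ a := by rw [hk', hk, ← pow_mul]
  exact ⟨k', subfield_le_of_card h2.symm, h2⟩

end fields

end Cfsg.Agent.H937
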