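import Mathlib
import Cfsg.Agent.H937.Wild
import Cfsg.Agent.ClassicalGeometry.PolePrime
import Cfsg.Agent.Lib.Dihedral

/-!
# The structure theorem for subgroups of `PGL₂(F)`
-/

set_option autoImplicit false
set_option linter.style.haveILetI false

namespace Cfsg.Agent.H937

open Matrix OnePoint MulAction
open Cfsg.Agent.ClassicalGeometry.DicksonSubfield (gl_mul00 gl_mul01 gl_mul10 gl_mul11 toGL_apply
  gl_det_ne exists_sl_of_isSquare exists_subfield)
open Cfsg.Agent.ClassicalGeometry.PoleCount Cfsg.Agent.ClassicalGeometry.PoleBridge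
open Cfsg.Agent.ClassicalGeometry.PoleCount.Pole

section

variable {F : Type*} [Field F]

/-- If the `n`-th power of a matrix is scalar then the `n`-th power in `PGL₂` is trivial. -/
theorem pr_pow_eq_one_of {A : GL (Fin 2) F} {n : ℕ} {s : F}
    (h : ((A : Matrix (Fin 2) (Fin 2) F)) ^ n = s • (1 : Matrix (Fin 2) (Fin 2) F)) :
    (pr A) ^ n = 1 := by
  rw [← map_pow, pr_eq_one_iff]
  have h1 : ((A ^ n : GL (Fin 2) F) : Matrix (Fin 2) (Fin 2) F) = s • 1 := by
    rw [Units.val_pow_eq_pow_val, h]
  refine ⟨?_, ?_, ?_⟩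
  · rw [h1]; simp
  · rw [h1]; simp
  · rw [h1]; simp

/-- An element of `PGL₂(F)` with `c ^ p ≠ 1` has non-zero discriminant. -/
theorem disc_ne_zero (p : ℕ) [Fact p.Prime] [CharP F p] (A : GL (Fin 2) F)
    (h : (pr A) ^ p ≠ 1) :
    (A 0 0 + A 1 1) ^ 2 - 4 * (A 0 0 * A 1 1 - A 0 1 * A 1 0) ≠ 0 := by
  intro hd
  apply h
  by_cases hp2 : p = 2
  · subst hp2
    have h2 : (2 : F) = 0 := by
      have := CharP.cast_eq_zero F 2
      exact_mod_cast this
    have ht : A 0 0 + A 1 1 = 0 := by
      have h3 : (A 0 0 + A 1 1) ^ 2 = 0 := by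
        linear_combination hd + 2 * (A 0 0 * A 1 1 - A 0 1 * A 1 0) * h2
      exact pow_eq_zero_iff (two_ne_zero) |>.mp h3
    apply pr_pow_eq_one_of (s := A 0 0 * A 0 0 + A 0 1 * A 1 0)
    ext i j
    fin_cases i <;> fin_cases j
    · simp [pow_two, Matrix.mul_apply, Fin.sum_univ_two]
    · simp [pow_two, Matrix.mul_apply, Fin.sum_univ_two]
      linear_combination (A 0 1) * ht
    · simp [pow_two, Matrix.mul_apply, Fin.sum_univ_two]
      linear_combination (A 1 0) * ht
    · simp [pow_two, Matrix.mul_apply, Fin.sum_univ_two]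
      linear_combination (A 1 1 - A 0 0) * ht
  · have h2 : (2 : F) ≠ 0 := by
      intro h0
      apply hp2
      have h1 : ((2 : ℕ) : F) = 0 := by exact_mod_cast h0
      rw [CharP.cast_eq_zero_iff F p] at h1
      exact (Nat.prime_dvd_prime_iff_eq Fact.out Nat.prime_two).mp h1
    obtain ⟨l, hl⟩ : ∃ l : F, 2 * l = A 0 0 + A 1 1 := ⟨(A 0 0 + A 1 1) / 2, by field_simp⟩
    apply pr_pow_eq_one_of (s := l ^ p)
    set M : Matrix (Fin 2) (Fin 2) F := (A : Matrix (Fin 2) (Fin 2) F) with hM
    have hNN : (M - l • 1) ^ 2 = 0 := by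
      have h4 : (4 : F) ≠ 0 := by
        have : (4 : F) = 2 * 2 := by norm_num
        rw [this]
        exact mul_ne_zero h2 h2
      ext i j
      fin_cases i <;> fin_cases j
      · simp [pow_two, Matrix.mul_apply, Fin.sum_univ_two]
        apply mul_left_cancel₀ h4
        rw [mul_zero]
        linear_combination hd + (2 * l - 3 * (M 0 0) + M 1 1) * hl
      · simp [pow_two, Matrix.mul_apply, Fin.sum_univ_two]
        linear_combination (-(M 0 1)) * hl
      · simp [pow_two, Matrix.mul_apply, Fin.sum_univ_two]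
        linear_combination (-(M 1 0)) * hl
      · simp [pow_two, Matrix.mul_apply, Fin.sum_univ_two]
        apply mul_left_cancel₀ h4
        rw [mul_zero]
        linear_combination hd + (2 * l - 3 * (M 1 1) + M 0 0) * hl
    have h3 : M = l • 1 + (M - l • 1) := by abel
    have hcomm : Commute (l • (1 : Matrix (Fin 2) (Fin 2) F)) (M - l • 1) := by
      apply Commute.smul_left
      exact Commute.one_left _
    rw [h3, add_pow_char_of_commute p hcomm, smul_pow, one_pow]
    have h5 : (M - l • 1) ^ p = 0 := by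
      have h6 : 2 ≤ p := (Fact.out : p.Prime).two_le
      obtain ⟨m, rfl⟩ := Nat.exists_eq_add_of_le h6
      rw [pow_add, hNN, zero_mul]
    rw [h5, add_zero]


/-- The embedding of `PGL₂(F)` into `PSL₂(K)`. -/
noncomputable def emb {K : Type*} [Field K] [IsAlgClosed K] (ι : F →+* K) : PGL F →* PSL K :=
  (Matrix.ProjectiveSpecialLinearGroup.isoPSLOfAlgClosedOfNonempty (n := Fin 2)
    (F := K)).toMonoidHom.comp (Matrix.ProjGenLinGroup.map ι)

theorem ta_emb {K : Type*} [Field K] [IsAlgClosed K] (ι : F →+* K) (g : PGL F) :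
    ta (emb ι g) = Matrix.ProjGenLinGroup.map ι g := by
  have := (Matrix.ProjectiveSpecialLinearGroup.isoPSLOfAlgClosedOfNonempty (n := Fin 2)
    (F := K)).symm_apply_apply (Matrix.ProjGenLinGroup.map ι g)
  exact this

theorem emb_injective {K : Type*} [Field K] [IsAlgClosed K] (ι : F →+* K) :
    Function.Injective (emb ι) := by
  intro a b h
  apply Cfsg.Agent.S0805.pglMap_injective ι
  rw [← ta_emb, ← ta_emb, h]

variable [DecidableEq F]

/-- Equivariance of the embedding of the projective lines. -/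
theorem pslPerm_emb {K : Type*} [Field K] [IsAlgClosed K] [DecidableEq K] (ι : F →+* K)
    (g : PGL F) (x : OnePoint F) :
    pslPerm K (emb ι g) (OnePoint.map ι x) = OnePoint.map ι (pglPerm F g x) := by
  obtain ⟨A, rfl⟩ := pr_surjective g
  rw [← pglPerm_ta, ta_emb]
  show (GeneralLinearGroup.map ι A) • (OnePoint.map ι x) = OnePoint.map ι (A • x)
  rw [OnePoint.map_smul]

omit [DecidableEq F] in
theorem omap_injective {K : Type*} [Field K] (ι : F →+* K) :
    Function.Injective (OnePoint.map ι) :=
  Option.map_injective ι.injective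

/-- An element with `g ^ p = 1` has a fixed point over the finite field. -/
theorem exists_fix_rational' [Fintype F] (p : ℕ) [Fact p.Prime] [CharP F p]
    (g : PGL F) (hg : g ^ p = 1) : ∃ x : OnePoint F, pglPerm F g x = x := by
  letI : MulAction (Subgroup.zpowers g) (OnePoint F) :=
    MulAction.compHom (OnePoint F) ((pglPerm F).comp (Subgroup.zpowers g).subtype)
  have hP : IsPGroup p (Subgroup.zpowers g) := by
    rintro ⟨_, n, rfl⟩
    refine ⟨1, Subtype.ext ?_⟩
    show (g ^ n) ^ p ^ 1 = 1
    rw [pow_one, ← zpow_natCast, ← _root_.zpow_mul, mul_comm, _root_.zpow_mul, zpow_natCast, hg, _root_.one_zpow]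
  have hcard : ¬ p ∣ Nat.card (OnePoint F) := by
    have h1 : Nat.card (OnePoint F) = Fintype.card F + 1 := by
      rw [← Nat.card_eq_fintype_card]
      exact Finite.card_option
    rw [h1]
    obtain ⟨n, hp, hn⟩ := FiniteField.card F p
    intro h2
    have h3 : p ∣ Fintype.card F := by
      rw [hn]
      exact dvd_pow_self p n.ne_zero
    have h4 := (Nat.dvd_add_right h3).mp h2
    exact (Fact.out : p.Prime).one_lt.ne' (Nat.dvd_one.mp h4)
  obtain ⟨x, hx⟩ := hP.nonempty_fixed_point_of_prime_not_dvd_card (OnePoint F) hcard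
  exact ⟨x, hx ⟨g, Subgroup.mem_zpowers g⟩⟩

omit [DecidableEq F] in
/-- The rotations of a dihedral group. -/
theorem dihedral_c {G : Type*} [Group G] {H : Subgroup G} {k : ℕ}
    (e : H ≃* DihedralGroup k) : ∃ c ∈ H, orderOf c = k ∧
      ∀ h ∈ H, h * c * h⁻¹ ∈ Subgroup.zpowers c := by
  refine ⟨(e.symm (DihedralGroup.r 1) : H), (e.symm (DihedralGroup.r 1) : H).2, ?_, ?_⟩
  · rw [Subgroup.orderOf_coe, MulEquiv.orderOf_eq, DihedralGroup.orderOf_r_one]
  · intro h hh
    have key : ∀ x : DihedralGroup k, x * DihedralGroup.r 1 * x⁻¹ = DihedralGroup.r 1 ∨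
        x * DihedralGroup.r 1 * x⁻¹ = (DihedralGroup.r 1)⁻¹ := by
      intro x
      cases x with
      | r i =>
        left
        rw [DihedralGroup.inv_r, DihedralGroup.r_mul_r, DihedralGroup.r_mul_r]
        congr 1
        ring
      | sr i =>
        right
        rw [DihedralGroup.inv_sr, DihedralGroup.sr_mul_r, DihedralGroup.sr_mul_sr,
          DihedralGroup.inv_r]
        congr 1
        ring
    have h1 : h * (e.symm (DihedralGroup.r 1) : H) * h⁻¹ =
        ((e.symm (e ⟨h, hh⟩ * DihedralGroup.r 1 * (e ⟨h, hh⟩)⁻¹) : H) : G) := by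
      rw [map_mul, map_mul, map_inv, MulEquiv.symm_apply_apply]
      rfl
    rw [h1]
    rcases key (e ⟨h, hh⟩) with h2 | h2
    · rw [h2]
      exact Subgroup.mem_zpowers _
    · rw [h2, map_inv, Subgroup.coe_inv]
      exact inv_mem (Subgroup.mem_zpowers _)

omit [DecidableEq F] in
/-- The structure theorem for subgroups of `PGL₂(F)`. -/
theorem structure_pgl [Fintype F] (p : ℕ) [Fact p.Prime] [CharP F p] (H : Subgroup (PGL F)) :
    (∃ b, cj b H ≤ BP F) ∨
    (∃ c ∈ H, c ^ p ≠ 1 ∧ ∀ h ∈ H, h * c * h⁻¹ ∈ Subgroup.zpowers c) ∨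
    (¬ p ∣ Nat.card H ∧ (Nonempty (H ≃* alternatingGroup (Fin 4)) ∨
      Nonempty (H ≃* Equiv.Perm (Fin 4)) ∨ Nonempty (H ≃* alternatingGroup (Fin 5)))) ∨
    (p = 3 ∧ Nonempty (H ≃* alternatingGroup (Fin 5))) ∨
    (∃ (k : Subfield F) (b : PGL F), cj b H = PS k ∨ cj b H = PG k) := by
  classical
  let K := AlgebraicClosure F
  haveI : CharP K p := charP_of_injective_algebraMap (algebraMap F K).injective p
  let ι : F →+* K := algebraMap F K
  let φ : H →* PSL K := (emb ι).comp H.subtype
  have hφ : Function.Injective φ := (emb_injective ι).comp H.subtype_injective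
  letI := act φ
  have pole : Pole p K H (OnePoint K) := pole_of_injective p φ hφ
  have hact : ∀ (g : H) (x : OnePoint K), g • x = pslPerm K (emb ι (g : PGL F)) x :=
    fun _ _ => rfl
  have hdih : ∀ {k : ℕ}, 2 ≤ k → ¬ p ∣ k → Nonempty (H ≃* DihedralGroup k) →
      (∃ c ∈ H, c ^ p ≠ 1 ∧ ∀ h ∈ H, h * c * h⁻¹ ∈ Subgroup.zpowers c) := by
    rintro k hk hpk ⟨e⟩
    obtain ⟨c, hc, hck, hc2⟩ := dihedral_c e
    refine ⟨c, hc, ?_, hc2⟩
    intro h1
    have h2 := orderOf_dvd_of_pow_eq_one h1
    rw [hck] at h2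
    rcases (Nat.dvd_prime Fact.out).mp h2 with h3 | h3
    · omega
    · exact hpk (by rw [h3])
  by_cases hp : p ∣ Nat.card H
  · -- the wild case
    obtain ⟨u, hu⟩ := exists_prime_orderOf_dvd_card' p hp
    have hup : u ^ p = 1 := by rw [← hu]; exact pow_orderOf_eq_one u
    have hu1 : u ≠ 1 := by
      rintro rfl
      rw [orderOf_one] at hu
      exact (Fact.out : p.Prime).one_lt.ne hu
    obtain ⟨x₀, hx₀⟩ := pole.one u hu1 hup
    have hx₀' : x₀ ∈ Op p H (OnePoint K) := ⟨u, hu1, hup, (hx₀ x₀).mpr rfl⟩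
    have hrat : ∀ x ∈ Op p H (OnePoint K), ∃ x' ∈ OpG p H, OnePoint.map ι x' = x := by
      rintro x ⟨v, hv1, hvp, hvx⟩
      have hvp' : (v : PGL F) ^ p = 1 := congrArg Subtype.val hvp
      obtain ⟨x', hx'⟩ := exists_fix_rational' p _ hvp'
      refine ⟨x', ⟨v, v.2, fun h => hv1 (Subtype.ext h), hvp', hx'⟩, ?_⟩
      obtain ⟨y, hy⟩ := pole.one v hv1 hvp
      rw [(hy x).mp hvx]
      apply (hy _).mp
      rw [hact, pslPerm_emb, hx']
    by_cases hone : ∀ x ∈ Op p H (OnePoint K), x = x₀
    · -- the Sylow subgroup is normal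
      left
      obtain ⟨a, ha, hax⟩ := hrat x₀ hx₀'
      obtain ⟨b, hb⟩ := exists_pglPerm_infty a
      refine ⟨b⁻¹, ?_⟩
      intro g hg
      rw [mem_cj, inv_inv] at hg
      rw [mem_BP_iff_perm]
      have h1 : (⟨_, hg⟩ : H) • x₀ = x₀ := hone _ (smul_mem_Op _ hx₀')
      rw [hact, ← hax, pslPerm_emb] at h1
      have h2 := omap_injective ι h1
      rw [map_mul, map_mul, map_inv, Equiv.Perm.mul_apply, Equiv.Perm.mul_apply, ← hb,
        pinv_apply] at h2
      exact (pglPerm F b).injective h2
    · push Not at hone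
      obtain ⟨x₁, hx₁, hne⟩ := hone
      rcases wild_cases' pole hx₀' hx₁ (Ne.symm hne) with htr | ⟨k, hk0, hk, hd⟩ | hA5
      · -- transfer to the projective line over `F`
        right; right; right; right
        have hOp : ∀ x ∈ OpG p H, OnePoint.map ι x ∈ Op p H (OnePoint K) := by
          rintro x ⟨v, hvH, hv1, hvp, hvx⟩
          refine ⟨⟨v, hvH⟩, fun h => hv1 (congrArg Subtype.val h), Subtype.ext hvp, ?_⟩
          rw [hact, pslPerm_emb, hvx]
        have hTr : TransG p H := by
          intro x hx y hy z hz hyx hzx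
          obtain ⟨g, hgp, hgx, hgy⟩ := htr _ (hOp x hx) _ (hOp y hy) _ (hOp z hz)
            (fun h => hyx (omap_injective ι h)) (fun h => hzx (omap_injective ι h))
          refine ⟨g, g.2, congrArg Subtype.val hgp, ?_, ?_⟩
          · apply omap_injective ι
            rw [← pslPerm_emb, ← hact, hgx]
          · apply omap_injective ι
            rw [← pslPerm_emb, ← hact, hgy]
        obtain ⟨a, ha, hax⟩ := hrat x₀ hx₀'
        obtain ⟨b, hb, hbx⟩ := hrat x₁ hx₁
        have hab : a ≠ b := by
          rintro rfl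
          exact hne (hbx.symm.trans hax)
        exact subfield_of_transG p H ha hb hab hTr
      · right; left
        apply hdih ?_ hk hd
        by_contra hk2
        have hk1 : k = 1 := by omega
        subst hk1
        have hcard : Nat.card H = 2 := by
          obtain ⟨e⟩ := hd
          rw [Nat.card_congr e.toEquiv, DihedralGroup.nat_card]
        obtain ⟨v, hv1, hvp, hvx⟩ := hx₁
        have huv : u = v := by
          by_contra hne2
          haveI : Fintype H := Fintype.ofFinite H
          have h3 : ({1, u, v} : Finset H).card ≤ Nat.card H := by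
            rw [Nat.card_eq_fintype_card]
            exact Finset.card_le_univ _
          rw [Finset.card_insert_of_notMem (by simp [Ne.symm hu1, Ne.symm hv1]),
            Finset.card_pair hne2, hcard] at h3
          omega
        rw [← huv] at hvx
        exact hne ((hx₀ x₁).mp hvx)
      · right; right; right; left
        exact hA5
  · -- the tame case
    have hpow : ∀ g : H, g ≠ 1 → g ^ p ≠ 1 := by
      intro g hg hgp
      apply hp
      rw [← orderOf_eq_prime hgp hg]
      exact orderOf_dvd_natCard g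
    have hcyc : ∀ x : OnePoint K, IsCyclic (stabilizer H x) := by
      intro x
      obtain ⟨χ, hχ⟩ := pole.chi x
      have hinj : Function.Injective χ := by
        rw [injective_iff_map_eq_one]
        intro g hg
        by_contra hne
        have h1 := (hχ g).mp hg
        exact hpow g (fun h => hne (Subtype.ext h)) (congrArg Subtype.val h1)
      have hcoe : Function.Injective (Units.coeHom K) := Units.val_injective
      exact isCyclic_of_injective_ringHom ((Units.coeHom K).comp χ) (hcoe.comp hinj)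
    rcases Cfsg.Agent.ClassicalGeometry.PolePrime.pole_prime
      (fun (g : H) hg => pole.two g (hpow g hg)) hcyc with h1 | ⟨k, hk, h1⟩ | h1 | h1 | h1
    · obtain ⟨g, hg⟩ := h1.exists_generator
      by_cases hg1 : g = 1
      · left
        refine ⟨1, ?_⟩
        rw [cj_one]
        intro h hh
        obtain ⟨n, hn⟩ := hg ⟨h, hh⟩
        have h2 : h = 1 := by
          have h3 : (⟨h, hh⟩ : H) = 1 := by
            rw [← hn, hg1]
            simp
          exact congrArg Subtype.val h3
        rw [h2]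
        exact one_mem _
      · right; left
        refine ⟨g, g.2, fun h2 => hpow g hg1 (Subtype.ext h2), ?_⟩
        intro h hh
        obtain ⟨n, hn⟩ := hg (⟨h, hh⟩ * g * (⟨h, hh⟩)⁻¹)
        exact ⟨n, by simpa using congrArg Subtype.val hn⟩
    · right; left
      have hkp : ¬ p ∣ k := by
        intro h2
        apply hp
        obtain ⟨e⟩ := h1
        rw [Nat.card_congr e.toEquiv, DihedralGroup.nat_card]
        exact h2.mul_left 2
      exact hdih hk hkp h1
    · exact Or.inr (Or.inr (Or.inl ⟨hp, Or.inl h1⟩))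
    · exact Or.inr (Or.inr (Or.inl ⟨hp, Or.inr (Or.inl h1)⟩))
    · exact Or.inr (Or.inr (Or.inl ⟨hp, Or.inr (Or.inr h1)⟩))

end

end Cfsg.Agent.H937
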