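import Mathlib
import Cfsg.Agent.H937.Struct
import Cfsg.Agent.H937.TorusMain

/-!
# Common lemmas for the maximal subgroups of `PSL₂(q)` and `PGL₂(q)`
-/

set_option autoImplicit false
set_option linter.style.haveILetI false

namespace Cfsg.Agent.H937

open Matrix OnePoint MulAction
open Cfsg.Agent.ClassicalGeometry.PSL2Basic

theorem card_A4 : Nat.card (alternatingGroup (Fin 4)) = 12 := by
  rw [nat_card_alternatingGroup, Nat.card_eq_fintype_card, Fintype.card_fin]
  rfl

theorem card_S4 : Nat.card (Equiv.Perm (Fin 4)) = 24 := by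
  rw [Nat.card_perm, Nat.card_eq_fintype_card, Fintype.card_fin]
  rfl

theorem card_A5 : Nat.card (alternatingGroup (Fin 5)) = 60 := by
  rw [nat_card_alternatingGroup, Nat.card_eq_fintype_card, Fintype.card_fin]
  rfl

/-- Every finite field has a copy in `Type`. -/
theorem exists_type0 (k : Type*) [Field k] [Finite k] :
    ∃ (F₀ : Type) (_ : Field F₀) (_ : Fintype F₀), Nat.card k = Fintype.card F₀ ∧
      Nonempty (PSL k ≃* PSL F₀) ∧ Nonempty (PGL k ≃* PGL F₀) := by
  let K : Type := Shrink.{0} k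
  letI : Field K := inferInstanceAs (Field (Shrink.{0} k))
  let e : K ≃+* k := Shrink.ringEquiv.{0} k
  haveI : Finite K := e.toEquiv.finite_iff.mpr inferInstance
  letI : Fintype K := Fintype.ofFinite K
  letI : Fintype k := Fintype.ofFinite k
  have hcard : Nat.card k = Fintype.card K := by
    rw [← Nat.card_eq_fintype_card]
    exact (Nat.card_congr e.toEquiv).symm
  have hcard' : Fintype.card k = Fintype.card K := by
    rw [← Nat.card_eq_fintype_card, hcard]
  refine ⟨K, inferInstance, inferInstance, hcard, ?_, ?_⟩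
  · refine ⟨MulEquiv.ofBijective (pslMap (n := Fin 2) e.symm.toRingHom) ?_⟩
    apply (pslMap_injective _).bijective_of_nat_card_le
    rw [card_PSL2_div, card_PSL2_div, hcard']
  · refine ⟨MulEquiv.ofBijective (Matrix.ProjGenLinGroup.map (n := Fin 2) e.symm.toRingHom) ?_⟩
    apply (Cfsg.Agent.S0805.pglMap_injective _).bijective_of_nat_card_le
    rw [card_PGL2, card_PGL2, hcard']

section cov

variable {G G' : Type*} [Group G] [Group G']

theorem coatom_map {f : G →* G'} (hf : Function.Injective f) {M : Subgroup G} (hM : IsCoatom M) :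
    M.map f ⋖ f.range := by
  constructor
  · refine lt_of_le_of_ne (Subgroup.map_le_range f M) ?_
    intro h
    apply hM.1
    rw [eq_top_iff]
    intro x _
    have h1 : f x ∈ M.map f := by
      rw [h]
      exact ⟨x, rfl⟩
    exact (Subgroup.mem_map_iff_mem hf).mp h1
  · intro X h1 h2
    have h3 : (X.comap f).map f = X := by
      rw [Subgroup.map_comap_eq, inf_eq_right]
      exact h2.le
    have h4 : M < X.comap f := by
      refine lt_of_le_of_ne (Subgroup.map_le_iff_le_comap.mp h1.le) ?_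
      intro h
      apply h1.ne
      rw [h, h3]
    have h5 := hM.2 _ h4
    apply h2.ne
    rw [← h3, h5, MonoidHom.range_eq_map]

end cov

section

variable {F : Type*} [Field F]

theorem map_ta_covBy {M : Subgroup (PSL F)} (hM : IsCoatom M) : M.map ta ⋖ LL F :=
  coatom_map ta_injective hM

noncomputable def mapTaEquiv (M : Subgroup (PSL F)) : M ≃* M.map (ta : PSL F →* PGL F) :=
  M.equivMapOfInjective _ ta_injective

theorem card_map_ta (M : Subgroup (PSL F)) :
    Nat.card (M.map (ta : PSL F →* PGL F)) = Nat.card M :=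
  (Nat.card_congr (mapTaEquiv M).toEquiv).symm

theorem card_cube (k : Subfield F) [Finite F] :
    Nat.card (PG k) + Nat.card k = Nat.card k ^ 3 := by
  letI : Fintype k := Fintype.ofFinite k
  rw [card_PG, card_PGL2, Nat.card_eq_fintype_card (α := k)]
  have h1 : 1 ≤ Fintype.card k ^ 2 := Nat.one_le_pow _ _ Fintype.card_pos
  obtain ⟨s, hs⟩ := Nat.exists_eq_add_of_le h1
  rw [hs, Nat.add_sub_cancel_left, pow_succ, hs]
  ring

theorem card_PG_lt {k k' : Subfield F} [Finite F] (h : Nat.card k < Nat.card k') :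
    Nat.card (PG k) < Nat.card (PG k') := by
  have h1 := card_cube k
  have h2 := card_cube k'
  have h3 : 1 ≤ Nat.card k := Nat.card_pos
  obtain ⟨s, hs⟩ := Nat.exists_eq_add_of_lt h
  rw [hs] at h2
  generalize Nat.card k = a at *
  have h4 : (a + s + 1) ^ 3 = a ^ 3 + (s + 1) * (3 * a ^ 2 + 3 * a * (s + 1) + (s + 1) ^ 2) := by
    ring
  have h5 : 2 ≤ 3 * a ^ 2 + 3 * a * (s + 1) + (s + 1) ^ 2 := by nlinarith
  nlinarith

theorem PG_lt {k k' : Subfield F} [Finite F] (hle : k ≤ k') (h : Nat.card k < Nat.card k') :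
    PG k < PG k' := by
  refine lt_of_le_of_ne (PG_mono hle) ?_
  intro h1
  have h2 := card_PG_lt h
  rw [h1] at h2
  exact lt_irrefl _ h2

theorem PS_eq_PG_even {k : Subfield F} [Finite F] (h : Even (Nat.card k)) : PS k = PG k := by
  letI : Fintype k := Fintype.ofFinite k
  rw [Nat.card_eq_fintype_card] at h
  rw [PS_eq_map, PG_eq_map, LL_eq_top_even h]

theorem PG_ne_top {k : Subfield F} [Finite F] (h : Nat.card k < Nat.card F) : PG k ≠ ⊤ := by
  intro h1
  have h2 : Nat.card k < Nat.card (⊤ : Subfield F) := by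
    have : Nat.card (⊤ : Subfield F) = Nat.card F := Nat.card_congr (Equiv.Set.univ F)
    omega
  have h3 := card_PG_lt h2
  rw [h1, PG_top] at h3
  exact lt_irrefl _ h3

theorem card_top_subfield : Nat.card (⊤ : Subfield F) = Nat.card F :=
  Nat.card_congr (Equiv.Set.univ F)

theorem card_PGL_cube [Fintype F] : Nat.card (PGL F) + Fintype.card F = Fintype.card F ^ 3 := by
  have h := card_cube (⊤ : Subfield F)
  rw [PG_top, card_top_subfield, Nat.card_eq_fintype_card (α := F)] at h
  have h2 : Nat.card (⊤ : Subgroup (PGL F)) = Nat.card (PGL F) :=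
    Nat.card_congr Subgroup.topEquiv.toEquiv
  rwa [h2] at h

/-- The order of the field is a prime power of the order of a maximal subfield. -/
theorem exists_prime_pow {k : Subfield F} [Finite F] (hk : Nat.card k < Nat.card F)
    (h : ∀ k' : Subfield F, k ≤ k' → Nat.card k < Nat.card k' → Nat.card k' < Nat.card F → False) :
    ∃ r : ℕ, r.Prime ∧ Nat.card k ^ r = Nat.card F := by
  have hm := card_subfield_pow k
  set m := Module.finrank k F with hmdef
  have h1 : 1 < Nat.card k := Finite.one_lt_card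
  have hm1 : m ≠ 1 := by
    intro h2
    rw [h2, pow_one] at hm
    omega
  obtain ⟨r, hr, hrm⟩ := Nat.exists_prime_and_dvd hm1
  obtain ⟨b, hb⟩ := hrm
  have hF : 1 < Nat.card F := Finite.one_lt_card
  have hm0 : m ≠ 0 := by
    intro h2
    rw [h2, pow_zero] at hm
    omega
  refine ⟨r, hr, ?_⟩
  by_contra hne
  have hb0 : b ≠ 0 := by
    rintro rfl
    exact hm0 (by rw [hb, mul_zero])
  have hb1 : b ≠ 1 := by
    rintro rfl
    rw [mul_one] at hb
    rw [hb] at hm
    exact hne hm
  rw [hb] at hm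
  obtain ⟨k', hk', hc⟩ := exists_subfield_over k hm
  apply h k' hk'
  · rw [hc]
    calc Nat.card k = Nat.card k ^ 1 := (pow_one _).symm
      _ < Nat.card k ^ r := Nat.pow_lt_pow_right h1 hr.one_lt
  · rw [hc, ← hm]
    apply Nat.pow_lt_pow_right h1
    have := hr.pos
    nlinarith [Nat.one_lt_iff_ne_zero_and_ne_one.mpr ⟨hb0, hb1⟩]

theorem prime_of_PG_covBy {k : Subfield F} [Finite F] (h : PG k ⋖ ⊤) :
    ∃ r : ℕ, r.Prime ∧ Nat.card k ^ r = Nat.card F := by
  have hk : Nat.card k < Nat.card F := by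
    by_contra hk
    have h1 : Nat.card k ≤ Nat.card F := Nat.card_le_card_of_injective _ k.subtype_injective
    have h2 : k = ⊤ := subfield_eq_top_of_card (by omega)
    rw [h2, PG_top] at h
    exact lt_irrefl _ h.lt
  apply exists_prime_pow hk
  intro k' hk' h1 h2
  exact h.2 (PG_lt hk' h1) (lt_top_iff_ne_top.mpr (PG_ne_top h2))

/-- The case of a normal cyclic semisimple subgroup. -/
theorem torus_case [Fintype F] (p : ℕ) [Fact p.Prime] [CharP F p] {H : Subgroup (PGL F)}
    {c : PGL F} (hc1 : c ^ p ≠ 1)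
    (hc2 : ∀ h ∈ H, h * c * h⁻¹ ∈ Subgroup.zpowers c) :
    ∃ N : Subgroup (PGL F), H ≤ N ∧
      ∃ n : ℕ, (n = Fintype.card F - 1 ∨ n = Fintype.card F + 1) ∧
        Nonempty (N ≃* DihedralGroup n) ∧
        (Odd (Fintype.card F) → 3 < Fintype.card F → ∀ k : ℕ, 2 * k = n →
          Nonempty ((N ⊓ LL F : Subgroup (PGL F)) ≃* DihedralGroup k)) := by
  obtain ⟨A, rfl⟩ := pr_surjective c
  obtain ⟨N, hN, n, h1, h2, h3⟩ := exists_torus A (disc_ne_zero p A hc1)
  exact ⟨N, fun h hh => hN h (hc2 h hh), n, h1, h2, h3⟩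

/-- `cj b` preserves covering of a normal subgroup. -/
theorem cj_covBy_normal {G : Type*} [Group G] {b : G} {H K : Subgroup G} [K.Normal]
    (h : H ⋖ K) : cj b H ⋖ K := by
  have := (cj_covBy (b := b)).mpr h
  rwa [cj_normal b K] at this

end

end Cfsg.Agent.H937
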