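import Mathlib
import Cfsg.Agent.H937.Common
import Cfsg.Agent.ClassicalGeometry.PSL2KleinConj

/-!
# Klein four-subgroups of `PSL₂(F)` and their normalisers in `PGL₂(F)`
-/

set_option autoImplicit false
set_option linter.style.haveILetI false

namespace Cfsg.Agent.H937

open Matrix
open Cfsg.Agent.ClassicalGeometry.PSL2Basic
open Cfsg.Agent.ClassicalGeometry.KleinCount
open Cfsg.Agent.ClassicalGeometry.PSL2KleinConj (cjP cjP_mul cjP_one cjP_mk exists_map_eq
  exists_not_conj exists_isKleinFour conj_of_two_not_square exists_pair_of_isKleinFour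
  exists_normalizer_det_two isSquare_mul_of_not conj_of_map_square cjP_of_square)

section general

variable {G : Type*} [Group G]

theorem card_inf_of_not_le [Finite G] {L : Subgroup G} (hL : L.index = 2) {X : Subgroup G}
    (hX : ¬ X ≤ L) : 2 * Nat.card (X ⊓ L : Subgroup G) = Nat.card X := by
  have h1 : L.relIndex X = 2 := by
    have hLn : L.Normal := Subgroup.normal_of_index_eq_two hL
    have h2 : L.relIndex X ∣ 2 := by
      have := Subgroup.relIndex_dvd_index_of_normal L X
      rwa [hL] at this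
    rcases (Nat.dvd_prime Nat.prime_two).mp h2 with h3 | h3
    · exact absurd (Subgroup.relIndex_eq_one.mp h3) hX
    · exact h3
  have h2 := Subgroup.card_mul_index (L.subgroupOf X)
  have h3 : Nat.card (L.subgroupOf X) = Nat.card (X ⊓ L : Subgroup G) := by
    rw [← Subgroup.inf_subgroupOf_left]
    exact Nat.card_congr (Subgroup.subgroupOfEquivOfLe inf_le_left).toEquiv
  rw [h3] at h2
  have h4 : (L.subgroupOf X).index = 2 := h1
  rw [h4] at h2
  omega

/-- The normaliser of a subgroup. -/
abbrev nrm (V : Subgroup G) : Subgroup G := Subgroup.normalizer (V : Set G)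

theorem mem_nrm {V : Subgroup G} {x : G} : x ∈ nrm V ↔ cj x V = V :=
  Subgroup.mem_normalizer_iff_map_conj_eq

theorem cj_nrm (b : G) (V : Subgroup G) : cj b (nrm V) = nrm (cj b V) := by
  ext x
  rw [mem_cj, mem_nrm, mem_nrm]
  constructor
  · intro h
    rw [← cj_mul]
    have h1 : x * b = b * (b⁻¹ * x * b) := by group
    rw [h1, cj_mul, h]
  · intro h
    apply cj_injective b
    rw [← cj_mul]
    have h1 : b * (b⁻¹ * x * b) = x * b := by group
    rw [h1, cj_mul, h]

theorem map_cj {G' : Type*} [Group G'] (f : G →* G') (x : G) (V : Subgroup G) :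
    (cj x V).map f = cj (f x) (V.map f) := by
  unfold cj
  rw [Subgroup.map_map, Subgroup.map_map]
  congr 1
  refine MonoidHom.ext fun y => ?_
  simp

theorem le_nrm (V : Subgroup G) : V ≤ nrm V := Subgroup.le_normalizer

end general

section

variable {F : Type*} [Field F]

theorem ta_cjP (g : GL (Fin 2) F) (a : PSL F) : ta (cjP g a) = pr g * ta a * (pr g)⁻¹ := by
  obtain ⟨A, rfl⟩ := QuotientGroup.mk_surjective a
  change ta (cjP g (Cfsg.Agent.ClassicalGeometry.PSL2Klein.mk A)) = _
  rw [cjP_mk]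
  change pr (SpecialLinearGroup.toGL _) = pr g * pr (SpecialLinearGroup.toGL A) * (pr g)⁻¹
  rw [← map_inv, ← map_mul, ← map_mul]
  congr 1
  exact Units.ext rfl

theorem map_ta_cjP (g : GL (Fin 2) F) (V : Subgroup (PSL F)) :
    (V.map (cjP g)).map ta = cj (pr g) (V.map ta) := by
  unfold cj
  rw [Subgroup.map_map, Subgroup.map_map]
  congr 1
  refine MonoidHom.ext fun a => ?_
  rw [MonoidHom.comp_apply, MonoidHom.comp_apply, ta_cjP]
  rfl

theorem cjP_injective (g : GL (Fin 2) F) : Function.Injective (cjP g) := by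
  intro a b h
  have h1 := congrArg (cjP g⁻¹) h
  rw [← MonoidHom.comp_apply, ← MonoidHom.comp_apply, ← cjP_mul, inv_mul_cancel, cjP_one] at h1
  exact h1

theorem isKleinFour_map {G H : Type*} [Group G] [Group H] {f : G →* H}
    (hf : Function.Injective f) {V : Subgroup G} (hV : IsKleinFour V) :
    IsKleinFour (V.map f) := by
  have e : V ≃* V.map f := V.equivMapOfInjective _ hf
  exact ⟨by rw [← Nat.card_congr e.toEquiv, hV.card_four],
      by rw [← Monoid.exponent_eq_of_mulEquiv e, hV.exponent_two]⟩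

/-- The normaliser in `PGL₂(F)` of a Klein four-subgroup of `PSL₂(F)` has order `24`. -/
theorem card_nrm_klein [Fintype F] (hodd : Odd (Fintype.card F)) {V : Subgroup (PSL F)}
    (hV : IsKleinFour V) : Nat.card (nrm (V.map (ta : PSL F →* PGL F))) = 24 := by
  classical
  have h2 : (2 : F) ≠ 0 := (two_ne_zero_iff_odd F).2 hodd
  letI act : MulAction (PGL F) (Subgroup (PGL F)) :=
    { smul := cj
      one_smul := cj_one
      mul_smul := cj_mul }
  have horb : MulAction.orbit (PGL F) (V.map (ta : PSL F →* PGL F)) =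
      (fun W : Subgroup (PSL F) => W.map (ta : PSL F →* PGL F)) '' {W | IsKleinFour W} := by
    ext X
    constructor
    · rintro ⟨x, rfl⟩
      obtain ⟨g, rfl⟩ := pr_surjective x
      refine ⟨V.map (cjP g), isKleinFour_map (cjP_injective g) hV, ?_⟩
      exact map_ta_cjP g V
    · rintro ⟨W, hW, rfl⟩
      obtain ⟨g, hg⟩ := exists_map_eq h2 hV hW
      refine ⟨pr g, ?_⟩
      show cj (pr g) _ = W.map ta
      rw [← map_ta_cjP, hg]
  have hstab : MulAction.stabilizer (PGL F) (V.map (ta : PSL F →* PGL F)) =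
      nrm (V.map (ta : PSL F →* PGL F)) := by
    ext x
    rw [mem_nrm]
    exact Iff.rfl
  haveI : Finite (PGL F) := inferInstance
  have h3 : Nat.card (MulAction.orbit (PGL F) (V.map (ta : PSL F →* PGL F))) *
      Nat.card (MulAction.stabilizer (PGL F) (V.map (ta : PSL F →* PGL F))) =
      Nat.card (PGL F) := by
    rw [← Nat.card_prod]
    exact Nat.card_congr (MulAction.orbitProdStabilizerEquivGroup (PGL F) _)
  have h4 : Nat.card (MulAction.orbit (PGL F) (V.map (ta : PSL F →* PGL F))) =
      Nat.card {W : Subgroup (PSL F) // IsKleinFour W} := by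
    rw [horb, Nat.card_coe_set_eq,
      Set.ncard_image_of_injective _ (Subgroup.map_injective ta_injective),
      ← Nat.card_coe_set_eq]
    rfl
  rw [h4, hstab] at h3
  have h5 := Cfsg.Agent.ClassicalGeometry.PSL2Klein.card_klein (F := F) h2
  have h6 : Nat.card (PGL F) = 2 * Nat.card (PSL F) := by
    rw [← card_LL, ← (LL F).card_mul_index, index_LL_odd hodd, mul_comm]
  have hpos : 0 < Nat.card {W : Subgroup (PSL F) // IsKleinFour W} := by
    have : Nonempty {W : Subgroup (PSL F) // IsKleinFour W} := ⟨⟨V, hV⟩⟩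
    exact Nat.card_pos
  rw [h6, ← h5] at h3
  apply Nat.eq_of_mul_eq_mul_left hpos
  rw [h3]
  ring

theorem odd_subfield [Fintype F] (hodd : Odd (Fintype.card F)) (k : Subfield F) :
    Odd (Nat.card k) := by
  by_contra h
  rw [Nat.not_odd_iff_even] at h
  have h5 := card_subfield_pow k
  rw [Nat.card_eq_fintype_card (α := F)] at h5
  rw [← h5] at hodd
  have hm : Module.finrank k F ≠ 0 := by
    intro h0
    rw [h0, pow_zero] at h5
    have : 1 < Fintype.card F := Fintype.one_lt_card
    omega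
  exact (Nat.not_odd_iff_even.mpr (h.pow_of_ne_zero hm)) hodd

/-- The normaliser of a Klein four-subgroup is conjugate to a subgroup of `PGL₂(k)`. -/
theorem exists_cj_nrm_le [Fintype F] (hodd : Odd (Fintype.card F)) {V : Subgroup (PSL F)}
    (hV : IsKleinFour V) (k : Subfield F) :
    ∃ b : PGL F, cj b (nrm (V.map (ta : PSL F →* PGL F))) ≤ PG k := by
  have h2 : (2 : F) ≠ 0 := (two_ne_zero_iff_odd F).2 hodd
  haveI : Fintype k := Fintype.ofFinite k
  have hoddk : Odd (Fintype.card k) := by
    rw [← Nat.card_eq_fintype_card]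
    exact odd_subfield hodd k
  have h2k : (2 : k) ≠ 0 := (two_ne_zero_iff_odd k).2 hoddk
  obtain ⟨W₀, hW₀⟩ := exists_isKleinFour (F := k) h2k
  set ψ : PGL k →* PGL F := Matrix.ProjGenLinGroup.map (n := Fin 2) k.subtype with hψ
  have hψi : Function.Injective ψ := map_inj k
  have hcomm : ∀ a : PSL k, ta (pslMap (n := Fin 2) k.subtype a) = ψ (ta a) := by
    intro a
    obtain ⟨A, rfl⟩ := QuotientGroup.mk_surjective a
    rw [pslMap_mk, ta_mk, ta_mk, hψ, Matrix.ProjGenLinGroup.map_mk]
    congr 1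
    exact Units.ext rfl
  set W : Subgroup (PSL F) := W₀.map (pslMap (n := Fin 2) k.subtype) with hWdef
  have hW : IsKleinFour W := isKleinFour_map (pslMap_injective _) hW₀
  have hWW : W.map (ta : PSL F →* PGL F) = (W₀.map ta).map ψ := by
    rw [hWdef, Subgroup.map_map, Subgroup.map_map]
    congr 1
    exact MonoidHom.ext hcomm
  have hle : (nrm (W₀.map (ta : PSL k →* PGL k))).map ψ ≤ nrm (W.map (ta : PSL F →* PGL F)) := by
    rintro _ ⟨x, hx, rfl⟩
    rw [SetLike.mem_coe, mem_nrm] at hx
    rw [mem_nrm, hWW, ← map_cj, hx]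
  have hcard : Nat.card ((nrm (W₀.map (ta : PSL k →* PGL k))).map ψ) = 24 := by
    rw [← card_nrm_klein hoddk hW₀]
    exact (Nat.card_congr (Subgroup.equivMapOfInjective _ ψ hψi).toEquiv).symm
  have heq : (nrm (W₀.map (ta : PSL k →* PGL k))).map ψ = nrm (W.map (ta : PSL F →* PGL F)) := by
    apply Subgroup.eq_of_le_of_card_ge hle
    rw [hcard, card_nrm_klein hodd hW]
  obtain ⟨g, hg⟩ := exists_map_eq h2 hV hW
  refine ⟨pr g, ?_⟩
  rw [cj_nrm, ← map_ta_cjP, hg, ← heq]
  exact Subgroup.map_le_range _ _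

/-- If `2` is a square then the normaliser in `PGL₂(F)` is contained in `PSL₂(F)`. -/
theorem nrm_le_of_square [Fintype F] (hodd : Odd (Fintype.card F)) (hs : IsSquare (2 : F))
    {V : Subgroup (PSL F)} (hV : IsKleinFour V) :
    nrm (V.map (ta : PSL F →* PGL F)) ≤ LL F := by
  have h2 : (2 : F) ≠ 0 := (two_ne_zero_iff_odd F).2 hodd
  intro x hx
  by_contra hxL
  obtain ⟨g, rfl⟩ := pr_surjective x
  rw [mem_LL_iff] at hxL
  have hg : V.map (cjP g) = V := by
    apply Subgroup.map_injective ta_injective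
    rw [map_ta_cjP]
    exact mem_nrm.mp hx
  obtain ⟨W, hW, hW'⟩ := exists_not_conj h2 hs hV
  apply hW'
  obtain ⟨g', hg'⟩ := exists_map_eq h2 hV hW
  by_cases hsq : IsSquare g'.1.det
  · exact conj_of_map_square hg' hsq
  · apply conj_of_map_square (g := g' * g)
    · rw [Cfsg.Agent.ClassicalGeometry.PSL2KleinConj.map_mul, hg, hg']
    · rw [Units.val_mul, det_mul]
      exact isSquare_mul_of_not hsq hxL

/-- If `2` is not a square then the normaliser in `PSL₂(F)` has order `12`. -/
theorem card_nrm_inf_of_not_square [Fintype F] (hodd : Odd (Fintype.card F))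
    (hs : ¬ IsSquare (2 : F)) {V : Subgroup (PSL F)} (hV : IsKleinFour V) :
    Nat.card (nrm (V.map (ta : PSL F →* PGL F)) ⊓ LL F : Subgroup (PGL F)) = 12 := by
  have h2 : (2 : F) ≠ 0 := (two_ne_zero_iff_odd F).2 hodd
  obtain ⟨A, B, h, hVAB⟩ := exists_pair_of_isKleinFour hV
  obtain ⟨n, -, hn, hmap, -, -⟩ := exists_normalizer_det_two h2 h
  rw [hVAB] at hmap
  have h1 : pr n ∈ nrm (V.map (ta : PSL F →* PGL F)) := by
    rw [mem_nrm, ← map_ta_cjP, hmap]
  have h3 : ¬ nrm (V.map (ta : PSL F →* PGL F)) ≤ LL F := by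
    intro hle
    have h4 := hle h1
    rw [mem_LL_iff] at h4
    change IsSquare (n.1.det) at h4
    rw [hn] at h4
    exact hs h4
  have h5 := card_inf_of_not_le (index_LL_odd hodd) h3
  rw [card_nrm_klein hodd hV] at h5
  omega

/-- If `2` is not a square then the Klein four-subgroups are conjugate in `PSL₂(F)`. -/
theorem exists_cj_eq_of_not_square [Fintype F] (hodd : Odd (Fintype.card F))
    (hs : ¬ IsSquare (2 : F)) {V W : Subgroup (PSL F)} (hV : IsKleinFour V)
    (hW : IsKleinFour W) : ∃ a : PSL F, cj a V = W := by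
  have h2 : (2 : F) ≠ 0 := (two_ne_zero_iff_odd F).2 hodd
  obtain ⟨a, ha⟩ := conj_of_two_not_square h2 hs hV hW
  exact ⟨a, ha.symm⟩

end

end Cfsg.Agent.H937
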