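import Mathlib
import Cfsg.Agent.H937.Odd1
import Cfsg.Agent.S0804

/-!
# Subgroups `A₅` of `PSL₂(F)` are conjugate into small subfield subgroups
-/

set_option autoImplicit false
set_option linter.style.haveILetI false

namespace Cfsg.Agent.H937

open Matrix
open Cfsg.Agent.ClassicalGeometry.PSL2Basic
open Cfsg.Agent.ClassicalGeometry.KleinCount Cfsg.Agent.ClassicalGeometry.QuatPair
open Cfsg.Agent.ClassicalGeometry.PSL2Klein (commInv_iff mem_center)

section

variable {F : Type*} [Field F]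

local notation "SL2" => Matrix.SpecialLinearGroup (Fin 2)

/-- Expansion of a matrix with respect to a quaternion pair. -/
theorem expand (h2 : (2 : F) ≠ 0) {A B : Matrix (Fin 2) (Fin 2) F} (h : IsPair A B)
    (X : Matrix (Fin 2) (Fin 2) F) :
    X = (X.trace / 2) • (1 : Matrix (Fin 2) (Fin 2) F) + (-((X * A).trace / 2)) • A +
      (-((X * B).trace / 2)) • B + (-((X * (A * B)).trace / 2)) • (A * B) := by
  set Y := X - ((X.trace / 2) • (1 : Matrix (Fin 2) (Fin 2) F) + (-((X * A).trace / 2)) • A +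
      (-((X * B).trace / 2)) • B + (-((X * (A * B)).trace / 2)) • (A * B)) with hY
  have t1 : (1 : Matrix (Fin 2) (Fin 2) F).trace = 2 := by simp
  have tA := h.traceA h2
  have tB := h.traceB h2
  have tAB := h.traceAB h2
  have tAA : (A * A).trace = -2 := by rw [h.sqA, trace_neg, t1]
  have tBB : (B * B).trace = -2 := by rw [h.sqB, trace_neg, t1]
  have tBA : (B * A).trace = 0 := by rw [trace_mul_comm, tAB]
  have tABA : (A * B * A).trace = 0 := by rw [mul_assoc, h.anti', mul_neg, h.sqA', neg_neg, tB]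
  have tABB : (A * B * B).trace = 0 := by rw [mul_assoc, h.sqB, mul_neg, mul_one, trace_neg, tA, neg_zero]
  have tAAB : (A * (A * B)).trace = 0 := by rw [h.sqA', trace_neg, tB, neg_zero]
  have tBAB : (B * (A * B)).trace = 0 := by rw [h.anti'', h.sqB, mul_neg, mul_one, neg_neg, tA]
  have tABAB : (A * B * (A * B)).trace = -2 := by rw [h.mul.sqB, trace_neg, t1]
  have hYt : Y.trace = 0 := by
    rw [hY]
    simp only [trace_sub, trace_add, trace_smul, t1, tA, tB, tAB, smul_eq_mul]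
    field_simp
    ring
  have hYA : (Y * A).trace = 0 := by
    rw [hY]
    simp only [sub_mul, add_mul, smul_mul_assoc, one_mul, trace_sub, trace_add, trace_smul, tA,
      tAA, tBA, tABA, smul_eq_mul]
    field_simp
    ring
  have hYB : (Y * B).trace = 0 := by
    rw [hY]
    simp only [sub_mul, add_mul, smul_mul_assoc, one_mul, trace_sub, trace_add, trace_smul, tB,
      tAB, tBB, tABB, smul_eq_mul]
    field_simp
    ring
  have hYAB : (Y * (A * B)).trace = 0 := by
    rw [hY]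
    simp only [sub_mul, add_mul, smul_mul_assoc, one_mul, trace_sub, trace_add, trace_smul, tAB,
      tAAB, tBAB, tABAB, smul_eq_mul]
    field_simp
    ring
  have e1 : Y * A = -(A * Y) := by
    have := mul_add_mul_swap hYt tA
    rw [hYA, zero_smul] at this
    exact eq_neg_of_add_eq_zero_left this
  have e2 : Y * B = -(B * Y) := by
    have := mul_add_mul_swap hYt tB
    rw [hYB, zero_smul] at this
    exact eq_neg_of_add_eq_zero_left this
  have e3 : Y * (A * B) = (A * B) * Y := by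
    rw [← mul_assoc, e1, neg_mul, mul_assoc, e2, mul_neg, neg_neg, mul_assoc]
  obtain ⟨c, hc⟩ := eq_smul_of_commute h2 h.mul.sqB tAB hYt e3
  have hc0 : c = 0 := by
    rw [hc, smul_mul_assoc, trace_smul, tABAB, smul_eq_mul] at hYAB
    rcases mul_eq_zero.mp hYAB with h3 | h3
    · exact h3
    · exact absurd (neg_eq_zero.mp h3) h2
  rw [hc0, zero_smul] at hc
  rw [hc] at hY
  exact (sub_eq_zero.mp hY.symm)

/-- A scalar matrix of determinant one has trace `±2`. -/
theorem trace_mem_of_scalar (k : Subfield F) {X : SL2 F} {a b : F} (ha : a ≠ 0)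
    (h : a • (X : Matrix (Fin 2) (Fin 2) F) = b • (1 : Matrix (Fin 2) (Fin 2) F)) :
    (X : Matrix (Fin 2) (Fin 2) F).trace ∈ k := by
  have h1 : (X : Matrix (Fin 2) (Fin 2) F) = (b / a) • (1 : Matrix (Fin 2) (Fin 2) F) := by
    rw [div_eq_inv_mul, mul_smul, ← h, smul_smul, inv_mul_cancel₀ ha, one_smul]
  have h2 := X.2
  rw [h1, det_smul, det_one, mul_one, Fintype.card_fin, sq_eq_one_iff] at h2
  rw [h1, trace_smul, trace_one, Fintype.card_fin, smul_eq_mul]
  rcases h2 with h2 | h2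
  · rw [h2, one_mul]
    exact_mod_cast natCast_mem k 2
  · rw [h2, neg_one_mul]
    apply neg_mem
    exact_mod_cast natCast_mem k 2

theorem coe_sign {X : SL2 F} (h : X = 1 ∨ X = -1) : ∃ c : F, c ∈ (⊥ : Subfield F) ∧
    (X : Matrix (Fin 2) (Fin 2) F) = c • (1 : Matrix (Fin 2) (Fin 2) F) := by
  rcases h with rfl | rfl
  · exact ⟨1, one_mem _, by simp⟩
  · exact ⟨-1, neg_mem (one_mem _), by simp⟩

/-- Traces of elements of order `1, 2, 3, 5` of `PSL₂(F)`. -/
theorem trace_mem {k : Subfield F} (hk : ∀ t : F, t ^ 2 = t + 1 → t ∈ k) {X : SL2 F}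
    (hX : (QuotientGroup.mk X : PSL F) ^ 2 = 1 ∨ (QuotientGroup.mk X : PSL F) ^ 3 = 1 ∨
      (QuotientGroup.mk X : PSL F) ^ 5 = 1) :
    (X : Matrix (Fin 2) (Fin 2) F).trace ∈ k := by
  have hsq := sl2_mul_self X
  set t := (X : Matrix (Fin 2) (Fin 2) F).trace with ht
  rcases hX with h | h | h
  · rw [← QuotientGroup.mk_pow, QuotientGroup.eq_one_iff, mem_center] at h
    obtain ⟨c, -, hc⟩ := coe_sign h
    rw [pow_two, Matrix.SpecialLinearGroup.coe_mul, hsq] at hc
    by_cases h0 : t = 0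
    · rw [h0]; exact zero_mem k
    · apply trace_mem_of_scalar k (a := t) (b := c + 1) h0
      rw [add_smul, ← hc, one_smul, sub_add_cancel]
  · rw [← QuotientGroup.mk_pow, QuotientGroup.eq_one_iff, mem_center] at h
    obtain ⟨c, -, hc⟩ := coe_sign h
    have h3 : ((X ^ 3 : SL2 F) : Matrix (Fin 2) (Fin 2) F) =
        (t ^ 2 - 1) • (X : Matrix (Fin 2) (Fin 2) F) - t • (1 : Matrix (Fin 2) (Fin 2) F) := by
      have h4 : (X ^ 3 : SL2 F) = (X * X) * X := by
        simp only [pow_succ, pow_zero, one_mul]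
      rw [h4, Matrix.SpecialLinearGroup.coe_mul, Matrix.SpecialLinearGroup.coe_mul, hsq, sub_mul,
        smul_mul_assoc, hsq, one_mul]
      module
    rw [h3] at hc
    by_cases h0 : t ^ 2 - 1 = 0
    · have h5 : (t - 1) * (t + 1) = 0 := by linear_combination h0
      rcases mul_eq_zero.mp h5 with h6 | h6
      · rw [sub_eq_zero.mp h6]; exact one_mem k
      · rw [eq_neg_of_add_eq_zero_left h6]; exact neg_mem (one_mem k)
    · apply trace_mem_of_scalar k (a := t ^ 2 - 1) (b := c + t) h0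
      rw [add_smul, ← hc, sub_add_cancel]
  · rw [← QuotientGroup.mk_pow, QuotientGroup.eq_one_iff, mem_center] at h
    obtain ⟨c, -, hc⟩ := coe_sign h
    rw [Cfsg.Agent.S0804.pow_five_eq, ← ht] at hc
    by_cases h0 : t ^ 4 - 3 * t ^ 2 + 1 = 0
    · have h5 : (t ^ 2 - t - 1) * (t ^ 2 + t - 1) = 0 := by linear_combination h0
      rcases mul_eq_zero.mp h5 with h6 | h6
      · exact hk t (by linear_combination h6)
      · have h7 : -t ∈ k := hk (-t) (by linear_combination h6)
        have h8 := neg_mem h7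
        rwa [neg_neg] at h8
    · apply trace_mem_of_scalar k (a := t ^ 4 - 3 * t ^ 2 + 1) (b := c + (t ^ 3 - 2 * t)) h0
      rw [add_smul c, ← hc, sub_add_cancel]

/-- Membership in `PS k` by entries. -/
theorem mem_PS_of_entries {k : Subfield F} {X : SL2 F} (h : ∀ i j, X i j ∈ k) :
    pr (SpecialLinearGroup.toGL X) ∈ PS k := by
  let X₁ : Matrix (Fin 2) (Fin 2) k := Matrix.of fun i j => ⟨X i j, h i j⟩
  have hdet : X₁.det = 1 := by
    rw [det_fin_two X₁]
    apply Subtype.ext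
    have h1 := X.2
    rw [det_fin_two] at h1
    exact h1
  let X₀ : SL2 k := ⟨X₁, hdet⟩
  refine ⟨QuotientGroup.mk X₀, ?_⟩
  rw [MonoidHom.comp_apply, ta_mk, Matrix.ProjGenLinGroup.map_mk]
  congr 1
  exact Units.ext rfl

theorem conj_le_PS [Finite F] (h2 : (2 : F) ≠ 0) {k : Subfield F}
    (hk : ∀ t : F, t ^ 2 = t + 1 → t ∈ k) {M : Subgroup (PGL F)} (hM : M ≤ LL F)
    (hord : ∀ x ∈ M, x ^ 2 = 1 ∨ x ^ 3 = 1 ∨ x ^ 5 = 1)
    (hV : ∃ a ∈ M, ∃ b ∈ M, CommInv a b) : ∃ b : PGL F, cj b M ≤ PS k := by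
  obtain ⟨a, ha, b, hb, hab⟩ := hV
  obtain ⟨a₀, rfl⟩ := hM ha
  obtain ⟨b₀, rfl⟩ := hM hb
  have hab₀ : CommInv a₀ b₀ := by
    refine ⟨?_, ?_, ?_, ?_, ?_, ?_⟩
    · rintro rfl
      exact hab.hx (map_one _)
    · rintro rfl
      exact hab.hy (map_one _)
    · rintro rfl
      exact hab.hxy rfl
    · apply ta_injective
      rw [map_mul, hab.xx, map_one]
    · apply ta_injective
      rw [map_mul, hab.yy, map_one]
    · apply ta_injective
      rw [map_mul, map_mul, hab.comm]
  obtain ⟨A, rfl⟩ := QuotientGroup.mk_surjective a₀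
  obtain ⟨B, rfl⟩ := QuotientGroup.mk_surjective b₀
  have hpair : IsPair A.1 B.1 := (commInv_iff h2).mp hab₀
  -- the traces
  have htr : ∀ X : SL2 F, ta (QuotientGroup.mk X : PSL F) ∈ M →
      (X : Matrix (Fin 2) (Fin 2) F).trace ∈ k := by
    intro X hX
    apply trace_mem hk
    rcases hord _ hX with h | h | h
    · left
      apply ta_injective
      rw [map_pow, h, map_one]
    · right; left
      apply ta_injective
      rw [map_pow, h, map_one]
    · right; right
      apply ta_injective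
      rw [map_pow, h, map_one]
  -- a pair over `k`
  haveI : Finite k := Subtype.finite
  have h2k : (2 : k) ≠ 0 := by
    intro h
    apply h2
    exact congrArg Subtype.val h
  obtain ⟨A₁, B₁, h₁⟩ := exists_isPair (F := k) h2k
  set A' : Matrix (Fin 2) (Fin 2) F := A₁.map k.subtype with hA'
  set B' : Matrix (Fin 2) (Fin 2) F := B₁.map k.subtype with hB'
  have hmap1 : (1 : Matrix (Fin 2) (Fin 2) k).map k.subtype = 1 := by
    rw [Matrix.map_one _ (map_zero _) (map_one _)]
  have hmapmul : ∀ X Y : Matrix (Fin 2) (Fin 2) k, (X * Y).map k.subtype =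
      X.map k.subtype * Y.map k.subtype := fun X Y => Matrix.map_mul
  have hmapneg : ∀ X : Matrix (Fin 2) (Fin 2) k, (-X).map k.subtype = - X.map k.subtype := by
    intro X
    ext i j
    simp
  have hpair' : IsPair A' B' := by
    refine ⟨?_, ?_, ?_⟩
    · rw [hA', ← hmapmul, h₁.sqA, hmapneg, hmap1]
    · rw [hB', ← hmapmul, h₁.sqB, hmapneg, hmap1]
    · rw [hA', hB', ← hmapmul, h₁.anti, hmapneg, hmapmul]
  obtain ⟨g, hg, hgA, hgB⟩ := exists_intertwine h2 hpair hpair'
  let g' : GL (Fin 2) F := Matrix.GeneralLinearGroup.mkOfDetNeZero g hg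
  have hg' : g'.1 = g := rfl
  refine ⟨pr g', ?_⟩
  intro y hy
  rw [mem_cj] at hy
  obtain ⟨x₀, hx₀⟩ := hM hy
  obtain ⟨X, rfl⟩ := QuotientGroup.mk_surjective x₀
  have hXM : ta (QuotientGroup.mk X : PSL F) ∈ M := by rw [hx₀]; exact hy
  -- conjugate
  let Y : SL2 F := Cfsg.Agent.ClassicalGeometry.PSL2KleinConj.cj g' X
  have hYy : y = pr (SpecialLinearGroup.toGL Y) := by
    have h3 : y = pr g' * ta (QuotientGroup.mk X : PSL F) * (pr g')⁻¹ := by
      rw [hx₀]; group
    rw [h3, ← ta_cjP]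
    rfl
  rw [hYy]
  apply mem_PS_of_entries
  have hY : (Y : Matrix (Fin 2) (Fin 2) F) = g'.1 * X.1 * g'⁻¹.1 := rfl
  have hexp := expand h2 hpair X.1
  have t0 : X.1.trace ∈ k := htr X hXM
  have tA : (X.1 * A.1).trace ∈ k := by
    have := htr (X * A) (by
      rw [QuotientGroup.mk_mul, map_mul]
      exact mul_mem hXM ha)
    rwa [Matrix.SpecialLinearGroup.coe_mul] at this
  have tB : (X.1 * B.1).trace ∈ k := by
    have := htr (X * B) (by
      rw [QuotientGroup.mk_mul, map_mul]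
      exact mul_mem hXM hb)
    rwa [Matrix.SpecialLinearGroup.coe_mul] at this
  have tAB : (X.1 * (A.1 * B.1)).trace ∈ k := by
    have := htr (X * (A * B)) (by
      rw [QuotientGroup.mk_mul, QuotientGroup.mk_mul, map_mul, map_mul]
      exact mul_mem hXM (mul_mem ha hb))
    rwa [Matrix.SpecialLinearGroup.coe_mul, Matrix.SpecialLinearGroup.coe_mul] at this
  have hgg : g'.1 * g'⁻¹.1 = 1 := Units.mul_inv g'
  have cA : g'.1 * A.1 * g'⁻¹.1 = A' := by
    rw [hg', ← hgA, ← hg', mul_assoc, hgg, mul_one]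
  have cB : g'.1 * B.1 * g'⁻¹.1 = B' := by
    rw [hg', ← hgB, ← hg', mul_assoc, hgg, mul_one]
  have cAB : g'.1 * (A.1 * B.1) * g'⁻¹.1 = A' * B' := by
    rw [hg', ← mul_assoc, ← hgA, mul_assoc A', ← hgB, ← hg', mul_assoc, mul_assoc, hgg, mul_one]
  have hYe : (Y : Matrix (Fin 2) (Fin 2) F) =
      (X.1.trace / 2) • (1 : Matrix (Fin 2) (Fin 2) F) + (-((X.1 * A.1).trace / 2)) • A' +
      (-((X.1 * B.1).trace / 2)) • B' + (-((X.1 * (A.1 * B.1)).trace / 2)) • (A' * B') := by
    rw [hY]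
    conv_lhs => rw [hexp]
    simp only [mul_add, add_mul, mul_smul_comm, smul_mul_assoc, cA, cB, cAB, mul_one, hgg]
  have h2m : (2 : F) ∈ k := by exact_mod_cast natCast_mem k 2
  intro i j
  have hm1 : (1 : Matrix (Fin 2) (Fin 2) F) i j ∈ k := by
    rw [← hmap1]
    exact ((1 : Matrix (Fin 2) (Fin 2) k) i j).2
  have hmA : A' i j ∈ k := (A₁ i j).2
  have hmB : B' i j ∈ k := (B₁ i j).2
  have hmAB : (A' * B') i j ∈ k := by
    rw [hA', hB', ← hmapmul]
    exact ((A₁ * B₁) i j).2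
  show (Y : Matrix (Fin 2) (Fin 2) F) i j ∈ k
  rw [hYe]
  simp only [Matrix.add_apply, Matrix.smul_apply, smul_eq_mul]
  exact add_mem (add_mem (add_mem (mul_mem (div_mem t0 h2m) hm1)
    (mul_mem (neg_mem (div_mem tA h2m)) hmA)) (mul_mem (neg_mem (div_mem tB h2m)) hmB))
    (mul_mem (neg_mem (div_mem tAB h2m)) hmAB)

end

end Cfsg.Agent.H937
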