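import Mathlib
import Cfsg.Agent.H937.Golden

/-!
# Maximal subgroups of `PSL₂(q)`, `q` odd: subfield subgroups
-/

set_option autoImplicit false
set_option linter.style.haveILetI false

namespace Cfsg.Agent.H937

open Matrix
open Cfsg.Agent.ClassicalGeometry.PSL2Basic

section

variable {F : Type*} [Field F]

local notation "SL2" => Matrix.SpecialLinearGroup (Fin 2)

theorem mem_PS_iff {k : Subfield F} {x : PGL F} : x ∈ PS k ↔
    ∃ X : SL2 F, (∀ i j, X i j ∈ k) ∧ pr (SpecialLinearGroup.toGL X) = x := by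
  constructor
  · rintro ⟨a, rfl⟩
    obtain ⟨A, rfl⟩ := QuotientGroup.mk_surjective a
    refine ⟨Matrix.SpecialLinearGroup.map k.subtype A, ?_, ?_⟩
    · intro i j
      exact (A i j).2
    · rw [MonoidHom.comp_apply, ta_mk, Matrix.ProjGenLinGroup.map_mk]
      congr 1
      exact Units.ext rfl
  · rintro ⟨X, hX, rfl⟩
    exact mem_PS_of_entries hX

theorem PS_mono {k k' : Subfield F} (h : k ≤ k') : PS k ≤ PS k' := by
  intro x hx
  obtain ⟨X, hX, rfl⟩ := mem_PS_iff.mp hx
  exact mem_PS_of_entries (fun i j => h (hX i j))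

theorem PS_top : PS (⊤ : Subfield F) = LL F := by
  apply le_antisymm (PS_le_LL _)
  rintro _ ⟨a, rfl⟩
  obtain ⟨A, rfl⟩ := QuotientGroup.mk_surjective a
  rw [ta_mk]
  exact mem_PS_of_entries (fun i j => Subfield.mem_top _)

theorem two_card_PS [Fintype F] (hodd : Odd (Fintype.card F)) (k : Subfield F) :
    2 * Nat.card (PS k) = Nat.card (PG k) := by
  letI : Fintype k := Fintype.ofFinite k
  have h := card_PSL2_odd k (by rw [← Nat.card_eq_fintype_card]; exact odd_subfield hodd k)
  rw [card_PS, card_PG, card_PGL2, ← h, mul_comm]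

theorem PS_lt [Fintype F] (hodd : Odd (Fintype.card F)) {k k' : Subfield F} (hle : k ≤ k')
    (h : Nat.card k < Nat.card k') : PS k < PS k' := by
  refine lt_of_le_of_ne (PS_mono hle) ?_
  intro h1
  have h2 := card_PG_lt h
  rw [← two_card_PS hodd, ← two_card_PS hodd, h1] at h2
  exact lt_irrefl _ h2

theorem PS_lt_PG [Fintype F] (hodd : Odd (Fintype.card F)) (k : Subfield F) : PS k < PG k := by
  refine lt_of_le_of_ne (PS_le_PG k) ?_
  intro h1
  have h2 := two_card_PS hodd k
  rw [h1] at h2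
  have h3 : 0 < Nat.card (PG k) := Nat.card_pos
  omega

theorem PS_lt_LL [Fintype F] (hodd : Odd (Fintype.card F)) {k : Subfield F}
    (h : Nat.card k < Nat.card F) : PS k < LL F := by
  rw [← PS_top]
  apply PS_lt hodd le_top
  rw [card_top_subfield]
  exact h

theorem two_card_LL [Fintype F] (hodd : Odd (Fintype.card F)) :
    2 * Nat.card (LL F) + Fintype.card F = Fintype.card F ^ 3 := by
  rw [← card_PGL_eq hodd, card_PGL_cube]

theorem card_lt_of_ne_top [Fintype F] {k : Subfield F} (h : k ≠ ⊤) :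
    Nat.card k < Nat.card F := by
  refine lt_of_le_of_ne ?_ ?_
  · exact Nat.card_le_card_of_injective _ k.subtype_injective
  · intro h1
    exact h (subfield_eq_top_of_card h1)

/-- `PGL₂(k)` is smaller than `PSL₂(F)` for a proper subfield `k`. -/
theorem card_PG_lt_LL [Fintype F] (hodd : Odd (Fintype.card F)) {k : Subfield F}
    (h : Nat.card k < Nat.card F) : Nat.card (PG k) < Nat.card (LL F) := by
  have h1 := card_cube k
  have h2 := two_card_LL hodd
  have h3 := card_subfield_pow k
  have h4 : 1 < Nat.card k := Finite.one_lt_card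
  have hm : 2 ≤ Module.finrank k F := by
    by_contra hcon
    have h5 : Module.finrank k F = 0 ∨ Module.finrank k F = 1 := by omega
    rcases h5 with h5 | h5
    · rw [h5, pow_zero] at h3
      omega
    · rw [h5, pow_one] at h3
      omega
  have h5 : Nat.card k ^ 2 ≤ Nat.card F := by
    rw [← h3]
    exact Nat.pow_le_pow_right (by omega) hm
  rw [Nat.card_eq_fintype_card (α := F)] at h5
  have h6 := odd_subfield hodd k
  have h7 : 3 ≤ Nat.card k := by
    rcases h6 with ⟨j, hj⟩
    omega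
  generalize Nat.card k = a at *
  generalize Fintype.card F = q at *
  generalize Nat.card (PG k) = x at *
  generalize Nat.card (LL F) = y at *
  have h8 : 9 ≤ a ^ 2 := by nlinarith
  have h9 : 2 * a ^ 3 ≤ a * a ^ 2 * a := by nlinarith [pow_pos (show 0 < a by omega) 3]
  have h10 : q * (9 * 9) ≤ q ^ 3 := by
    have : q ^ 3 = q * (q * q) := by ring
    rw [this]
    apply Nat.mul_le_mul_left
    nlinarith
  have h11 : a ^ 2 * a ^ 2 ≤ q * q := Nat.mul_le_mul h5 h5
  have h12 : q * (a ^ 2 * a ^ 2) ≤ q ^ 3 := by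
    have : q ^ 3 = q * (q * q) := by ring
    rw [this]
    exact Nat.mul_le_mul_left _ h11
  have h13 : 9 * (a ^ 2 * a ^ 2) ≤ q ^ 3 := by nlinarith
  have h14 : a ^ 2 * a ^ 2 = a * a ^ 3 := by ring
  nlinarith [pow_pos (show 0 < a by omega) 3]

theorem ps_case [Fintype F] (hodd : Odd (Fintype.card F)) {M : Subgroup (PGL F)}
    (hM : M ⋖ LL F) {k : Subfield F} {b : PGL F} (hb : cj b M = PS k) :
    ∃ (k : Subfield F) (r : ℕ), r.Prime ∧ Odd r ∧ Nat.card F = Nat.card k ^ r ∧
      Nonempty (M ≃* PSL k) := by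
  have hcov : PS k ⋖ LL F := by
    rw [← hb]
    exact cj_covBy_normal hM
  have hk : Nat.card k < Nat.card F := by
    apply card_lt_of_ne_top
    rintro rfl
    rw [PS_top] at hcov
    exact lt_irrefl _ hcov.lt
  obtain ⟨r, hr, hr'⟩ := exists_prime_pow hk (by
    intro k' hk' h1 h2
    exact hcov.2 (PS_lt hodd hk' h1) (PS_lt_LL hodd h2))
  obtain ⟨e⟩ := nonempty_PS k
  refine ⟨k, r, hr, ?_, hr'.symm, ⟨(cjEquiv b M).trans ((MulEquiv.subgroupCongr hb).trans e)⟩⟩
  rcases hr.eq_two_or_odd' with h2 | h2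
  · exfalso
    rw [h2] at hr'
    have h3 : PG k ≤ LL F := PG_le_LL hodd (m := 1) (by simpa using hr')
    have h4 := card_PG_lt_LL hodd hk
    refine hcov.2 (PS_lt_PG hodd k) (lt_of_le_of_ne h3 ?_)
    intro h5
    rw [h5] at h4
    exact lt_irrefl _ h4
  · exact h2

theorem pg2_case [Fintype F] (hodd : Odd (Fintype.card F)) {M : Subgroup (PGL F)}
    (hM : M ⋖ LL F) {k : Subfield F} {b : PGL F} (hb : cj b M = PG k) :
    ∃ k : Subfield F, Nat.card F = Nat.card k ^ 2 ∧ Nonempty (M ≃* PGL k) := by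
  have hcov : PG k ⋖ LL F := by
    rw [← hb]
    exact cj_covBy_normal hM
  letI : Fintype k := Fintype.ofFinite k
  have hm := card_subfield_pow k
  have hm1 : 1 ≤ Module.finrank k F := by
    by_contra h
    have h0 : Module.finrank k F = 0 := by omega
    rw [h0, pow_zero] at hm
    have : 1 < Nat.card F := Finite.one_lt_card
    omega
  have heven : Even (Module.finrank k F) := by
    apply Cfsg.Agent.S0805.even_of_exists_pgl (K := k) hodd hm1
      (by rw [← Nat.card_eq_fintype_card, ← Nat.card_eq_fintype_card (α := F), hm])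
    refine ⟨(PG k).comap ta, ?_⟩
    obtain ⟨e⟩ := nonempty_PG k
    have h1 : ((PG k).comap (ta : PSL F →* PGL F)).map ta = PG k := by
      rw [Subgroup.map_comap_eq, inf_eq_right]
      exact hcov.le
    exact ⟨(mapTaEquiv _).trans ((MulEquiv.subgroupCongr h1).trans e)⟩
  obtain ⟨s, hs⟩ := heven
  have hs2 : Nat.card k ^ (s * 2) = Nat.card F := by
    rw [← hm, hs]
    congr 1
    omega
  obtain ⟨k', hk', hc⟩ := exists_subfield_over k hs2
  have hF : Nat.card k' ^ 2 = Nat.card F := by rw [hc, ← pow_mul, hs2]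
  have h3 : PG k' ≤ LL F := PG_le_LL hodd (m := 1) (by simpa using hF)
  have hlt : Nat.card k' < Nat.card F := by
    rw [← hF]
    have h4 : 1 < Nat.card k' := Finite.one_lt_card
    nlinarith
  have h4 := card_PG_lt_LL hodd hlt
  have h5 : PG k' ≠ LL F := by
    intro h6
    rw [h6] at h4
    exact lt_irrefl _ h4
  have h6 : PG k = PG k' := by
    by_contra hne
    exact hcov.2 (lt_of_le_of_ne (PG_mono hk') hne) (lt_of_le_of_ne h3 h5)
  obtain ⟨e⟩ := nonempty_PG k'
  rw [h6] at hb
  exact ⟨k', hF.symm, ⟨(cjEquiv b M).trans ((MulEquiv.subgroupCongr hb).trans e)⟩⟩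

end

end Cfsg.Agent.H937
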