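import Mathlib
import Cfsg.Agent.H937.Small

/-!
# Maximal subgroups of `PSL₂(q)`, `q` odd
-/

set_option autoImplicit false
set_option linter.style.haveILetI false

namespace Cfsg.Agent.H937

open Matrix
open Cfsg.Agent.ClassicalGeometry.PSL2Basic
open Cfsg.Agent.ClassicalGeometry.KleinCount

section

variable {F : Type*} [Field F]

theorem ringChar_ne_two [Fintype F] (hodd : Odd (Fintype.card F)) : ringChar F ≠ 2 := by
  intro h
  have := (FiniteField.even_card_iff_char_two (F := F)).1 h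
  rw [Nat.odd_iff] at hodd
  omega

theorem not_BP_le_LL [Fintype F] (hodd : Odd (Fintype.card F)) : ¬ BP F ≤ LL F := by
  intro h
  obtain ⟨a, ha⟩ := FiniteField.exists_nonsquare (ringChar_ne_two hodd)
  have ha0 : a ≠ 0 := by
    rintro rfl
    exact ha (IsSquare.zero)
  have h1 : pr (dgl a ha0) ∈ BP F := by
    rw [pr_mem_BP]
    rfl
  have h2 := h h1
  rw [mem_LL_iff, det_gl] at h2
  apply ha
  have h3 : (dgl a ha0) 0 0 * (dgl a ha0) 1 1 - (dgl a ha0) 0 1 * (dgl a ha0) 1 0 = a := by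
    show a * 1 - 0 * 0 = a
    ring
  rwa [h3] at h2

/-- The case `A₅`. -/
theorem a5_case [Fintype F] (p : ℕ) [Fact p.Prime] [CharP F p] (hodd : Odd (Fintype.card F))
    (h5 : 5 ≤ Fintype.card F) {M : Subgroup (PGL F)} (hM : M ⋖ LL F)
    (e : M ≃* alternatingGroup (Fin 5)) :
    (∃ (k : Subfield F) (r : ℕ), r.Prime ∧ Odd r ∧ Nat.card F = Nat.card k ^ r ∧
      Nonempty (M ≃* PSL k)) ∨
    ((Fintype.card F % 10 = 1 ∨ Fintype.card F % 10 = 9) ∧
      (Fintype.card F = p ∨ (Fintype.card F = p ^ 2 ∧ (p % 10 = 3 ∨ p % 10 = 7)))) := by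
  haveI hexp : ExpChar F p := ExpChar.prime Fact.out
  have h2 : (2 : F) ≠ 0 := (two_ne_zero_iff_odd F).2 hodd
  have hMc : Nat.card M = 60 := by rw [Nat.card_congr e.toEquiv, card_A5]
  have hLL := two_card_LL hodd
  have key : ∀ k : Subfield F, (∀ t : F, t ^ 2 = t + 1 → t ∈ k) → k ≠ ⊤ →
      (∃ (k : Subfield F) (r : ℕ), r.Prime ∧ Odd r ∧ Nat.card F = Nat.card k ^ r ∧
      Nonempty (M ≃* PSL k)) := by
    intro k hk hkt
    obtain ⟨b, hb⟩ := alt5_conj_le h2 hk e
    have hcov : cj b M ⋖ LL F := cj_covBy_normal hM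
    have hbk : cj b M = PS k := by
      by_contra hne
      exact hcov.2 (lt_of_le_of_ne hb hne) (PS_lt_LL hodd (card_lt_of_ne_top hkt))
    exact ps_case hodd hM hbk
  by_cases hk2 : fix2 F p = ⊤
  · have hpodd : p % 2 = 1 := by
      obtain ⟨n, -, hn⟩ := FiniteField.card F p
      by_contra hcon
      have h3 : Even p := by
        rw [Nat.even_iff]; omega
      have h4 : Even (Fintype.card F) := by
        rw [hn]
        exact h3.pow_of_ne_zero n.ne_zero
      exact (Nat.not_odd_iff_even.mpr h4) hodd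
    have hall : ∀ x : F, x ^ p ^ 2 = x := by
      intro x
      have : x ∈ fix2 F p := by
        rw [hk2]
        exact Subfield.mem_top x
      exact mem_fix2.mp this
    have hpmod : p % 5 < 5 := Nat.mod_lt _ (by norm_num)
    rcases card_of_fix2 hall with hq | hq
    · right
      have hlag : Nat.card M ∣ Nat.card (LL F) := Subgroup.card_dvd_of_le hM.le
      have hlt : Nat.card M < Nat.card (LL F) := by
        refine lt_of_le_of_ne (Nat.le_of_dvd Nat.card_pos hlag) ?_
        intro h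
        exact hM.ne (Subgroup.eq_of_le_of_card_ge hM.le h.ge)
      rw [hMc] at hlag hlt
      have hmod : (Fintype.card F) % 5 = 1 ∨ (Fintype.card F) % 5 = 4 := by
        have h6 : Fintype.card F ^ 3 % 5 = Fintype.card F % 5 := by
          rw [← hLL]
          omega
        have h7 : Fintype.card F % 5 < 5 := Nat.mod_lt _ (by norm_num)
        have h8 : Fintype.card F % 5 ≠ 0 := by
          intro h0
          have h9 : 5 ∣ p := by
            rw [← hq]
            exact Nat.dvd_of_mod_eq_zero h0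
          have h10 : p = 5 :=
            ((Nat.prime_dvd_prime_iff_eq Nat.prime_five Fact.out).mp h9).symm
          rw [hq, h10] at hLL
          omega
        rw [Nat.pow_mod] at h6
        generalize Fintype.card F % 5 = z at *
        interval_cases z <;> simp_all
      refine ⟨?_, Or.inl hq⟩
      rw [hq] at hmod ⊢
      omega
    · by_cases h6 : p % 5 = 0 ∨ p % 5 = 1 ∨ p % 5 = 4
      · left
        apply key ⊥ (fun t ht => golden_mem_bot h2 h6 ht)
        intro hbt
        have h7 := card_eq_of_bot_eq_top p hbt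
        rw [hq] at h7
        have h8 : 1 < p := (Fact.out : p.Prime).one_lt
        nlinarith
      · right
        refine ⟨?_, Or.inr ⟨hq, by omega⟩⟩
        right
        rw [hq, Nat.pow_mod]
        have h7 : p % 10 = 3 ∨ p % 10 = 7 := by omega
        rcases h7 with h7 | h7 <;> rw [h7]
  · left
    exact key (fix2 F p) (fun t ht => golden_mem_fix2 ht) hk2

/-- The cases `A₄` and `S₄`. -/
theorem a4s4_case [Fintype F] (p : ℕ) [Fact p.Prime] [CharP F p] (hodd : Odd (Fintype.card F))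
    (h5 : 5 ≤ Fintype.card F) {M₀ : Subgroup (PSL F)} (hM₀ : IsCoatom M₀)
    (e : Nonempty (M₀ ≃* alternatingGroup (Fin 4)) ∨ Nonempty (M₀ ≃* Equiv.Perm (Fin 4))) :
    (∃ (k : Subfield F) (r : ℕ), r.Prime ∧ Odd r ∧ Nat.card F = Nat.card k ^ r ∧
      Nonempty (M₀ ≃* PSL k)) ∨
    (∃ k : Subfield F, Nat.card F = Nat.card k ^ 2 ∧ Nonempty (M₀ ≃* PGL k)) ∨
    (Fintype.card F = p ∧ (p % 8 = 3 ∨ p % 8 = 5) ∧ ¬ (p % 10 = 1 ∨ p % 10 = 9) ∧
        Nonempty (M₀ ≃* alternatingGroup (Fin 4))) ∨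
    (Fintype.card F = p ∧ (p % 8 = 1 ∨ p % 8 = 7) ∧ Nonempty (M₀ ≃* Equiv.Perm (Fin 4))) := by
  set M : Subgroup (PGL F) := M₀.map ta with hMdef
  have hM : M ⋖ LL F := map_ta_covBy hM₀
  have e0 : M₀ ≃* M := mapTaEquiv M₀
  have hLL := two_card_LL hodd
  obtain ⟨V, hV, hMV⟩ : ∃ V : Subgroup (PSL F), IsKleinFour V ∧
      M ≤ nrm (V.map (ta : PSL F →* PGL F)) := by
    rcases e with ⟨⟨e⟩⟩ | ⟨⟨e⟩⟩
    · obtain ⟨V, hV, -, h⟩ := exists_klein_A4 (e0.symm.trans e)
      exact ⟨V, hV, h⟩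
    · obtain ⟨V, hV, -, h⟩ := exists_klein_S4 (e0.symm.trans e)
      exact ⟨V, hV, h⟩
  by_cases hk : (⊥ : Subfield F) = ⊤
  · have hq := card_eq_of_bot_eq_top p hk
    have hMV' : M₀ = nrm V := by
      have h1 : M₀ ≤ nrm V := by
        have h2 : M₀.map (ta : PSL F →* PGL F) ≤ (nrm V).map ta := by
          rw [map_nrm]
          exact le_inf hMV hM.le
        exact (Subgroup.map_le_map_iff_of_injective ta_injective).mp h2
      by_contra hne
      have h2 := hM₀.2 _ (lt_of_le_of_ne h1 hne)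
      have h3 : Nat.card (nrm V) = Nat.card (PSL F) := by
        rw [h2]
        exact Nat.card_congr Subgroup.topEquiv.toEquiv
      have h4 := sixty_le hodd h5
      have h6 : Nat.card (nrm V) ≤ 24 := by
        rw [card_nrm_eq, ← card_nrm_klein hodd hV]
        exact Nat.card_le_card_of_injective _ (Subgroup.inclusion_injective inf_le_left)
      omega
    have hmod : Fintype.card F % 8 = 1 ∨ Fintype.card F % 8 = 3 ∨ Fintype.card F % 8 = 5 ∨
        Fintype.card F % 8 = 7 := by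
      rw [Nat.odd_iff] at hodd
      omega
    by_cases hs : IsSquare (2 : F)
    · right; right; right
      have hs' := FiniteField.isSquare_two_iff.mp hs
      refine ⟨hq, by rw [← hq]; omega, ?_⟩
      rcases e with ⟨⟨e⟩⟩ | e
      · exfalso
        have h1 : Nat.card M₀ = 24 := by
          rw [hMV', card_nrm_eq, inf_eq_left.mpr (nrm_le_of_square hodd hs hV),
            card_nrm_klein hodd hV]
        rw [Nat.card_congr e.toEquiv, card_A4] at h1
        omega
      · exact e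
    · right; right; left
      have hs' : Fintype.card F % 8 = 3 ∨ Fintype.card F % 8 = 5 := by
        by_contra hcon
        apply hs
        rw [FiniteField.isSquare_two_iff]
        omega
      have h1 : Nat.card M₀ = 12 := by
        rw [hMV', card_nrm_eq, card_nrm_inf_of_not_square hodd hs hV]
      refine ⟨hq, by rw [← hq]; exact hs', ?_, ?_⟩
      · rw [← hq]
        intro h10
        have h7 : 7 ≤ Fintype.card F := by omega
        have hdvd : 5 ∣ Fintype.card F * (Fintype.card F ^ 2 - 1) := by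
          apply Dvd.dvd.mul_left
          apply (Nat.modEq_iff_dvd' (Nat.one_le_pow _ _ (by omega))).mp
          show 1 % 5 = Fintype.card F ^ 2 % 5
          rw [Nat.pow_mod]
          have h11 : Fintype.card F % 5 = 1 ∨ Fintype.card F % 5 = 4 := by omega
          rcases h11 with h11 | h11 <;> rw [h11]
        obtain ⟨X, hX, hXc, ⟨eX⟩⟩ := exists_X60 hodd h7 hdvd
        obtain ⟨W, hW, hWX⟩ := alt5_klein hodd hs eX
        obtain ⟨a, ha⟩ := exists_cj_eq_of_not_square hodd hs hV hW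
        have h12 : cj a M₀ ≤ X := by
          rw [hMV', cj_nrm, ha]
          exact hWX
        have h13 := eq_of_cj_le hM₀ hX h12
        have h14 := card_cj a M₀
        rw [h13, hXc, h1] at h14
        omega
      · rcases e with e | ⟨⟨e⟩⟩
        · exact e
        · exfalso
          rw [Nat.card_congr e.toEquiv, card_S4] at h1
          omega
  · obtain ⟨b, hb⟩ := exists_cj_nrm_le hodd hV ⊥
    have hcov : cj b M ⋖ LL F := cj_covBy_normal hM
    have hle : cj b M ≤ PG ⊥ ⊓ LL F := le_inf ((cj_mono b hMV).trans hb) hcov.le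
    have hlt := card_PG_lt_LL hodd (card_lt_of_ne_top hk)
    have hne : PG (⊥ : Subfield F) ⊓ LL F ≠ LL F := by
      intro h
      have h1 : LL F ≤ PG ⊥ := by
        rw [← h]
        exact inf_le_left
      have h2 : Nat.card (LL F) ≤ Nat.card (PG (⊥ : Subfield F)) :=
        Nat.card_le_card_of_injective _ (Subgroup.inclusion_injective h1)
      omega
    have hbk : cj b M = PG ⊥ ⊓ LL F := by
      by_contra hne'
      exact hcov.2 (lt_of_le_of_ne hle hne') (lt_of_le_of_ne inf_le_right hne)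
    rcases between (k := (⊥ : Subfield F)) (le_inf (PS_le_PG _) (PS_le_LL _)) inf_le_left with
      h | h
    · left
      rw [h] at hbk
      obtain ⟨k, r, h1, h2, h3, ⟨e1⟩⟩ := ps_case hodd hM hbk
      exact ⟨k, r, h1, h2, h3, ⟨e0.trans e1⟩⟩
    · right; left
      rw [h] at hbk
      obtain ⟨k, h1, ⟨e1⟩⟩ := pg2_case hodd hM hbk
      exact ⟨k, h1, ⟨e0.trans e1⟩⟩

theorem odd_psl_case [Fintype F] (p : ℕ) [Fact p.Prime] [CharP F p]
    (hodd : Odd (Fintype.card F)) (h5 : 5 ≤ Fintype.card F)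
    (M₀ : Subgroup (PSL F)) (hM₀ : IsCoatom M₀) :
    2 * Nat.card M₀ = Fintype.card F * (Fintype.card F - 1) ∨
    (13 ≤ Fintype.card F ∧ (∃ k : ℕ, 2 * k = Fintype.card F - 1 ∧
      Nonempty (M₀ ≃* DihedralGroup k))) ∨
    (Fintype.card F ≠ 7 ∧ Fintype.card F ≠ 9 ∧ (∃ k : ℕ, 2 * k = Fintype.card F + 1 ∧
      Nonempty (M₀ ≃* DihedralGroup k))) ∨
    (∃ k : Subfield F, Nat.card F = Nat.card k ^ 2 ∧ Nonempty (M₀ ≃* PGL k)) ∨
    (∃ (k : Subfield F) (r : ℕ), r.Prime ∧ Odd r ∧ Nat.card F = Nat.card k ^ r ∧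
      Nonempty (M₀ ≃* PSL k)) ∨
    ((Fintype.card F % 10 = 1 ∨ Fintype.card F % 10 = 9) ∧
      (Fintype.card F = p ∨ (Fintype.card F = p ^ 2 ∧ (p % 10 = 3 ∨ p % 10 = 7))) ∧
      Nonempty (M₀ ≃* alternatingGroup (Fin 5))) ∨
    (Fintype.card F = p ∧ (p % 8 = 3 ∨ p % 8 = 5) ∧ ¬ (p % 10 = 1 ∨ p % 10 = 9) ∧
        Nonempty (M₀ ≃* alternatingGroup (Fin 4))) ∨
    (Fintype.card F = p ∧ (p % 8 = 1 ∨ p % 8 = 7) ∧ Nonempty (M₀ ≃* Equiv.Perm (Fin 4))) := by
  set M : Subgroup (PGL F) := M₀.map ta with hMdef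
  have hM : M ⋖ LL F := map_ta_covBy hM₀
  have e0 : M₀ ≃* M := mapTaEquiv M₀
  have hcardM : Nat.card M = Nat.card M₀ := card_map_ta M₀
  have hLL := two_card_LL hodd
  obtain ⟨s, hs⟩ := Nat.exists_eq_add_of_le h5
  have hs3 : (5 + s) ^ 3 = 125 + 75 * s + 15 * s ^ 2 + s ^ 3 := by ring
  have ha5 : ∀ e : M ≃* alternatingGroup (Fin 5),
    (∃ (k : Subfield F) (r : ℕ), r.Prime ∧ Odd r ∧ Nat.card F = Nat.card k ^ r ∧
      Nonempty (M₀ ≃* PSL k)) ∨
    ((Fintype.card F % 10 = 1 ∨ Fintype.card F % 10 = 9) ∧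
      (Fintype.card F = p ∨ (Fintype.card F = p ^ 2 ∧ (p % 10 = 3 ∨ p % 10 = 7))) ∧
      Nonempty (M₀ ≃* alternatingGroup (Fin 5))) := by
    intro e
    rcases a5_case p hodd h5 hM e with ⟨k, r, h1, h2, h3, ⟨e1⟩⟩ | ⟨h1, h2⟩
    · exact Or.inl ⟨k, r, h1, h2, h3, ⟨e0.trans e1⟩⟩
    · exact Or.inr ⟨h1, h2, ⟨e0.trans e⟩⟩
  rcases structure_pgl p M with ⟨b, hb⟩ | ⟨c, hc, hc1, hc2⟩ | ⟨-, h1⟩ | ⟨-, ⟨e⟩⟩ | ⟨k, b, hb⟩
  · left
    have hcov : cj b M ⋖ LL F := cj_covBy_normal hM
    have hle : cj b M ≤ BP F ⊓ LL F := le_inf hb hcov.le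
    have hBc := card_inf_of_not_le (index_LL_odd hodd) (not_BP_le_LL hodd)
    rw [card_BP] at hBc
    have hne : BP F ⊓ LL F ≠ LL F := by
      intro h
      rw [h] at hBc
      rw [hBc] at hLL
      have h6 : Fintype.card F - 1 = s + 4 := by omega
      rw [h6, hs, hs3] at hLL
      nlinarith [Nat.zero_le (s ^ 3), Nat.zero_le (s ^ 2)]
    have hMN : cj b M = BP F ⊓ LL F := by
      by_contra hne'
      exact hcov.2 (lt_of_le_of_ne hle hne') (lt_of_le_of_ne inf_le_right hne)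
    rw [← hBc, ← hMN, card_cj, hcardM]
  · obtain ⟨N, hN, n, hn, -, hN2⟩ := torus_case p hc1 hc2
    obtain ⟨k, hk⟩ : ∃ k, 2 * k = n := by
      obtain ⟨j, hj⟩ := hodd
      rcases hn with rfl | rfl
      · exact ⟨j, by omega⟩
      · exact ⟨j + 1, by omega⟩
    obtain ⟨e1⟩ := hN2 hodd (by omega) k hk
    have hcN : Nat.card (N ⊓ LL F : Subgroup (PGL F)) = 2 * k := by
      rw [Nat.card_congr e1.toEquiv, DihedralGroup.nat_card]
    have hne : N ⊓ LL F ≠ LL F := by
      intro h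
      rw [h] at hcN
      rw [hcN, hk] at hLL
      have h6 : Fintype.card F - 1 = s + 4 := by omega
      rcases hn with rfl | rfl
      · rw [h6, hs, hs3] at hLL
        nlinarith [Nat.zero_le (s ^ 3), Nat.zero_le (s ^ 2)]
      · rw [hs, hs3] at hLL
        nlinarith [Nat.zero_le (s ^ 3), Nat.zero_le (s ^ 2)]
    have hMN : M = N ⊓ LL F := by
      by_contra hne'
      exact hM.2 (lt_of_le_of_ne (le_inf hN hM.le) hne') (lt_of_le_of_ne inf_le_right hne)
    have hMc : Nat.card M₀ = n := by rw [← hcardM, hMN, hcN, hk]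
    have e2 : M₀ ≃* DihedralGroup k := e0.trans ((MulEquiv.subgroupCongr hMN).trans e1)
    have hodd' := Nat.odd_iff.mp hodd
    rcases hn with rfl | rfl
    · right; left
      refine ⟨?_, k, hk, ⟨e2⟩⟩
      by_contra h13
      have h6 : Fintype.card F = 5 ∨ Fintype.card F = 7 ∨ Fintype.card F = 9 ∨
        Fintype.card F = 11 := by omega
      apply small_excl hodd hM₀
      rw [hMc]
      rcases h6 with h6 | h6 | h6 | h6 <;> rw [h6] <;> norm_num
    · right; right; left
      refine ⟨?_, ?_, k, hk, ⟨e2⟩⟩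
      · intro h6
        apply small_excl hodd hM₀
        rw [hMc, h6]
        norm_num
      · intro h6
        apply small_excl hodd hM₀
        rw [hMc, h6]
        norm_num
  · rcases h1 with ⟨⟨e⟩⟩ | ⟨⟨e⟩⟩ | ⟨⟨e⟩⟩
    · rcases a4s4_case p hodd h5 hM₀ (Or.inl ⟨e0.trans e⟩) with h | h | h | h
      · exact Or.inr (Or.inr (Or.inr (Or.inr (Or.inl h))))
      · exact Or.inr (Or.inr (Or.inr (Or.inl h)))
      · exact Or.inr (Or.inr (Or.inr (Or.inr (Or.inr (Or.inr (Or.inl h))))))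
      · exact Or.inr (Or.inr (Or.inr (Or.inr (Or.inr (Or.inr (Or.inr h))))))
    · rcases a4s4_case p hodd h5 hM₀ (Or.inr ⟨e0.trans e⟩) with h | h | h | h
      · exact Or.inr (Or.inr (Or.inr (Or.inr (Or.inl h))))
      · exact Or.inr (Or.inr (Or.inr (Or.inl h)))
      · exact Or.inr (Or.inr (Or.inr (Or.inr (Or.inr (Or.inr (Or.inl h))))))
      · exact Or.inr (Or.inr (Or.inr (Or.inr (Or.inr (Or.inr (Or.inr h))))))
    · rcases ha5 e with h | h
      · exact Or.inr (Or.inr (Or.inr (Or.inr (Or.inl h))))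
      · exact Or.inr (Or.inr (Or.inr (Or.inr (Or.inr (Or.inl h)))))
  · rcases ha5 e with h | h
    · exact Or.inr (Or.inr (Or.inr (Or.inr (Or.inl h))))
    · exact Or.inr (Or.inr (Or.inr (Or.inr (Or.inr (Or.inl h)))))
  · rcases hb with hb | hb
    · right; right; right; right; left
      obtain ⟨k, r, h1, h2, h3, ⟨e1⟩⟩ := ps_case hodd hM hb
      exact ⟨k, r, h1, h2, h3, ⟨e0.trans e1⟩⟩
    · right; right; right; left
      obtain ⟨k, h1, ⟨e1⟩⟩ := pg2_case hodd hM hb
      exact ⟨k, h1, ⟨e0.trans e1⟩⟩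

end

end Cfsg.Agent.H937
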