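import Mathlib
import Cfsg.Agent.H937.Common

/-!
# Maximal subgroups of `PSL₂(q)`, `q` even
-/

set_option autoImplicit false
set_option linter.style.haveILetI false

namespace Cfsg.Agent.H937

open Matrix OnePoint MulAction
open Cfsg.Agent.ClassicalGeometry.PSL2Basic

section

variable {F : Type*} [Field F]

/-- `PGL₂(2)` has a normal subgroup of order `3`. -/
theorem exists_c_of_card_two [Finite F] {k : Subfield F} (hk : Nat.card k = 2) :
    ∃ c ∈ PG k, c ^ 2 ≠ 1 ∧ ∀ h ∈ PG k, h * c * h⁻¹ ∈ Subgroup.zpowers c := by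
  have h6 : Nat.card (PG k) = 6 := by
    have := card_cube k
    rw [hk] at this
    omega
  haveI : Fact (Nat.Prime 3) := ⟨Nat.prime_three⟩
  obtain ⟨c, hc⟩ := exists_prime_orderOf_dvd_card' (G := PG k) 3 (by rw [h6]; norm_num)
  refine ⟨c, c.2, ?_, ?_⟩
  · intro h
    have h1 : c ^ 2 = 1 := Subtype.ext h
    have h2 := orderOf_dvd_of_pow_eq_one h1
    rw [hc] at h2
    norm_num at h2
  · intro h hh
    have hidx : (Subgroup.zpowers c).index = 2 := by
      have h1 := (Subgroup.zpowers c).card_mul_index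
      rw [Nat.card_zpowers, hc, h6] at h1
      omega
    have hn : (Subgroup.zpowers c).Normal := Subgroup.normal_of_index_eq_two hidx
    have h2 := hn.conj_mem c (Subgroup.mem_zpowers c) ⟨h, hh⟩
    obtain ⟨i, hi⟩ := h2
    refine ⟨i, ?_⟩
    have := congrArg Subtype.val hi
    simpa using this

theorem even_case [Fintype F] (heven : Even (Fintype.card F)) (h4 : 4 ≤ Fintype.card F)
    (M : Subgroup (PGL F)) (hM : M ⋖ ⊤) :
    Nat.card M = Fintype.card F * (Fintype.card F - 1) ∨
    Nonempty (M ≃* DihedralGroup (Fintype.card F - 1)) ∨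
    Nonempty (M ≃* DihedralGroup (Fintype.card F + 1)) ∨
    (∃ (k : Subfield F) (r : ℕ), r.Prime ∧ Nat.card k ≠ 2 ∧
        Nat.card F = Nat.card k ^ r ∧ Nonempty (M ≃* PSL k)) := by
  have h2 : (2 : F) = 0 := by
    by_contra h
    exact (Nat.not_even_iff_odd.2 ((two_ne_zero_iff_odd F).1 h)) heven
  haveI : CharP F 2 := CharTwo.of_one_ne_zero_of_two_eq_zero one_ne_zero h2
  haveI : Fact (Nat.Prime 2) := ⟨Nat.prime_two⟩
  have hcube := card_PGL_cube (F := F)
  have hdih : ∀ c : PGL F, c ^ 2 ≠ 1 → (∀ h ∈ M, h * c * h⁻¹ ∈ Subgroup.zpowers c) →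
      Nonempty (M ≃* DihedralGroup (Fintype.card F - 1)) ∨
      Nonempty (M ≃* DihedralGroup (Fintype.card F + 1)) := by
    intro c hc1 hc2
    obtain ⟨N, hN, n, hn, hN2, -⟩ := torus_case 2 hc1 hc2
    have hNt : N ≠ ⊤ := by
      intro h
      have h1 : Nat.card N = Nat.card (PGL F) := by
        rw [h]
        exact Nat.card_congr Subgroup.topEquiv.toEquiv
      obtain ⟨e⟩ := hN2
      rw [Nat.card_congr e.toEquiv, DihedralGroup.nat_card] at h1
      rw [← h1] at hcube
      obtain ⟨s, hs⟩ := Nat.exists_eq_add_of_le h4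
      have h5 : Fintype.card F - 1 = s + 3 := by omega
      have h6 : (4 + s) ^ 3 = 64 + 48 * s + 12 * s ^ 2 + s ^ 3 := by ring
      rcases hn with rfl | rfl
      · rw [h5, hs, h6] at hcube
        nlinarith [Nat.zero_le (s ^ 3), Nat.zero_le (s ^ 2)]
      · rw [hs, h6] at hcube
        nlinarith [Nat.zero_le (s ^ 3), Nat.zero_le (s ^ 2)]
    have hMN : M = N := by
      by_contra hne
      exact hM.2 (lt_of_le_of_ne hN hne) (lt_top_iff_ne_top.mpr hNt)
    rw [hMN]
    rcases hn with rfl | rfl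
    · exact Or.inl hN2
    · exact Or.inr hN2
  rcases structure_pgl 2 M with ⟨b, hb⟩ | ⟨c, hc, hc1, hc2⟩ | ⟨h1, h3⟩ | ⟨h1, -⟩ | ⟨k, b, hb⟩
  · left
    have hcov : cj b M ⋖ ⊤ := cj_covBy_normal hM
    have hBt : BP F ≠ ⊤ := by
      intro h
      have h1 : Nat.card (BP F) = Nat.card (PGL F) := by
        rw [h]
        exact Nat.card_congr Subgroup.topEquiv.toEquiv
      rw [card_BP] at h1
      rw [← h1] at hcube
      obtain ⟨s, hs⟩ := Nat.exists_eq_add_of_le h4
      have h5 : Fintype.card F - 1 = s + 3 := by omega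
      have h6 : (4 + s) ^ 3 = 64 + 48 * s + 12 * s ^ 2 + s ^ 3 := by ring
      rw [h5, hs, h6] at hcube
      nlinarith [Nat.zero_le (s ^ 3), Nat.zero_le (s ^ 2)]
    have hMN : cj b M = BP F := by
      by_contra hne
      exact hcov.2 (lt_of_le_of_ne hb hne) (lt_top_iff_ne_top.mpr hBt)
    rw [← card_cj b M, hMN, card_BP]
  · rcases hdih c hc1 hc2 with h | h
    · exact Or.inr (Or.inl h)
    · exact Or.inr (Or.inr (Or.inl h))
  · exfalso
    apply h1
    rcases h3 with ⟨⟨e⟩⟩ | ⟨⟨e⟩⟩ | ⟨⟨e⟩⟩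
    · rw [Nat.card_congr e.toEquiv, card_A4]
      norm_num
    · rw [Nat.card_congr e.toEquiv, card_S4]
      norm_num
    · rw [Nat.card_congr e.toEquiv, card_A5]
      norm_num
  · omega
  · have hk : Even (Nat.card k) := by
      by_contra h
      rw [Nat.not_even_iff_odd] at h
      have h5 := card_subfield_pow k
      rw [Nat.card_eq_fintype_card (α := F)] at h5
      rw [← h5] at heven
      exact (Nat.not_even_iff_odd.mpr h.pow) heven
    have hb' : cj b M = PG k := by
      rcases hb with h | h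
      · rw [h, PS_eq_PG_even hk]
      · exact h
    have hcov : PG k ⋖ ⊤ := by
      rw [← hb']
      exact cj_covBy_normal hM
    by_cases hk2 : Nat.card k = 2
    · obtain ⟨c, hc, hc1, hc2⟩ := exists_c_of_card_two hk2
      have h7 : ∀ h ∈ M, h * (b⁻¹ * c * b) * h⁻¹ ∈ Subgroup.zpowers (b⁻¹ * c * b) := by
        intro h hh
        have h8 : b * h * b⁻¹ ∈ PG k := by
          rw [← hb', mem_cj]
          have : b⁻¹ * (b * h * b⁻¹) * b = h := by group
          rwa [this]
        obtain ⟨i, hi⟩ := hc2 _ h8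
        refine ⟨i, ?_⟩
        show (b⁻¹ * c * b) ^ i = _
        have h9 : (b⁻¹ * c * b) ^ i = b⁻¹ * c ^ i * b := by
          have := conj_zpow (a := b⁻¹) (b := c) (i := i)
          rwa [inv_inv] at this
        rw [h9]
        have hi' : c ^ i = b * h * b⁻¹ * c * (b * h * b⁻¹)⁻¹ := hi
        rw [hi']
        group
      have h8 : (b⁻¹ * c * b) ^ 2 ≠ 1 := by
        intro h
        apply hc1
        have h9 : (b⁻¹ * c * b) ^ 2 = b⁻¹ * c ^ 2 * b := by
          have := conj_pow (a := b⁻¹) (b := c) (i := 2)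
          rwa [inv_inv] at this
        rw [h9] at h
        have h10 : c ^ 2 = b * (b⁻¹ * c ^ 2 * b) * b⁻¹ := by group
        rw [h10, h]
        group
      rcases hdih _ h8 h7 with h | h
      · exact Or.inr (Or.inl h)
      · exact Or.inr (Or.inr (Or.inl h))
    · right; right; right
      obtain ⟨r, hr, hr'⟩ := prime_of_PG_covBy hcov
      refine ⟨k, r, hr, hk2, hr'.symm, ?_⟩
      obtain ⟨e⟩ := nonempty_PS k
      rw [← PS_eq_PG_even hk] at hb'
      exact ⟨(cjEquiv b M).trans ((MulEquiv.subgroupCongr hb').trans e)⟩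

end

end Cfsg.Agent.H937
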