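import Cfsg.Agent.H937.HCGen
import Cfsg.Agent.KFacts.MM.OutAut
import Cfsg.Agent.KFacts.MM.Sub
import Cfsg.Agent.H964.NoHall.Gen

/-!
# `Aut(M22)` has no Hall covering (helper937, for S4388)
-/

set_option autoImplicit false

namespace Cfsg.Agent.H937.HCM22

open Cfsg Cfsg.Agent.SporadicA.GolayBase Cfsg.Agent.SporadicA.GolayPerm
open Cfsg.Agent.KFacts.MM.El Cfsg.Agent.KFacts.MM.Sub
open Cfsg.Agent.J4Type.Aut22 (D22 mem_D22_iff M22_le_D22 card_D22)
open Cfsg.Agent.H581 Cfsg.Agent.H937.HCGen

/-- the involution and the element of order 7 -/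
def A7 : ℕ := 26070786408970238771869303816967383
def B7 : ℕ := 969882090181696397478823866598181376
/-- the involution and the element of order 5 -/
def A5 : ℕ := 10469587675279712673148643472725623
def B5 : ℕ := 981850654835269645372321212595082272
/-- the involution and the element of order 3 -/
def A3 : ℕ := 970050117505640693923058692703490368
def B3 : ℕ := 962046806486857785381032192834261024

theorem mem_swap {P : ℕ} (h1 : isPerm P = true) (h2 : isAut P = true) (h3 : papp P 23 = 0) (h4 : papp P 0 = 23) :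
    pm P ∈ D22 := by
  have hn : pm P none = some 0 := by
    have h5 := val_pm h1 (i := 23) (by norm_num)
    rw [h3] at h5
    have h6 := pt_val (pm P) 23
    rw [h5] at h6
    exact h6.symm
  have h0 : pm P (some 0) = none := by
    have h5 := val_pm h1 (i := 0) (by norm_num)
    rw [h4] at h5
    have h6 := pt_val (pm P) 0
    rw [h5] at h6
    exact h6.symm
  exact (mem_D22_iff _).2 ⟨pm_mem_M24 h1 h2, Or.inr ⟨hn, h0⟩⟩

theorem mem_fix {P : ℕ} (h1 : isPerm P = true) (h2 : isAut P = true) (h3 : papp P 23 = 23) (h4 : papp P 0 = 0) :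
    pm P ∈ D22 := by
  have hn : pm P none = none := by
    have h5 := val_pm h1 (i := 23) (by norm_num)
    rw [h3] at h5
    have h6 := pt_val (pm P) 23
    rw [h5] at h6
    exact h6.symm
  have h0 : pm P (some 0) = some 0 := by
    have h5 := val_pm h1 (i := 0) (by norm_num)
    rw [h4] at h5
    have h6 := pt_val (pm P) 0
    rw [h5] at h6
    exact h6.symm
  exact (mem_D22_iff _).2 ⟨pm_mem_M24 h1 h2, Or.inl ⟨hn, h0⟩⟩

theorem order_of {P : ℕ} (h1 : isPerm P = true) {p : ℕ} (hp : p.Prime) (l : List ℕ) (hl : okl l = true)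
    (hpr : pr l = pm P ^ p) (h2 : weq l [] = true) (h3 : weq [P] [] = false) : orderOf (pm P) = p := by
  have : Fact p.Prime := ⟨hp⟩
  refine orderOf_eq_prime ?_ ?_
  · rw [← hpr, pr_of_weq hl rfl h2, pr_nil]
  · rw [← pr_one, ← pr_nil]
    exact pr_ne (okl1 h1) rfl h3

theorem comm_of {P Q : ℕ} (h1 : isPerm P = true) (h2 : isPerm Q = true) (h : weq [P, Q] [Q, P] = true) :
    Commute (pm P) (pm Q) := by
  have h3 := pr_of_weq (okl2 h1 h2) (okl2 h2 h1) h
  show pm P * pm Q = pm Q * pm P
  simpa [pr] using h3

theorem A7_mem : pm A7 ∈ D22 := mem_swap (by decide +kernel) (by decide +kernel) (by decide +kernel) (by decide +kernel)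
theorem A5_mem : pm A5 ∈ D22 := mem_swap (by decide +kernel) (by decide +kernel) (by decide +kernel) (by decide +kernel)
theorem A3_mem : pm A3 ∈ D22 := mem_fix (by decide +kernel) (by decide +kernel) (by decide +kernel) (by decide +kernel)
theorem B7_mem : pm B7 ∈ D22 := mem_fix (by decide +kernel) (by decide +kernel) (by decide +kernel) (by decide +kernel)
theorem B5_mem : pm B5 ∈ D22 := mem_fix (by decide +kernel) (by decide +kernel) (by decide +kernel) (by decide +kernel)
theorem B3_mem : pm B3 ∈ D22 := mem_fix (by decide +kernel) (by decide +kernel) (by decide +kernel) (by decide +kernel)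

theorem A7_ord : orderOf (pm A7) = 2 := order_of (by decide +kernel) Nat.prime_two [A7, A7] (by decide +kernel)
  (by simp [pr, pow_succ, mul_assoc]) (by decide +kernel) (by decide +kernel)
theorem A5_ord : orderOf (pm A5) = 2 := order_of (by decide +kernel) Nat.prime_two [A5, A5] (by decide +kernel)
  (by simp [pr, pow_succ, mul_assoc]) (by decide +kernel) (by decide +kernel)
theorem A3_ord : orderOf (pm A3) = 2 := order_of (by decide +kernel) Nat.prime_two [A3, A3] (by decide +kernel)
  (by simp [pr, pow_succ, mul_assoc]) (by decide +kernel) (by decide +kernel)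
theorem B7_ord : orderOf (pm B7) = 7 := order_of (by decide +kernel) (by norm_num) [B7, B7, B7, B7, B7, B7, B7]
  (by decide +kernel) (by simp [pr, pow_succ, mul_assoc]) (by decide +kernel) (by decide +kernel)
theorem B5_ord : orderOf (pm B5) = 5 := order_of (by decide +kernel) (by norm_num) [B5, B5, B5, B5, B5]
  (by decide +kernel) (by simp [pr, pow_succ, mul_assoc]) (by decide +kernel) (by decide +kernel)
theorem B3_ord : orderOf (pm B3) = 3 := order_of (by decide +kernel) (by norm_num) [B3, B3, B3]
  (by decide +kernel) (by simp [pr, pow_succ, mul_assoc]) (by decide +kernel) (by decide +kernel)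

theorem comm7 : Commute (pm A7) (pm B7) := comm_of (by decide +kernel) (by decide +kernel) (by decide +kernel)
theorem comm5 : Commute (pm A5) (pm B5) := comm_of (by decide +kernel) (by decide +kernel) (by decide +kernel)
theorem comm3 : Commute (pm A3) (pm B3) := comm_of (by decide +kernel) (by decide +kernel) (by decide +kernel)

/-- `X` is isomorphic to `M22 : 2` -/
theorem exists_theta {X : Type*} [Group X] [Finite X] {S : Subgroup X} [S.Normal]
    (hC : Subgroup.centralizer (S : Set X) = ⊥) (hS : S ≠ ⊤) (h : Spor.IsoM22 S) :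
    ∃ θ : X →* Equiv.Perm GolayPt, Function.Injective θ ∧ θ.range = D22 := by
  obtain ⟨ι, hi, hr, -⟩ := Cfsg.Agent.KFacts.MM.OutAut.exists_iota h
  have hcard : Nat.card S = 443520 := by
    obtain ⟨e⟩ := h
    rw [Nat.card_congr e.toEquiv, SporadicA.MathieuRecog.card_M22]
  refine ⟨ι.comp MulAut.conjNormal, ?_, ?_⟩
  · refine hi.comp ((injective_iff_map_eq_one _).2 fun g hg => ?_)
    have h1 : g ∈ Subgroup.centralizer (S : Set X) := by
      rw [Subgroup.mem_centralizer_iff]
      intro s hs
      have h2 : g * s * g⁻¹ = s := by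
        have h3 : (MulAut.conjNormal g : MulAut S) ⟨s, hs⟩ = ⟨s, hs⟩ := by rw [hg]; rfl
        have h4 := congrArg Subtype.val h3
        rwa [MulAut.conjNormal_apply] at h4
      calc s * g = g * s * g⁻¹ * g := by rw [h2]
        _ = g * s := by group
    rw [hC] at h1
    exact Subgroup.mem_bot.1 h1
  · have hinj : Function.Injective (ι.comp (MulAut.conjNormal : X →* MulAut S)) := by
      refine hi.comp ((injective_iff_map_eq_one _).2 fun g hg => ?_)
      have h1 : g ∈ Subgroup.centralizer (S : Set X) := by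
        rw [Subgroup.mem_centralizer_iff]
        intro s hs
        have h2 : g * s * g⁻¹ = s := by
          have h3 : (MulAut.conjNormal g : MulAut S) ⟨s, hs⟩ = ⟨s, hs⟩ := by rw [hg]; rfl
          have h4 := congrArg Subtype.val h3
          rwa [MulAut.conjNormal_apply] at h4
        calc s * g = g * s * g⁻¹ * g := by rw [h2]
          _ = g * s := by group
      rw [hC] at h1
      exact Subgroup.mem_bot.1 h1
    apply Subgroup.eq_of_le_of_card_ge
    · rw [← hr]
      rintro _ ⟨g, rfl⟩
      exact ⟨_, rfl⟩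
    · rw [card_D22, ← Nat.card_congr (MonoidHom.ofInjective hinj).toEquiv, ← S.card_mul_index, hcard]
      have h5 : S.index ≠ 1 := fun h => hS (Subgroup.index_eq_one.1 h)
      have h6 : S.index ≠ 0 := Subgroup.index_ne_zero_of_finite
      have h7 : 2 ≤ S.index := by omega
      calc 887040 = 443520 * 2 := by norm_num
        _ ≤ 443520 * S.index := Nat.mul_le_mul_left _ h7

/-- an almost simple group with socle `M22`, different from it, has no Hall covering -/
theorem not_M22 {X : Type*} [Group X] [Finite X] {σ : Set ℕ} {S : Subgroup X} [S.Normal]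
    (hC : Subgroup.centralizer (S : Set X) = ⊥)
    (hS : S ≠ ⊤) (hσ : ∀ r : ℕ, r.Prime → r ∣ S.index → r ∈ σ) (hc : HC X σ) (h : Spor.IsoM22 S) : False := by
  obtain ⟨θ, hi, hr⟩ := exists_theta hC hS h
  have hcard : Nat.card S = 443520 := by
    obtain ⟨e⟩ := h
    rw [Nat.card_congr e.toEquiv, SporadicA.MathieuRecog.card_M22]
  have hsimple : IsSimpleGroup S := by
    obtain ⟨e⟩ := h
    have := SporadicA.MathieuRecog.simple_M22
    exact (MulEquiv.isSimpleGroup_congr e).2 this
  have key : ∀ {a b : Equiv.Perm GolayPt} {p : ℕ}, p.Prime → a ∈ D22 → b ∈ D22 → orderOf a = 2 → orderOf b = p →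
      Commute a b → p ∈ σ := by
    intro a b p hp ha hb hoa hob hab
    rw [← hr] at ha hb
    obtain ⟨x, rfl⟩ := ha
    obtain ⟨y, rfl⟩ := hb
    rw [orderOf_injective θ hi] at hoa hob
    refine hc.commute hc.two (x := x) (y := y) (hi ?_) Nat.prime_two hp (by rw [hoa]) (by rw [hob])
    rw [map_mul, map_mul]
    exact hab
  have h7 : 7 ∈ σ := key (by norm_num) A7_mem B7_mem A7_ord B7_ord comm7
  have h5 : 5 ∈ σ := key (by norm_num) A5_mem B5_mem A5_ord B5_ord comm5
  have h3 : 3 ∈ σ := key (by norm_num) A3_mem B3_mem A3_ord B3_ord comm3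
  obtain ⟨L, hL⟩ := hc.exists_hall (by
    have h2 : 2 ∣ Nat.card S := by rw [hcard]; norm_num
    exact h2.trans (Subgroup.card_subgroup_dvd_card S))
  have hLS := hall_inf (S := S) hL
  have hne := hall_ne_top hσ hc hL
  have hidx : (L.subgroupOf S).index ∣ 443520 := by
    rw [← hcard]
    exact (L.subgroupOf S).index_dvd_card
  have hcop : (L.subgroupOf S).index.Coprime 40320 := by
    have h1 : (40320 : ℕ) = 2 ^ 7 * (3 ^ 2 * (5 * 7)) := by norm_num
    have hc' : ∀ r : ℕ, r.Prime → r ∈ σ → (L.subgroupOf S).index.Coprime r := fun r hr hrσ =>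
      ((Nat.Prime.coprime_iff_not_dvd hr).2 (hLS.index r hr hrσ)).symm
    rw [h1]
    exact Nat.Coprime.mul_right (Nat.Coprime.pow_right _ (hc' 2 Nat.prime_two hc.two))
      (Nat.Coprime.mul_right (Nat.Coprime.pow_right _ (hc' 3 Nat.prime_three h3))
        (Nat.Coprime.mul_right (hc' 5 Nat.prime_five h5) (hc' 7 (by norm_num) h7)))
  have h11 : (L.subgroupOf S).index ∣ 11 := by
    have h1 : (443520 : ℕ) = 40320 * 11 := by norm_num
    rw [h1] at hidx
    exact hcop.dvd_of_dvd_mul_left hidx
  rcases (Nat.dvd_prime (by norm_num)).1 h11 with h1 | h1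
  · exact hne (Subgroup.index_eq_one.1 h1)
  · have h2 := Cfsg.Agent.H964.NoHall.factorial_le_of_prime_index (q := 11) (r := 7) (by norm_num) h1 (by norm_num)
      (by norm_num) (by norm_num) (by rw [hcard]; norm_num)
    rw [hcard] at h2
    have h3 : (11 : ℕ).factorial = 39916800 := by decide +kernel
    omega

end Cfsg.Agent.H937.HCM22
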