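import Cfsg.Agent.H937.T2Stein
import Cfsg.Agent.H931.L2Prin
import Cfsg.Agent.H875.FnField

/-!
# `PSL₂(q)` in dimension `q`: the Borel-fixed vector; `A₆` in dimension nine (helper937)

* `exists_stein_cross` : `|E| ≠ 0` in `F`; `exists_stein_own` : `E` and `F` of the same characteristic;
* `psl_main` : `P` residual core of a maximal subgroup of `Ω(Q)`, `Soc P ≃ PSL₂(E)`, `dim = |E|` ⟹ `Soc P ≃ A_{q+1}`;
* `a6_nine` : `Soc P ≃ A₆`, `dim = 9` ⟹ `False`.
-/

set_option autoImplicit false
set_option linter.unusedSectionVars false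

namespace Cfsg.Agent.H937.T2

open Matrix Module Cfsg Cfsg.Geo Cfsg.Agent.H915.LD Cfsg.Agent.H464.Sl2
open Cfsg.Agent.LieClassical.OrthCore Cfsg.Agent.H931.L2T

universe u' v'

variable {ι : Type} [Fintype ι] [DecidableEq ι] {F : Type u'} [Field F] {P : Subgroup (GL ι F)}
  {E : Type v'} [Field E] {ρ : SpecialLinearGroup (Fin 2) E →* GL ι F}

/-- `v` over `F` seen over `k` -/
theorem map_vec (k : Type*) [Field k] [Algebra F k] (M : Matrix ι ι F) (v : ι → F) :
    (M.map (algebraMap F k)) *ᵥ (fun a => algebraMap F k (v a)) = fun a => algebraMap F k ((M *ᵥ v) a) := by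
  funext a
  simp [Matrix.mulVec, dotProduct]

theorem vec_inj {k : Type*} [Field k] [Algebra F k] {v w : ι → F}
    (h : (fun a => algebraMap F k (v a)) = fun a => algebraMap F k (w a)) : v = w := by
  funext a
  exact (algebraMap F k).injective (congrFun h a)

theorem mulVec_eq_iff {k : Type*} [Field k] [Algebra F k] (M : Matrix ι ι F) (v w : ι → F) :
    (M.map (algebraMap F k)) *ᵥ (fun a => algebraMap F k (v a)) = (fun a => algebraMap F k (w a)) ↔ M *ᵥ v = w := by
  rw [map_vec]
  exact ⟨vec_inj, fun h => by rw [h]⟩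

/-- From uniqueness over an extension field to `Stein`. -/
theorem stein_of_ext (k : Type*) [Field k] [Algebra F k] {v0 : ι → F} (h0 : v0 ≠ 0)
    (hu : ∀ x : E, (ρ (u x) : Matrix ι ι F) *ᵥ v0 = v0) {v1 : ι → k}
    (ht : ∀ a : Eˣ, ((ρ (t a) : Matrix ι ι F).map (algebraMap F k)) *ᵥ v1 = v1)
    (huniq : ∀ v : ι → k, (∀ x : E, ((ρ (u x) : Matrix ι ι F).map (algebraMap F k)) *ᵥ v = v) → ∃ c : k, v = c • v1) :
    Stein ρ v0 := by
  obtain ⟨i, hi⟩ := Function.ne_iff.1 h0
  obtain ⟨c0, hc0⟩ := huniq (fun a => algebraMap F k (v0 a)) fun x => (mulVec_eq_iff _ _ _).2 (hu x)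
  have hc00 : c0 ≠ 0 := by
    rintro rfl
    have h1 := congrFun hc0 i
    simp only [zero_smul, Pi.zero_apply] at h1
    exact hi ((algebraMap F k).injective (by rw [h1, Pi.zero_apply, map_zero]))
  refine ⟨h0, hu, fun a => ?_, fun v hv => ?_⟩
  · rw [← mulVec_eq_iff (k := k), hc0, Matrix.mulVec_smul, ht]
  · obtain ⟨c, hc⟩ := huniq (fun a => algebraMap F k (v a)) fun x => (mulVec_eq_iff _ _ _).2 (hv x)
    refine ⟨v i / v0 i, ?_⟩
    apply vec_inj (k := k)
    have e1 := congrFun hc i
    have e0 := congrFun hc0 i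
    simp only [Pi.smul_apply, smul_eq_mul] at e1 e0
    have hv1 : v1 i ≠ 0 := by
      intro h
      rw [h, mul_zero] at e0
      exact hi ((algebraMap F k).injective (by rw [e0, Pi.zero_apply, map_zero]))
    funext a
    have ea := congrFun hc a
    have ea0 := congrFun hc0 a
    simp only [Pi.smul_apply, smul_eq_mul] at ea ea0 ⊢
    rw [map_mul, map_div₀, ea, e1, e0, ea0]
    field_simp

section cross

variable [Fintype E]

/-- **Cross characteristic.** -/
theorem exists_stein_cross (habs : ActsAbsolutelyIrreducibly (matrixSet ρ.range)) (hρ : ρ ≠ 1)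
    (hK : (Fintype.card E : F) ≠ 0) (hn : Fintype.card ι = Fintype.card E) : ∃ v0, Stein ρ v0 := by
  classical
  let k := AlgebraicClosure F
  have hKk : (Fintype.card E : k) ≠ 0 := by
    intro h
    apply hK
    apply (algebraMap F k).injective
    rw [map_natCast, h, map_zero]
  obtain ⟨ψ, hψ⟩ := exists_prim (K := E) hKk
  have hspan := span_extI ρ k (span_eq_topI ρ habs)
  have hne := extI_ne_one ρ k hρ
  have hfin : finrank k (ι → k) = Fintype.card E := by rw [Module.finrank_fintype_fun_eq_card, hn]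
  have hq2 : 2 ≤ Fintype.card E := Fintype.one_lt_card
  have h1 := dim_cases (extI ρ k) hψ hKk hspan hne
  have hall : ∀ b : E, b ≠ 0 → finrank k (LinearMap.range (Cfsg.Agent.H464.Sl2.E (extI ρ k) ψ b)) = 1 := by
    rcases h1 with h | h
    · exact h.1
    · rw [hfin] at h; omega
  have h2 := finrank_eq (extI ρ k) hψ hKk
  rw [hfin, Finset.sum_congr rfl (fun b hb => hall b (Finset.ne_of_mem_erase hb)), Finset.sum_const,
    Finset.card_erase_of_mem (Finset.mem_univ _), Finset.card_univ, smul_eq_mul, mul_one] at h2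
  have hr0 : finrank k (LinearMap.range (Cfsg.Agent.H464.Sl2.E (extI ρ k) ψ 0)) = 1 := by omega
  have hE0 : Cfsg.Agent.H464.Sl2.E (extI ρ k) ψ 0 ≠ 0 := by
    intro h
    rw [h, LinearMap.range_zero, finrank_bot] at hr0
    omega
  obtain ⟨v, lam, hv, hEv⟩ := exists_prin hψ hKk hE0
  obtain ⟨hlam, -⟩ := hv.stein hψ hKk hEv hspan hfin hr0.le
  -- a fixed vector over `F`
  let M : Matrix ι ι F := ∑ x : E, (ρ (u x) : Matrix ι ι F)
  have hM : (M.map (algebraMap F k)) ≠ 0 := by
    intro h
    apply hE0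
    have h3 : ∑ x : E, extI ρ k (u x) = 0 := by
      have h4 : ∀ x : E, extI ρ k (u x) = Matrix.toLin' ((algebraMap F k).mapMatrix (ρ (u x) : Matrix ι ι F)) :=
        fun x => rfl
      rw [Finset.sum_congr rfl fun x _ => h4 x, ← map_sum, ← map_sum]
      have h5 : (algebraMap F k).mapMatrix M = 0 := h
      rw [h5, map_zero]
    unfold Cfsg.Agent.H464.Sl2.E
    have h6 : ∀ x : E, ψ (-(0 * x)) • extI ρ k (u x) = extI ρ k (u x) := fun x => by
      rw [zero_mul, neg_zero, AddChar.map_zero_eq_one, one_smul]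
    rw [Finset.sum_congr rfl fun x _ => h6 x, h3, smul_zero]
  have hM0 : M ≠ 0 := by
    intro h
    apply hM
    rw [h]
    ext i j
    simp
  have hMu : ∀ y : E, (ρ (u y) : Matrix ι ι F) * M = M := by
    intro y
    change (ρ (u y) : Matrix ι ι F) * ∑ x : E, (ρ (u x) : Matrix ι ι F) = ∑ x : E, (ρ (u x) : Matrix ι ι F)
    rw [Finset.mul_sum, ← Equiv.sum_comp (Equiv.addLeft y) (fun x : E => (ρ (u x) : Matrix ι ι F))]
    refine Finset.sum_congr rfl fun x _ => ?_
    rw [Equiv.coe_addLeft, u_add, map_mul, Units.val_mul]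
  obtain ⟨w0, hw0⟩ : ∃ w0 : ι → F, M *ᵥ w0 ≠ 0 := by
    by_contra hcon
    push Not at hcon
    apply hM0
    ext i j
    have := congrFun (hcon (Pi.single j 1)) i
    rw [Matrix.mulVec_single] at this
    simpa using this
  refine ⟨M *ᵥ w0, stein_of_ext k hw0 (fun x => by rw [Matrix.mulVec_mulVec, hMu]) (v1 := v) ?_ ?_⟩
  · intro a
    have h3 := hv.eig a
    rw [hlam, one_smul] at h3
    exact h3
  · intro x hx
    have h3 : Cfsg.Agent.H464.Sl2.E (extI ρ k) ψ 0 x = x := by
      unfold Cfsg.Agent.H464.Sl2.E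
      have h6 : ∀ y : E, (ψ (-(0 * y)) • extI ρ k (u y)) x = x := fun y => by
        rw [zero_mul, neg_zero, AddChar.map_zero_eq_one, one_smul]
        exact hx y
      rw [LinearMap.smul_apply, LinearMap.sum_apply, Finset.sum_congr rfl fun y _ => h6 y, Finset.sum_const,
        Finset.card_univ, ← Nat.cast_smul_eq_nsmul k, smul_smul, inv_mul_cancel₀ hKk, one_smul]
    have h4 := finrank_le_one_iff.1 hr0.le
    obtain ⟨e, he⟩ := h4
    obtain ⟨α, hα⟩ := he ⟨v, ⟨v, hEv⟩⟩
    obtain ⟨β, hβ⟩ := he ⟨x, ⟨x, h3⟩⟩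
    have hα' : α • (e : ι → k) = v := congrArg Subtype.val hα
    have hβ' : β • (e : ι → k) = x := congrArg Subtype.val hβ
    have hα0 : α ≠ 0 := by
      rintro rfl
      rw [zero_smul] at hα'
      exact hv.ne hα'.symm
    exact ⟨β * α⁻¹, by rw [← hβ', ← hα', smul_smul, mul_assoc, inv_mul_cancel₀ hα0, mul_one]⟩

end cross

section own

variable [Fintype E]

theorem exists_emb (p : ℕ) [hp : Fact p.Prime] [CharP F p] [CharP E p] : Nonempty (E →+* AlgebraicClosure F) := by
  have hk : CharP (AlgebraicClosure F) p := charP_of_injective_algebraMap (algebraMap F (AlgebraicClosure F)).injective p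
  let _ : Algebra (ZMod p) E := ZMod.algebra E p
  let _ : Algebra (ZMod p) (AlgebraicClosure F) := ZMod.algebra _ p
  exact ⟨(IsAlgClosed.lift : E →ₐ[ZMod p] AlgebraicClosure F).toRingHom⟩

/-- **Own characteristic.** -/
theorem exists_stein_own (p : ℕ) [hp : Fact p.Prime] [CharP F p] [CharP E p]
    (habs : ActsAbsolutelyIrreducibly (matrixSet ρ.range)) (hn : Fintype.card ι = Fintype.card E) :
    ∃ v0, Stein ρ v0 := by
  classical
  let k := AlgebraicClosure F
  have hk : CharP k p := charP_of_injective_algebraMap (algebraMap F k).injective p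
  obtain ⟨j⟩ := exists_emb (F := F) (E := E) p
  have hq2 : 2 ≤ Fintype.card E := Fintype.one_lt_card
  obtain ⟨r, Φ, h⟩ := H875.Fn.exists_isModel_lin (algebraMap F k) j ρ p habs (by omega)
  have hfin := h.finrank p
  rw [Module.finrank_fintype_fun_eq_card, hn] at hfin
  have hle := h.le
  have hr : r = Fintype.card E - 1 := by
    have h1 : (H875.Fn.SS p r).card ≤ r + 1 := by
      unfold H875.Fn.SS
      exact (Finset.card_filter_le _ _).trans (Finset.card_range _).le
    omega
  obtain ⟨v, hv0, -, hU, hw, huniq⟩ := h.exists_hw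
  -- a fixed vector over `F`
  have hnt : Nontrivial (ι → F) := by
    have : Nonempty ι := Fintype.card_pos_iff.1 (by omega)
    infer_instance
  obtain ⟨v0, h0, hfix⟩ := H875.Fn.exists_common_fix (k := F) (V := ι → F) p
    (fun x : E => Matrix.toLin' (ρ (u x) : Matrix ι ι F)) (fun x y => by
      rw [Module.End.mul_eq_comp, Module.End.mul_eq_comp, ← Matrix.toLin'_mul, ← Matrix.toLin'_mul, ← Units.val_mul,
        ← Units.val_mul, ← map_mul, ← map_mul, ← u_add, ← u_add, add_comm]) (fun x => by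
      rw [← Matrix.toLin'_pow, ← Units.val_pow_eq_pow_val, ← map_pow]
      have h1 : ∀ n : ℕ, (u x : SpecialLinearGroup (Fin 2) E) ^ n = u (n * x) := by
        intro n
        induction n with
        | zero => rw [pow_zero, Nat.cast_zero, zero_mul, u_zero]
        | succ n ih => rw [pow_succ, ih, ← u_add, Nat.cast_succ, add_mul, one_mul]
      rw [h1, CharP.cast_eq_zero, zero_mul, u_zero, map_one, Units.val_one, Matrix.toLin'_one]
      rfl) Finset.univ
  have hUu : ∀ x : E, H911.SLTwo.U x = u x := fun x => Subtype.ext rfl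
  have hht : ∀ a : Eˣ, H911.SLTwo.hh a = t a := fun x => Subtype.ext rfl
  refine ⟨v0, stein_of_ext k h0 (fun x => by
    have := hfix x (Finset.mem_univ _)
    rwa [Matrix.toLin'_apply] at this) (v1 := v) ?_ ?_⟩
  · intro a
    have h3 := hw a
    rw [hht, hr, ← map_pow] at h3
    have h4 : (a : E) ^ (Fintype.card E - 1) = 1 := FiniteField.pow_card_sub_one_eq_one _ a.ne_zero
    rw [h4, map_one, one_smul] at h3
    exact h3
  · intro x hx
    exact huniq x fun y => by
      rw [hUu]
      exact hx y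

end own

/-- **`PSL₂(q)` in dimension `q`, orthogonal: inside `A_{q+1}`.** -/
theorem psl_main [Finite F] [Fintype E] (p : ℕ) [hp : Fact p.Prime] [CharP F p] (h2 : (2 : F) ≠ 0)
    {Q : QuadraticForm F (ι → F)} (hQ : Nondeg Q)
    (h5 : 5 ≤ Fintype.card ι) {H : Subgroup (GL ι F)} (hH : IsMaximalIn (omegaGL (Q : (ι → F) → F)) H)
    (hPc : IsResidualCore H P) {r : ℕ} (hr : r.Prime) [CharP E r]
    (hcop : (Nat.card ((scalars ι F).subgroupOf P)).Coprime r)
    (e : Soc P ≃* ProjectiveSpecialLinearGroup (Fin 2) E) (hq : Fintype.card ι = Fintype.card E) {m : ℕ}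
    (hm : Fintype.card ι + 1 = m) :
    Nonempty (Soc P ≃* alternatingGroup (Fin m)) ∧ (m : F) ≠ 0 ∧ ((3 : F) ≠ 0 → (m : F) + 1 ≠ 0) := by
  have hC : Core P := core_of_residual hPc
  obtain ⟨ρ, hρ, -⟩ := exists_rep hC hr (by omega) hcop e
  have habs : ActsAbsolutelyIrreducibly (matrixSet ρ.range) := by rw [hρ]; exact hC.absIrred
  have hS : ∃ v0, Stein ρ v0 := by
    by_cases hpr : p = r
    · subst hpr
      exact exists_stein_own p habs hq
    · refine exists_stein_cross habs ?_ ?_ hq
      · intro h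
        rw [h, MonoidHom.range_eq_bot_iff.2 rfl] at hρ
        apply hC.nonabelian
        subst hρ
        exact ⟨⟨fun a b => by
          induction a using QuotientGroup.induction_on with
          | H a =>
            induction b using QuotientGroup.induction_on with
            | H b => rw [Subsingleton.elim a b]⟩⟩
      · obtain ⟨n, -, hn⟩ := FiniteField.card E r
        rw [hn, Nat.cast_pow]
        exact pow_ne_zero _ (prime_ne_zero p hr hpr)
  obtain ⟨v0, S⟩ := hS
  exact stein_main h2 hQ h5 hH hPc S hρ hq hm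

/-- the scalars of a subgroup of `Ω(Q)` have order at most two -/
theorem scalars_two_of_omega [Finite F] {Q : QuadraticForm F (ι → F)} (hQ : Nondeg Q) (h0 : 0 < Fintype.card ι)
    (hP : P ≤ omegaGL (Q : (ι → F) → F)) {r : ℕ} (hr : r.Prime) (hr2 : r ≠ 2) :
    ¬ r ∣ Nat.card ((scalars ι F).subgroupOf P) := by
  intro h
  have := Fact.mk hr
  obtain ⟨z, hz⟩ := exists_prime_orderOf_dvd_card' r h
  have h1 := z.2
  rw [Subgroup.mem_subgroupOf, mem_scalars_iff] at h1
  obtain ⟨c, hc⟩ := h1
  obtain ⟨g, -, hg⟩ := hP (z : P).2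
  have hiso : ∀ x, Q (((z : P) : GL ι F).1 *ᵥ x) = Q x := by
    rw [← hg]
    exact fun x => g.2 x x
  obtain ⟨i⟩ : Nonempty ι := Fintype.card_pos_iff.1 h0
  have hne : (Pi.single i 1 : ι → F) ≠ 0 := by
    intro h
    have := congrFun h i
    simp at this
  obtain ⟨y, hy⟩ := hQ.exists_polar_ne hne
  obtain ⟨x, hx⟩ : ∃ x, Q x ≠ 0 := by
    by_contra hcon
    push Not at hcon
    apply hy
    rw [QuadraticMap.polar, hcon, hcon, hcon]
    ring
  have h2 := hiso x
  rw [hc, Matrix.smul_mulVec, Matrix.one_mulVec, QuadraticMap.map_smul, smul_eq_mul] at h2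
  have h3 : (c : F) * (c : F) = 1 := by
    have h4 : ((c : F) * (c : F) - 1) * Q x = 0 := by linear_combination h2
    exact sub_eq_zero.1 ((mul_eq_zero.1 h4).resolve_right hx)
  have h5 : (z : P) ^ 2 = 1 := by
    apply Subtype.ext
    apply Units.ext
    rw [Subgroup.coe_pow, Units.val_pow_eq_pow_val, hc, smul_pow, one_pow, pow_two, h3, one_smul]
    rfl
  have h6 : z ^ 2 = 1 := Subtype.ext h5
  have h7 := orderOf_dvd_of_pow_eq_one h6
  rw [hz] at h7
  exact hr2 ((Nat.prime_dvd_prime_iff_eq hr Nat.prime_two).1 h7)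

/-- **`A₆` in dimension nine.** -/
theorem a6_nine [Finite F] (p : ℕ) [hp : Fact p.Prime] [CharP F p] (h2 : (2 : F) ≠ 0)
    {Q : QuadraticForm F (ι → F)} (hQ : Nondeg Q) (h9 : Fintype.card ι = 9) {H : Subgroup (GL ι F)}
    (hH : IsMaximalIn (omegaGL (Q : (ι → F) → F)) H) (hPc : IsResidualCore H P)
    (e : Soc P ≃* alternatingGroup (Fin 6)) : False := by
  obtain ⟨K, _, _, hK, _, ⟨f⟩⟩ := exists_nine e
  have h3 : ¬ 3 ∣ Nat.card ((scalars ι F).subgroupOf P) :=
    scalars_two_of_omega hQ (by omega) (hPc.le.trans hH.1.le) Nat.prime_three (by norm_num)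
  obtain ⟨⟨e'⟩, -⟩ := psl_main p h2 hQ (by omega) hH hPc Nat.prime_three
    (((Nat.Prime.coprime_iff_not_dvd Nat.prime_three).2 h3).symm) f (by rw [h9, hK]) rfl
  have h4 := Nat.card_congr (e.symm.trans e').toEquiv
  rw [h9] at h4
  have h6 : Nat.card (alternatingGroup (Fin 6)) = 360 := by
    have := nat_card_alternatingGroup (α := Fin 6)
    rw [this, Nat.card_eq_fintype_card, Fintype.card_fin]
    rfl
  have h10 : Nat.card (alternatingGroup (Fin (9 + 1))) = 1814400 := by
    have := nat_card_alternatingGroup (α := Fin (9 + 1))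
    rw [this, Nat.card_eq_fintype_card, Fintype.card_fin]
    rfl
  rw [h6, h10] at h4
  omega

end Cfsg.Agent.H937.T2
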