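import Mathlib
import Cfsg.Agent.H937.Odd2
import Cfsg.Agent.S0803

/-!
# Intersections of maximal subgroups of `PGL₂(q)` with `PSL₂(q)`
-/

set_option autoImplicit false
set_option linter.style.haveILetI false

namespace Cfsg.Agent.H937

open Matrix
open Cfsg.Agent.ClassicalGeometry.PSL2Basic
open Cfsg.Agent.ClassicalGeometry.KleinCount
open Cfsg.Agent.ClassicalGeometry.DicksonSubfield (gl_mul00 gl_mul01 gl_mul10 gl_mul11 gl_det_ne)

section arith

theorem not_dvd_of_coprime {q r m x : ℕ} (hq : r ^ m = q) (hr : 1 < r) (hlt : r < q)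
    (hx : x ∣ r * (r ^ 2 - 1)) (h : q ∣ x) : False := by
  have h1 : q ∣ r * (r ^ 2 - 1) := h.trans hx
  have h2 : Nat.Coprime q (r ^ 2 - 1) := by
    rw [← hq]
    apply Nat.Coprime.pow_left
    have h3 : 1 < r ^ 2 := Nat.one_lt_pow two_ne_zero hr
    have h4 : Nat.Coprime (r ^ 2) (r ^ 2 - 1) := by
      rw [Nat.coprime_self_sub_right h3.le]
      exact Nat.coprime_one_right _
    exact Nat.Coprime.coprime_dvd_left (dvd_pow_self r two_ne_zero) h4
  have h3 := Nat.le_of_dvd (by omega) (h2.dvd_of_dvd_mul_right h1)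
  omega

/-- Divisibility between orders of subfield groups. -/
theorem dvd_of_sub_one_dvd {p a a' : ℕ} (hp : 2 ≤ p) (ha : 0 < a)
    (h : p ^ (2 * a) - 1 ∣ 2 * (p ^ (2 * a') - 1)) : a ∣ a' := by
  have h1 : p ^ (2 * a) - 1 ∣ 2 * (p ^ (Nat.gcd (2 * a) (2 * a')) - 1) := by
    rw [← Nat.pow_sub_one_gcd_pow_sub_one, ← Nat.gcd_mul_left]
    exact Nat.dvd_gcd (Dvd.intro_left 2 rfl) h
  rw [Nat.gcd_mul_left] at h1
  have hg : Nat.gcd a a' ∣ a := Nat.gcd_dvd_left a a'
  by_contra hcon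
  obtain ⟨c, hc⟩ := hg
  have hc1 : c ≠ 1 := by
    rintro rfl
    apply hcon
    rw [hc, mul_one]
    exact Nat.gcd_dvd_right a a'
  have hc0 : c ≠ 0 := by
    rintro rfl
    omega
  have hg0 : 0 < Nat.gcd a a' := Nat.gcd_pos_of_pos_left _ ha
  have h2g : 2 * Nat.gcd a a' ≤ a := by
    calc 2 * Nat.gcd a a' = Nat.gcd a a' * 2 := mul_comm _ _
      _ ≤ Nat.gcd a a' * c := Nat.mul_le_mul_left _ (by omega)
      _ = a := hc.symm
  have h3 : p ^ (2 * Nat.gcd a a') ≤ p ^ a := Nat.pow_le_pow_right (by omega) h2g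
  have h4 : 2 ≤ p ^ a := by
    calc 2 ≤ p := hp
      _ = p ^ 1 := (pow_one p).symm
      _ ≤ p ^ a := Nat.pow_le_pow_right (by omega) ha
  have h5 : 1 < p ^ (2 * Nat.gcd a a') := Nat.one_lt_pow (by omega) (by omega)
  have h6 := Nat.le_of_dvd (by omega) h1
  have h7 : p ^ (2 * a) = p ^ a * p ^ a := by rw [← pow_add]; congr 1; omega
  rw [h7] at h6
  have h8 : p ^ a * 2 ≤ p ^ a * p ^ a := Nat.mul_le_mul_left _ h4
  omega

end arith

section groups

/-- Alternating groups have no subgroup of index two. -/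
theorem alt_index_two {n : ℕ} (H : Subgroup (alternatingGroup (Fin n))) (h : H.index = 2) :
    False := by
  have hn : H.Normal := Subgroup.normal_of_index_eq_two h
  have htop : H = ⊤ := by
    obtain ⟨K, hKdef⟩ : ∃ K, K = H.map (alternatingGroup (Fin n)).subtype := ⟨_, rfl⟩
    have hK : alternatingGroup (Fin n) ≤ K := by
      rw [← Equiv.Perm.closure_three_cycles_eq_alternating, Subgroup.closure_le]
      intro σ hσ
      rw [hKdef]
      have hσ3 : Equiv.Perm.IsThreeCycle σ := hσ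
      have hσA : σ ∈ alternatingGroup (Fin n) := hσ3.mem_alternatingGroup
      refine ⟨⟨σ, hσA⟩, ?_, rfl⟩
      have h3 : (⟨σ, hσA⟩ : alternatingGroup (Fin n)) ^ 3 = 1 := by
        apply Subtype.ext
        have h4 := pow_orderOf_eq_one σ
        rw [hσ3.orderOf] at h4
        exact h4
      have h4 : (⟨σ, hσA⟩ : alternatingGroup (Fin n)) =
          (⟨σ, hσA⟩ ^ 2) * (⟨σ, hσA⟩ ^ 2) := by
        rw [← pow_add, show 2 + 2 = 3 + 1 from rfl, pow_succ, h3, one_mul]
      rw [SetLike.mem_coe, h4]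
      exact Subgroup.mul_self_mem_of_index_two h _
    rw [eq_top_iff]
    intro x _
    rw [hKdef] at hK
    obtain ⟨y, hy, hy'⟩ := hK x.2
    have : y = x := Subtype.ext hy'
    rwa [this] at hy
  rw [htop, Subgroup.index_top] at h
  omega

/-- Elements of order three of a dihedral group commute. -/
theorem dihedral_three {n : ℕ} (g h : DihedralGroup n) (hg : g ^ 3 = 1) (hh : h ^ 3 = 1) :
    g * h = h * g := by
  have key : ∀ g : DihedralGroup n, g ^ 3 = 1 → ∃ i, g = DihedralGroup.r i := by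
    intro g hg
    have h4 : g = (g ^ 2) * (g ^ 2) := by
      rw [← pow_add, show 2 + 2 = 3 + 1 from rfl, pow_succ, hg, one_mul]
    rw [h4]
    cases (g ^ 2) with
    | r i => exact ⟨i + i, DihedralGroup.r_mul_r i i⟩
    | sr i => exact ⟨i - i, DihedralGroup.sr_mul_sr i i⟩
  obtain ⟨i, rfl⟩ := key g hg
  obtain ⟨j, rfl⟩ := key h hh
  rw [DihedralGroup.r_mul_r, DihedralGroup.r_mul_r, add_comm]

/-- The order of an element of a dihedral group. -/
theorem dihedral_order {n : ℕ} (g : DihedralGroup n) (hn : 2 ≤ n) : orderOf g ≤ n := by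
  cases g with
  | r i =>
    apply orderOf_le_of_pow_eq_one (by omega)
    rw [DihedralGroup.r_pow, CharP.cast_eq_zero, mul_zero]
    rfl
  | sr i =>
    rw [DihedralGroup.orderOf_sr]
    exact hn

theorem perm4_orders : ∀ σ : Equiv.Perm (Fin 4), σ ^ 2 = 1 ∨ σ ^ 3 = 1 ∨ σ ^ 4 = 1 := by
  decide +kernel

end groups

section

variable {F : Type*} [Field F]

/-- An involution of the Borel subgroup has opposite diagonal entries. -/
theorem diag_of_involution {g : GL (Fin 2) F} (h10 : g 1 0 = 0)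
    (h2 : pr g * pr g = 1) : g 1 1 = - g 0 0 ∨ g 0 0 = g 1 1 ∧ 2 * g 0 0 * g 0 1 = 0 := by
  rw [← map_mul, pr_eq_one_iff, gl_mul01, gl_mul00, gl_mul11, h10] at h2
  obtain ⟨h3, -, h4⟩ := h2
  have h5 : (g 1 1 - g 0 0) * (g 1 1 + g 0 0) = 0 := by linear_combination -h4
  rcases mul_eq_zero.mp h5 with h | h
  · right
    have h6 : g 0 0 = g 1 1 := (sub_eq_zero.mp h).symm
    refine ⟨h6, ?_⟩
    rw [← h6] at h3
    linear_combination h3
  · left
    exact eq_neg_of_add_eq_zero_left h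

theorem diag_of_involution' (hc : (2 : F) ≠ 0) {g : GL (Fin 2) F} (h10 : g 1 0 = 0)
    (h1 : pr g ≠ 1) (h2 : pr g * pr g = 1) : g 1 1 = - g 0 0 := by
  rcases diag_of_involution h10 h2 with h | ⟨h, h3⟩
  · exact h
  · exfalso
    apply h1
    have hdet := gl_det_ne g
    rw [h10, mul_zero, sub_zero] at hdet
    have h00 : g 0 0 ≠ 0 := left_ne_zero_of_mul hdet
    rw [pr_eq_one_iff]
    refine ⟨?_, h10, h⟩
    rcases mul_eq_zero.mp h3 with h4 | h4
    · exact absurd h4 (mul_ne_zero hc h00)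
    · exact h4

/-- The Borel subgroup contains no Klein four-subgroup. -/
theorem no_klein_BP (hc : (2 : F) ≠ 0) {x y : PGL F} (hx : x ∈ BP F) (hy : y ∈ BP F)
    (h : CommInv x y) : False := by
  obtain ⟨g, rfl⟩ := pr_surjective x
  obtain ⟨k, rfl⟩ := pr_surjective y
  rw [pr_mem_BP] at hx hy
  have h1 := diag_of_involution' hc hx h.hx h.xx
  have h2 := diag_of_involution' hc hy h.hy h.yy
  have h3 : (g * k) 1 0 = 0 := by rw [gl_mul10, hx, hy]; ring
  have h4 : pr (g * k) ≠ 1 := by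
    rw [map_mul]
    exact h.xy_ne_one
  have h5 : pr (g * k) * pr (g * k) = 1 := by
    rw [map_mul]
    calc pr g * pr k * (pr g * pr k) = pr g * (pr k * pr g) * pr k := by group
      _ = (pr g * pr g) * (pr k * pr k) := by rw [← h.comm]; group
      _ = 1 := by rw [h.xx, h.yy, mul_one]
  have h6 := diag_of_involution' hc h3 h4 h5
  rw [gl_mul11, gl_mul00, hx, hy, h1, h2] at h6
  have hdet1 := gl_det_ne g
  have hdet2 := gl_det_ne k
  rw [hx, mul_zero, sub_zero] at hdet1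
  rw [hy, mul_zero, sub_zero] at hdet2
  have h7 : 2 * (g 0 0 * k 0 0) = 0 := by linear_combination h6
  rcases mul_eq_zero.mp h7 with h8 | h8
  · exact hc h8
  · exact mul_ne_zero (left_ne_zero_of_mul hdet1) (left_ne_zero_of_mul hdet2) h8

theorem cj_commInv {x y : PGL F} (b : PGL F) (h : CommInv x y) :
    CommInv (b * x * b⁻¹) (b * y * b⁻¹) := by
  refine ⟨?_, ?_, ?_, ?_, ?_, ?_⟩
  · intro h1
    exact h.hx (conj_eq_one_iff.mp h1)
  · intro h1
    exact h.hy (conj_eq_one_iff.mp h1)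
  · intro h1
    apply h.hxy
    exact mul_left_cancel (mul_right_cancel h1)
  · calc b * x * b⁻¹ * (b * x * b⁻¹) = b * (x * x) * b⁻¹ := by group
      _ = 1 := by rw [h.xx, mul_one, mul_inv_cancel]
  · calc b * y * b⁻¹ * (b * y * b⁻¹) = b * (y * y) * b⁻¹ := by group
      _ = 1 := by rw [h.yy, mul_one, mul_inv_cancel]
  · calc b * x * b⁻¹ * (b * y * b⁻¹) = b * (x * y) * b⁻¹ := by group
      _ = b * (y * x) * b⁻¹ := by rw [h.comm]
      _ = b * y * b⁻¹ * (b * x * b⁻¹) := by group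

/-- Orders of semisimple elements of `PGL₂(k)`. -/
theorem order_le_PG [Finite F] (p : ℕ) [Fact p.Prime] [CharP F p] {k : Subfield F}
    (h3 : 3 ≤ Nat.card k) {x : PGL F} (hx : x ∈ PG k) (hxp : x ^ p ≠ 1) :
    orderOf x ≤ Nat.card k + 1 := by
  obtain ⟨y, rfl⟩ := hx
  letI : Fintype k := Fintype.ofFinite k
  obtain ⟨A, rfl⟩ := pr_surjective y
  rw [orderOf_injective _ (map_inj k)]
  have hA : (pr A) ^ p ≠ 1 := by
    intro h
    apply hxp
    rw [← map_pow, h, map_one]
  obtain ⟨N, hN, n, hn, ⟨e⟩, -⟩ := exists_torus A (disc_ne_zero p A hA)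
  have hAN : pr A ∈ N := by
    apply hN
    rw [mul_inv_cancel_right]
    exact Subgroup.mem_zpowers _
  rw [Nat.card_eq_fintype_card] at h3 ⊢
  have h4 : orderOf (pr A) = orderOf (e ⟨pr A, hAN⟩) := by
    rw [MulEquiv.orderOf_eq, ← Subgroup.orderOf_coe]
  rw [h4]
  have h5 : 2 ≤ n := by omega
  have h6 := dihedral_order (e ⟨pr A, hAN⟩) h5
  omega

end

end Cfsg.Agent.H937
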