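import Mathlib
import Cfsg.Agent.H937.Meet

/-!
# Intersections of maximal subgroups of `PGL₂(q)` with `PSL₂(q)`: the cases
-/

set_option autoImplicit false
set_option linter.style.haveILetI false

namespace Cfsg.Agent.H937

open Matrix
open Cfsg.Agent.ClassicalGeometry.PSL2Basic
open Cfsg.Agent.ClassicalGeometry.KleinCount

section

variable {F : Type*} [Field F]

/-- Proper subgroups of `PSL₂(F)`. -/
theorem proper_cases [Fintype F] (p : ℕ) [Fact p.Prime] [CharP F p]
    (hodd : Odd (Fintype.card F)) (h5 : 5 ≤ Fintype.card F) {X : Subgroup (PGL F)}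
    (hX : X < LL F) :
    (∃ b, cj b X ≤ BP F ⊓ LL F) ∨
    (∃ (Y : Subgroup (PGL F)) (k : ℕ), X ≤ Y ∧ Nonempty (Y ≃* DihedralGroup k) ∧
      (2 * k = Fintype.card F - 1 ∨ 2 * k = Fintype.card F + 1)) ∨
    (¬ p ∣ Nat.card X ∧ (Nonempty (X ≃* alternatingGroup (Fin 4)) ∨
      Nonempty (X ≃* Equiv.Perm (Fin 4)) ∨ Nonempty (X ≃* alternatingGroup (Fin 5)))) ∨
    (p = 3 ∧ Nonempty (X ≃* alternatingGroup (Fin 5))) ∨
    (∃ (k : Subfield F) (b : PGL F), Nat.card k < Nat.card F ∧
      (cj b X = PS k ∨ cj b X = PG k)) := by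
  rcases structure_pgl p X with ⟨b, hb⟩ | ⟨c, hc, hc1, hc2⟩ | h1 | h1 | ⟨k, b, hb⟩
  · left
    refine ⟨b, le_inf hb ?_⟩
    rw [← cj_normal b (LL F)]
    exact cj_mono b hX.le
  · right; left
    obtain ⟨N, hN, n, hn, -, hN2⟩ := torus_case p hc1 hc2
    obtain ⟨k, hk⟩ : ∃ k, 2 * k = n := by
      obtain ⟨j, hj⟩ := hodd
      rcases hn with rfl | rfl
      · exact ⟨j, by omega⟩
      · exact ⟨j + 1, by omega⟩
    refine ⟨N ⊓ LL F, k, le_inf hN hX.le, hN2 hodd (by omega) k hk, ?_⟩
    rw [hk]
    exact hn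
  · exact Or.inr (Or.inr (Or.inl h1))
  · exact Or.inr (Or.inr (Or.inr (Or.inl h1)))
  · right; right; right; right
    refine ⟨k, b, ?_, hb⟩
    apply card_lt_of_ne_top
    rintro rfl
    rw [PS_top, PG_top] at hb
    have h2 : cj b X < LL F := by
      refine lt_of_le_of_ne ?_ ?_
      · rw [← cj_normal b (LL F)]
        exact cj_mono b hX.le
      · intro h
        rw [← cj_normal b (LL F)] at h
        exact hX.ne (cj_injective b h)
    rcases hb with hb | hb
    · exact h2.ne hb
    · rw [hb] at h2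
      exact not_top_lt h2

/-- Maximal subgroups of `PGL₂(F)`, up to conjugacy. -/
theorem odd_pgl_conj [Fintype F] (p : ℕ) [Fact p.Prime] [CharP F p]
    (hodd : Odd (Fintype.card F)) (h3 : 3 < Fintype.card F)
    (M : Subgroup (PGL F)) (hM : M ⋖ ⊤) (hML : ¬ LL F ≤ M) :
    (∃ b, cj b M = BP F) ∨
    (∃ k : ℕ, (2 * k = Fintype.card F - 1 ∧ Fintype.card F ≠ 5 ∨ 2 * k = Fintype.card F + 1) ∧
      Nonempty ((M ⊓ LL F : Subgroup (PGL F)) ≃* DihedralGroup k)) ∨
    (Fintype.card F = p ∧ (Fintype.card F % 8 = 3 ∨ Fintype.card F % 8 = 5) ∧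
      Nonempty (M ≃* Equiv.Perm (Fin 4))) ∨
    (∃ (k : Subfield F) (r : ℕ) (b : PGL F), r.Prime ∧ Odd r ∧ Nat.card k ^ r = Nat.card F ∧
      cj b M = PG k) := by
  have hcube := card_PGL_cube (F := F)
  have hML' : ¬ M ≤ LL F := by
    intro hle
    have h1 : M = LL F := by
      by_contra hne
      exact hM.2 (lt_of_le_of_ne hle hne) (lt_top_iff_ne_top.mpr (LL_ne_top hodd))
    exact hML (by rw [h1])
  obtain ⟨s, hs⟩ := Nat.exists_eq_add_of_le h3
  have h6 : (3 + 1 + s) ^ 3 = 64 + 48 * s + 12 * s ^ 2 + s ^ 3 := by ring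
  have hpg : ∀ {k : Subfield F} {b : PGL F}, cj b M = PG k →
      ∃ (k : Subfield F) (r : ℕ) (b : PGL F), r.Prime ∧ Odd r ∧ Nat.card k ^ r = Nat.card F ∧
        cj b M = PG k := by
    intro k b hb
    have hcov : PG k ⋖ ⊤ := by
      rw [← hb]
      exact cj_covBy_normal hM
    obtain ⟨r, hr, hr'⟩ := prime_of_PG_covBy hcov
    refine ⟨k, r, b, hr, ?_, hr', hb⟩
    rcases hr.eq_two_or_odd' with h2 | h2
    · exfalso
      apply hML'
      rw [h2] at hr'
      have h3 : PG k ≤ LL F := PG_le_LL hodd (m := 1) (by simpa using hr')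
      rw [← hb, ← cj_normal b (LL F), cj_le_cj] at h3
      exact h3
    · exact h2
  rcases structure_pgl p M with ⟨b, hb⟩ | ⟨c, hc, hc1, hc2⟩ | ⟨-, h1⟩ | ⟨-, ⟨e⟩⟩ | ⟨k, b, hb⟩
  · left
    have hcov : cj b M ⋖ ⊤ := cj_covBy_normal hM
    have hBt : BP F ≠ ⊤ := by
      intro h
      have h1 : Nat.card (BP F) = Nat.card (PGL F) := by
        rw [h]
        exact Nat.card_congr Subgroup.topEquiv.toEquiv
      rw [card_BP] at h1
      rw [← h1] at hcube
      have h5 : Fintype.card F - 1 = s + 3 := by omega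
      rw [h5, hs, Nat.succ_eq_add_one, h6] at hcube
      nlinarith [Nat.zero_le (s ^ 3), Nat.zero_le (s ^ 2)]
    refine ⟨b, ?_⟩
    by_contra hne
    exact hcov.2 (lt_of_le_of_ne hb hne) (lt_top_iff_ne_top.mpr hBt)
  · right; left
    obtain ⟨N, hN, n, hn, hN2, hN3⟩ := torus_case p hc1 hc2
    have hNt : N ≠ ⊤ := by
      intro h
      have h1 : Nat.card N = Nat.card (PGL F) := by
        rw [h]
        exact Nat.card_congr Subgroup.topEquiv.toEquiv
      obtain ⟨e⟩ := hN2
      rw [Nat.card_congr e.toEquiv, DihedralGroup.nat_card] at h1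
      rw [← h1] at hcube
      have h5 : Fintype.card F - 1 = s + 3 := by omega
      rcases hn with rfl | rfl
      · rw [h5, hs, Nat.succ_eq_add_one, h6] at hcube
        nlinarith [Nat.zero_le (s ^ 3), Nat.zero_le (s ^ 2)]
      · rw [hs, Nat.succ_eq_add_one, h6] at hcube
        nlinarith [Nat.zero_le (s ^ 3), Nat.zero_le (s ^ 2)]
    have hMN : M = N := by
      by_contra hne
      exact hM.2 (lt_of_le_of_ne hN hne) (lt_top_iff_ne_top.mpr hNt)
    obtain ⟨k, hk⟩ : ∃ k, 2 * k = n := by
      obtain ⟨j, hj⟩ := hodd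
      rcases hn with rfl | rfl
      · exact ⟨j, by omega⟩
      · exact ⟨j + 1, by omega⟩
    refine ⟨k, ?_, by rw [hMN]; exact hN3 hodd h3 k hk⟩
    rcases hn with rfl | rfl
    · left
      refine ⟨hk, ?_⟩
      intro h5
      rw [h5] at hcube
      have hc : Nat.card (PGL F) = 120 := by omega
      have h2 : (2 : F) ≠ 0 := (two_ne_zero_iff_odd F).2 hodd
      obtain ⟨V, hV⟩ :=
        Cfsg.Agent.ClassicalGeometry.PSL2KleinConj.exists_isKleinFour (F := F) h2
      have hV24 := card_nrm_klein hodd hV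
      have hMc : Nat.card M = 2 ^ 3 := by
        rw [hMN]
        obtain ⟨e⟩ := hN2
        rw [Nat.card_congr e.toEquiv, DihedralGroup.nat_card, h5]
        norm_num
      haveI : Fact (Nat.Prime 2) := ⟨Nat.prime_two⟩
      refine excl_sylow (p := 2) (n := 3) (G := PGL F) ?_ (covBy_top_iff.mp hM) hMc
        (X := nrm (V.map (ta : PSL F →* PGL F))) ?_ ?_ ?_
      · rw [hc]; norm_num
      · rw [hV24]; norm_num
      · intro h
        have h7 : Nat.card (nrm (V.map (ta : PSL F →* PGL F))) = Nat.card (PGL F) := by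
          rw [h]
          exact Nat.card_congr Subgroup.topEquiv.toEquiv
        rw [hV24, hc] at h7
        omega
      · rw [hV24]; norm_num
    · right
      exact hk
  · rcases h1 with ⟨⟨e⟩⟩ | ⟨⟨e⟩⟩ | ⟨⟨e⟩⟩
    · exact absurd (le_LL_of_alt e) hML'
    · obtain ⟨V, hV, -, hMV⟩ := exists_klein_S4 e
      have hMV' : M = nrm (V.map (ta : PSL F →* PGL F)) := by
        apply Subgroup.eq_of_le_of_card_ge hMV
        rw [card_nrm_klein hodd hV, Nat.card_congr e.toEquiv, card_S4]
      by_cases hk : (⊥ : Subfield F) = ⊤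
      · right; right; left
        refine ⟨card_eq_of_bot_eq_top p hk, ?_, ⟨e⟩⟩
        by_contra hcon
        apply hML'
        rw [hMV']
        apply nrm_le_of_square hodd _ hV
        rw [FiniteField.isSquare_two_iff]
        constructor
        · intro h
          exact hcon (Or.inl h)
        · intro h
          exact hcon (Or.inr h)
      · right; right; right
        obtain ⟨b, hb⟩ := exists_cj_nrm_le hodd hV ⊥
        rw [← hMV'] at hb
        have hcov : cj b M ⋖ ⊤ := cj_covBy_normal hM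
        have hlt := card_lt_of_ne_top hk
        have hbk : cj b M = PG ⊥ := by
          by_contra hne
          exact hcov.2 (lt_of_le_of_ne hb hne) (lt_top_iff_ne_top.mpr (PG_ne_top hlt))
        exact hpg hbk
    · exact absurd (le_LL_of_alt e) hML'
  · exact absurd (le_LL_of_alt e) hML'
  · right; right; right
    rcases hb with hb | hb
    · exfalso
      apply hML'
      have h4 := PS_le_LL k
      rw [← hb, ← cj_normal b (LL F), cj_le_cj] at h4
      exact h4
    · exact hpg hb

theorem two_card_BPL [Fintype F] (hodd : Odd (Fintype.card F)) :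
    2 * Nat.card (BP F ⊓ LL F : Subgroup (PGL F)) = Fintype.card F * (Fintype.card F - 1) := by
  rw [card_inf_of_not_le (index_LL_odd hodd) (not_BP_le_LL hodd), card_BP]

theorem card_dvd_PG [Fintype F] {X : Subgroup (PGL F)} {k : Subfield F} {b : PGL F}
    (h : cj b X = PS k ∨ cj b X = PG k) :
    Nat.card X ∣ Nat.card k * (Nat.card k ^ 2 - 1) := by
  letI : Fintype k := Fintype.ofFinite k
  have h1 : Nat.card (PG k) = Nat.card k * (Nat.card k ^ 2 - 1) := by
    rw [card_PG, card_PGL2, Nat.card_eq_fintype_card (α := k)]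
  rw [← h1, ← card_cj b X]
  rcases h with h | h
  · rw [h]
    exact Subgroup.card_dvd_of_le (PS_le_PG k)
  · rw [h]

/-- Case of the Borel subgroup. -/
theorem meet_borel [Fintype F] (p : ℕ) [Fact p.Prime] [CharP F p]
    (hodd : Odd (Fintype.card F)) (h5 : 5 ≤ Fintype.card F) (h9 : Fintype.card F ≠ 9)
    {D X : Subgroup (PGL F)} (hD : 2 * Nat.card D = Fintype.card F * (Fintype.card F - 1))
    (hDX : D < X) (hX : X < LL F) : False := by
  have hdvd : Nat.card D ∣ Nat.card X := Subgroup.card_dvd_of_le hDX.le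
  have hlt : Nat.card D < Nat.card X := by
    refine lt_of_le_of_ne (Nat.le_of_dvd Nat.card_pos hdvd) ?_
    intro h
    exact hDX.ne (Subgroup.eq_of_le_of_card_ge hDX.le h.ge)
  have hp : p.Prime := Fact.out
  obtain ⟨n, -, hn⟩ := FiniteField.card F p
  have hpq : p ∣ Fintype.card F := by
    rw [hn]
    exact dvd_pow_self p n.ne_zero
  have hqD : Fintype.card F ∣ Nat.card D := by
    have h1 : Fintype.card F ∣ 2 * Nat.card D := by
      rw [hD]
      exact dvd_mul_right _ _
    have h2 : Nat.Coprime (Fintype.card F) 2 := by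
      rw [Nat.coprime_comm, Nat.coprime_two_left]
      exact hodd
    exact h2.dvd_of_dvd_mul_left h1
  obtain ⟨s, hs⟩ := Nat.exists_eq_add_of_le h5
  have hs1 : Fintype.card F - 1 = s + 4 := by omega
  rcases proper_cases p hodd h5 hX with ⟨b, hb⟩ | ⟨Y, k, hXY, ⟨e⟩, hk⟩ | ⟨h1, -⟩ |
    ⟨h3, ⟨e⟩⟩ | ⟨k, b, hk, hb⟩
  · have h1 : Nat.card X ≤ Nat.card (BP F ⊓ LL F : Subgroup (PGL F)) := by
      rw [← card_cj b X]
      exact Nat.card_le_card_of_injective _ (Subgroup.inclusion_injective hb)
    have h2 := two_card_BPL (F := F) hodd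
    omega
  · have h1 : Nat.card X ≤ Nat.card Y :=
      Nat.card_le_card_of_injective _ (Subgroup.inclusion_injective hXY)
    rw [Nat.card_congr e.toEquiv, DihedralGroup.nat_card] at h1
    obtain ⟨j, hj⟩ := hdvd
    have hj2 : 2 ≤ j := by
      by_contra hcon
      have h6 : j = 0 ∨ j = 1 := by omega
      rcases h6 with rfl | rfl
      · have : 0 < Nat.card X := Nat.card_pos
        omega
      · omega
    have h7 : Nat.card D * 2 ≤ Nat.card X := by
      rw [hj]
      exact Nat.mul_le_mul_left _ hj2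
    rw [hs1, hs] at hD
    have h8 : 2 * k ≤ s + 6 := by omega
    nlinarith [Nat.zero_le (s * s)]
  · exact h1 (hpq.trans (hqD.trans hdvd))
  · rw [Nat.card_congr e.toEquiv, card_A5] at hlt
    rw [h3] at hn
    have hn3 : 3 ≤ (n : ℕ) := by
      by_contra hcon
      have h6 : (n : ℕ) = 0 ∨ (n : ℕ) = 1 ∨ (n : ℕ) = 2 := by omega
      rcases h6 with h6 | h6 | h6
      · exact n.ne_zero h6
      · rw [h6] at hn
        omega
      · rw [h6] at hn
        exact h9 (by rw [hn]; norm_num)
    have h7 : 27 ≤ Fintype.card F := by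
      rw [hn]
      calc 27 = 3 ^ 3 := by norm_num
        _ ≤ 3 ^ (n : ℕ) := Nat.pow_le_pow_right (by norm_num) hn3
    rw [hs1, hs] at hD
    nlinarith
  · have hr := card_subfield_pow k
    exact not_dvd_of_coprime (q := Nat.card F) hr Finite.one_lt_card hk (card_dvd_PG hb)
      (by rw [Nat.card_eq_fintype_card (α := F)]; exact hqD.trans hdvd)

theorem two_mul_le_of_lt [Finite F] {D X : Subgroup (PGL F)} (hDX : D < X) :
    2 * Nat.card D ≤ Nat.card X := by
  have hdvd : Nat.card D ∣ Nat.card X := Subgroup.card_dvd_of_le hDX.le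
  have hlt : Nat.card D < Nat.card X := by
    refine lt_of_le_of_ne (Nat.le_of_dvd Nat.card_pos hdvd) ?_
    intro h
    exact hDX.ne (Subgroup.eq_of_le_of_card_ge hDX.le h.ge)
  obtain ⟨j, hj⟩ := hdvd
  have hj2 : 2 ≤ j := by
    by_contra hcon
    have h6 : j = 0 ∨ j = 1 := by omega
    rcases h6 with rfl | rfl
    · have : 0 < Nat.card X := Nat.card_pos
      omega
    · omega
  rw [hj, mul_comm]
  exact Nat.mul_le_mul_left _ hj2

/-- Case of dihedral groups. -/
theorem meet_dihedral [Fintype F] (p : ℕ) [Fact p.Prime] [CharP F p]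
    (hodd : Odd (Fintype.card F)) (h5 : 5 ≤ Fintype.card F) (h7 : Fintype.card F ≠ 7)
    (h9 : Fintype.card F ≠ 9) (h11 : Fintype.card F ≠ 11) {D X : Subgroup (PGL F)} {k : ℕ}
    (e : D ≃* DihedralGroup k)
    (hk : 2 * k = Fintype.card F - 1 ∧ Fintype.card F ≠ 5 ∨ 2 * k = Fintype.card F + 1)
    (hDX : D < X) (hX : X < LL F) : False := by
  have hdvd : Nat.card D ∣ Nat.card X := Subgroup.card_dvd_of_le hDX.le
  have hDc : Nat.card D = 2 * k := by rw [Nat.card_congr e.toEquiv, DihedralGroup.nat_card]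
  have h2D := two_mul_le_of_lt hDX
  have hp : p.Prime := Fact.out
  obtain ⟨n, -, hn⟩ := FiniteField.card F p
  have hodd' := Nat.odd_iff.mp hodd
  -- an element of order `k`
  have hk2 : 2 ≤ k := by omega
  obtain ⟨c, hcD, hck⟩ : ∃ c ∈ D, orderOf c = k := by
    refine ⟨(e.symm (DihedralGroup.r 1) : D), (e.symm (DihedralGroup.r 1) : D).2, ?_⟩
    rw [Subgroup.orderOf_coe, MulEquiv.orderOf_eq, DihedralGroup.orderOf_r_one]
  have hcX : c ∈ X := hDX.le hcD
  -- the case of small `k`
  have hsmall : k ≤ 5 → Fintype.card F = 5 ∧ k = 3 := by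
    intro h
    have h12 : Fintype.card F ≤ 11 := by omega
    have h13 : Fintype.card F = 5 := by omega
    refine ⟨h13, by omega⟩
  have hord : ∀ {G : Type} [Group G], (∀ g : G, orderOf g ≤ 5) → ∀ (e : X ≃* G),
      Fintype.card F = 5 ∧ k = 3 := by
    intro G _ hG e
    apply hsmall
    rw [← hck]
    have h1 : orderOf c = orderOf (e ⟨c, hcX⟩) := by
      rw [MulEquiv.orderOf_eq, ← Subgroup.orderOf_coe]
    rw [h1]
    exact hG _
  have hS4 : ∀ g : Equiv.Perm (Fin 4), orderOf g ≤ 5 := by
    intro g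
    rcases perm4_orders g with h | h | h
    · exact (orderOf_le_of_pow_eq_one (by norm_num) h).trans (by norm_num)
    · exact (orderOf_le_of_pow_eq_one (by norm_num) h).trans (by norm_num)
    · exact (orderOf_le_of_pow_eq_one (by norm_num) h).trans (by norm_num)
  have hA4 : ∀ g : alternatingGroup (Fin 4), orderOf g ≤ 5 := by
    intro g
    rw [← Subgroup.orderOf_coe]
    exact hS4 _
  have hA5 : ∀ g : alternatingGroup (Fin 5), orderOf g ≤ 5 := by
    intro g
    rw [← Subgroup.orderOf_coe]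
    rcases five_orders g (Equiv.Perm.mem_alternatingGroup.mp g.2) with h | h | h
    · exact (orderOf_le_of_pow_eq_one (by norm_num) h).trans (by norm_num)
    · exact (orderOf_le_of_pow_eq_one (by norm_num) h).trans (by norm_num)
    · exact (orderOf_le_of_pow_eq_one (by norm_num) h)
  have hLL := two_card_LL hodd
  have hXL : 2 * Nat.card X ≤ Nat.card (LL F) := two_mul_le_of_lt hX
  rcases proper_cases p hodd h5 hX with ⟨b, hb⟩ | ⟨Y, k', hXY, ⟨e'⟩, hk'⟩ | ⟨-, h1⟩ |
    ⟨h3, ⟨e1⟩⟩ | ⟨k', b, hk', hb⟩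
  · have h1 : Nat.card X ∣ Nat.card (BP F ⊓ LL F : Subgroup (PGL F)) := by
      rw [← card_cj b X]
      exact Subgroup.card_dvd_of_le hb
    have h2 := two_card_BPL (F := F) hodd
    have h3 : 2 * (2 * k) ∣ Fintype.card F * (Fintype.card F - 1) := by
      rw [← h2, ← hDc]
      exact Nat.mul_dvd_mul_left 2 (hdvd.trans h1)
    have hcop : Nat.Coprime (2 * (2 * k)) (Fintype.card F) := by
      have h4 : Nat.Coprime 2 (Fintype.card F) := by
        rw [Nat.coprime_two_left]
        exact hodd
      apply Nat.Coprime.mul_left h4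
      rcases hk with ⟨hk, -⟩ | hk
      · rw [hk, Nat.coprime_comm, Nat.coprime_self_sub_right (by omega)]
        exact Nat.coprime_one_right _
      · rw [hk, Nat.coprime_self_add_left]
        exact Nat.coprime_one_left _
    have h4 := Nat.le_of_dvd (by omega) (hcop.dvd_of_dvd_mul_left h3)
    omega
  · have h1 : Nat.card X ≤ Nat.card Y :=
      Nat.card_le_card_of_injective _ (Subgroup.inclusion_injective hXY)
    rw [Nat.card_congr e'.toEquiv, DihedralGroup.nat_card] at h1
    omega
  · have hq5 : Fintype.card F = 5 ∧ k = 3 := by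
      rcases h1 with ⟨⟨e1⟩⟩ | ⟨⟨e1⟩⟩ | ⟨⟨e1⟩⟩
      · exact hord hA4 e1
      · exact hord hS4 e1
      · exact hord hA5 e1
    obtain ⟨hq5, hk3⟩ := hq5
    rw [hq5] at hLL
    have hLc : Nat.card (LL F) = 60 := by omega
    have hlag : Nat.card X ∣ 60 := by
      rw [← hLc]
      exact Subgroup.card_dvd_of_le hX.le
    rcases h1 with ⟨⟨e1⟩⟩ | ⟨⟨e1⟩⟩ | ⟨⟨e1⟩⟩
    · have hXc : Nat.card X = 12 := by rw [Nat.card_congr e1.toEquiv, card_A4]
      apply alt_index_two ((D.subgroupOf X).map e1.toMonoidHom)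
      have h8 : Nat.card (D.subgroupOf X) = 6 := by
        rw [Nat.card_congr (Subgroup.subgroupOfEquivOfLe hDX.le).toEquiv, hDc, hk3]
      have h9' : Nat.card ((D.subgroupOf X).map e1.toMonoidHom) = 6 := by
        rw [← h8]
        exact (Nat.card_congr (Subgroup.equivMapOfInjective _ _ e1.injective).toEquiv).symm
      have h10 := ((D.subgroupOf X).map e1.toMonoidHom).card_mul_index
      rw [h9', card_A4] at h10
      omega
    · rw [Nat.card_congr e1.toEquiv, card_S4] at hlag
      norm_num at hlag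
    · rw [Nat.card_congr e1.toEquiv, card_A5] at hXL
      omega
  · obtain ⟨hq5, -⟩ := hord hA5 e1
    rw [h3] at hn
    rw [hq5] at hn
    have h8 : 3 ∣ 5 := by
      rw [hn]
      exact dvd_pow_self 3 n.ne_zero
    norm_num at h8
  · have hr := card_subfield_pow k'
    have hr1 : 1 < Nat.card k' := Finite.one_lt_card
    have hr3 : 3 ≤ Nat.card k' := by
      obtain ⟨j, hj⟩ := odd_subfield hodd k'
      omega
    have hm : 2 ≤ Module.finrank k' F := by
      by_contra hcon
      have h5 : Module.finrank k' F = 0 ∨ Module.finrank k' F = 1 := by omega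
      rcases h5 with h5 | h5
      · rw [h5, pow_zero] at hr
        omega
      · rw [h5, pow_one] at hr
        omega
    have hq2 : Nat.card k' ^ 2 ≤ Fintype.card F := by
      rw [← Nat.card_eq_fintype_card (α := F), ← hr]
      exact Nat.pow_le_pow_right (by omega) hm
    have hxP : b * c * b⁻¹ ∈ PG k' := by
      have h1 : b * c * b⁻¹ ∈ cj b X := by
        rw [mem_cj]
        have : b⁻¹ * (b * c * b⁻¹) * b = c := by group
        rwa [this]
      rcases hb with hb | hb
      · rw [hb] at h1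
        exact PS_le_PG k' h1
      · rw [hb] at h1
        exact h1
    have hcp : (b * c * b⁻¹) ^ p ≠ 1 := by
      rw [conj_pow]
      intro h
      have h1 : c ^ p = 1 := conj_eq_one_iff.mp h
      have h2 := orderOf_dvd_of_pow_eq_one h1
      rw [hck] at h2
      have h4 : k = p := by
        rcases (Nat.dvd_prime hp).mp h2 with h3 | h3
        · omega
        · exact h3
      have h6 : p ∣ Fintype.card F := by
        rw [hn]
        exact dvd_pow_self p n.ne_zero
      have h8 : p ∣ 1 := by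
        rcases hk with ⟨hk, -⟩ | hk
        · have h9 : Fintype.card F = 2 * k + 1 := by omega
          rw [h9, h4] at h6
          exact (Nat.dvd_add_right (dvd_mul_left p 2)).mp h6
        · have h9 : Fintype.card F + 1 = 2 * k := by omega
          have h10 : p ∣ Fintype.card F + 1 := by
            rw [h9, h4]
            exact dvd_mul_left p 2
          exact (Nat.dvd_add_right h6).mp h10
      exact hp.one_lt.ne' (Nat.dvd_one.mp h8)
    have hle := order_le_PG p hr3 hxP hcp
    have hoc : orderOf (b * c * b⁻¹) = k := by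
      rw [← hck]
      exact (MulAut.conj b).orderOf_eq c
    rw [hoc] at hle
    have h12 : Nat.card k' ^ 2 ≤ 2 * Nat.card k' + 3 := by
      have : Fintype.card F - 1 ≤ 2 * k := by omega
      omega
    have h13 : Nat.card k' = 3 := by nlinarith
    rw [h13] at hle hq2
    omega

end

end Cfsg.Agent.H937
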