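import Mathlib
import Cfsg.Agent.H937.Meet2

/-!
# Intersections of maximal subgroups of `PGL₂(q)` with `PSL₂(q)`: `S₄` and subfields
-/

set_option autoImplicit false
set_option linter.style.haveILetI false

namespace Cfsg.Agent.H937

open Matrix
open Cfsg.Agent.ClassicalGeometry.PSL2Basic
open Cfsg.Agent.ClassicalGeometry.KleinCount

/-- A three-cycle. -/
def py : Equiv.Perm (Fin 4) := Equiv.swap 1 2 * Equiv.swap 2 3

theorem py_cube : py ^ 3 = 1 := by decide

theorem px_cube : px ^ 3 = 1 := by decide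

theorem pxy_ne : px * py ≠ py * px := by decide

section

variable {F : Type*} [Field F]

/-- Case of `S₄`. -/
theorem meet_s4 [Fintype F] (p : ℕ) [Fact p.Prime] [CharP F p]
    (hodd : Odd (Fintype.card F)) (h5 : 5 ≤ Fintype.card F) (hq : Fintype.card F = p)
    (h8 : Fintype.card F % 8 = 3 ∨ Fintype.card F % 8 = 5)
    (h40 : Fintype.card F % 5 ≠ 1 ∧ Fintype.card F % 5 ≠ 4)
    {M X : Subgroup (PGL F)} (e : M ≃* Equiv.Perm (Fin 4))
    (hML' : ¬ M ≤ LL F) (hDX : M ⊓ LL F < X) (hX : X < LL F) : False := by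
  have h2 : (2 : F) ≠ 0 := (two_ne_zero_iff_odd F).2 hodd
  have hDc : 2 * Nat.card (M ⊓ LL F : Subgroup (PGL F)) = 24 := by
    rw [card_inf_of_not_le (index_LL_odd hodd) hML', Nat.card_congr e.toEquiv, card_S4]
  have h2D := two_mul_le_of_lt hDX
  have hLL := two_card_LL hodd
  have hXL : 2 * Nat.card X ≤ Nat.card (LL F) := two_mul_le_of_lt hX
  -- elements of order three
  have hthree : ∀ σ : Equiv.Perm (Fin 4), σ ^ 3 = 1 → ((e.symm σ : M) : PGL F) ∈ X := by
    intro σ hσ
    apply hDX.le
    refine ⟨(e.symm σ).2, ?_⟩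
    have hσ4 : σ = (σ ^ 2) * (σ ^ 2) := by
      rw [← pow_add, show 2 + 2 = 3 + 1 from rfl, pow_succ, hσ, one_mul]
    rw [hσ4, map_mul, Subgroup.coe_mul]
    exact sq_mem_LL _
  have hpow : ∀ σ : Equiv.Perm (Fin 4), σ ^ 3 = 1 → ((e.symm σ : M) : PGL F) ^ 3 = 1 := by
    intro σ hσ
    rw [← Subgroup.coe_pow, ← map_pow, hσ, map_one, Subgroup.coe_one]
  rcases proper_cases p hodd h5 hX with ⟨b, hb⟩ | ⟨Y, k', hXY, ⟨e'⟩, hk'⟩ | ⟨-, h1⟩ |
    ⟨h3, -⟩ | ⟨k', b, hk', -⟩
  · obtain ⟨V, hV, hVM, -⟩ := exists_klein_S4 e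
    obtain ⟨x, y, hxy, hVxy⟩ := exists_commInv_of_isKleinFour hV
    have hmem : ∀ z ∈ V, ta z ∈ X := by
      intro z hz
      apply hDX.le
      exact ⟨hVM ⟨z, hz, rfl⟩, ⟨z, rfl⟩⟩
    have hx : x ∈ V := by
      rw [← hVxy, hxy.mem_four]
      exact Or.inr (Or.inl rfl)
    have hy : y ∈ V := by
      rw [← hVxy, hxy.mem_four]
      exact Or.inr (Or.inr (Or.inl rfl))
    have hxy' : CommInv (ta x) (ta y) := by
      refine ⟨?_, ?_, ?_, ?_, ?_, ?_⟩
      · intro h; exact hxy.hx (ta_injective (by rw [h, map_one]))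
      · intro h; exact hxy.hy (ta_injective (by rw [h, map_one]))
      · intro h; exact hxy.hxy (ta_injective h)
      · rw [← map_mul, hxy.xx, map_one]
      · rw [← map_mul, hxy.yy, map_one]
      · rw [← map_mul, ← map_mul, hxy.comm]
    have hbX : ∀ z ∈ X, b * z * b⁻¹ ∈ BP F := by
      intro z hz
      have h1 : b * z * b⁻¹ ∈ cj b X := by
        rw [mem_cj]
        have : b⁻¹ * (b * z * b⁻¹) * b = z := by group
        rwa [this]
      exact (hb h1).1
    exact no_klein_BP h2 (hbX _ (hmem x hx)) (hbX _ (hmem y hy)) (cj_commInv b hxy')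
  · have hcomm := dihedral_three (e' ⟨_, hXY (hthree px px_cube)⟩)
      (e' ⟨_, hXY (hthree py py_cube)⟩)
      (by
        rw [← map_pow, map_eq_one_iff _ e'.injective]
        exact Subtype.ext (hpow px px_cube))
      (by
        rw [← map_pow, map_eq_one_iff _ e'.injective]
        exact Subtype.ext (hpow py py_cube))
    rw [← map_mul, ← map_mul] at hcomm
    have h1 := congrArg Subtype.val (e'.injective hcomm)
    have h3 : (e.symm px) * (e.symm py) = (e.symm py) * (e.symm px) := Subtype.ext h1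
    rw [← map_mul, ← map_mul] at h3
    exact pxy_ne (e.symm.injective h3)
  · rcases h1 with ⟨⟨e1⟩⟩ | ⟨⟨e1⟩⟩ | ⟨⟨e1⟩⟩
    · have hXc : Nat.card X = 12 := by rw [Nat.card_congr e1.toEquiv, card_A4]
      omega
    · have h3 : (X.comap (ta : PSL F →* PGL F)).map ta = X := by
        rw [Subgroup.map_comap_eq, inf_eq_right]
        exact hX.le
      have h4 := (Cfsg.Agent.S0803.result (F := F) rfl).mp
        ⟨X.comap ta, ⟨(mapTaEquiv _).trans ((MulEquiv.subgroupCongr h3).trans e1)⟩⟩
      rw [Nat.pow_mod] at h4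
      have h6 : Fintype.card F % 16 = 3 ∨ Fintype.card F % 16 = 5 ∨ Fintype.card F % 16 = 11 ∨
        Fintype.card F % 16 = 13 := by omega
      rcases h6 with h6 | h6 | h6 | h6 <;> rw [h6] at h4 <;> norm_num at h4
    · have hXc : Nat.card X = 60 := by rw [Nat.card_congr e1.toEquiv, card_A5]
      have hlag : 60 ∣ Nat.card (LL F) := by
        rw [← hXc]
        exact Subgroup.card_dvd_of_le hX.le
      have h6 : Fintype.card F ^ 3 % 5 = Fintype.card F % 5 := by
        rw [← hLL]
        omega
      have h7 : Fintype.card F % 5 < 5 := Nat.mod_lt _ (by norm_num)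
      have h9 : Fintype.card F % 5 = 0 := by
        rw [Nat.pow_mod] at h6
        obtain ⟨h41, h42⟩ := h40
        generalize Fintype.card F % 5 = z at *
        interval_cases z <;> simp_all
      have h10 : 5 ∣ p := by
        rw [← hq]
        exact Nat.dvd_of_mod_eq_zero h9
      have h11 : p = 5 :=
        ((Nat.prime_dvd_prime_iff_eq Nat.prime_five Fact.out).mp h10).symm
      rw [hq, h11] at hLL
      omega
  · omega
  · have hr := card_subfield_pow k'
    have hr1 : 1 < Nat.card k' := Finite.one_lt_card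
    have hd : Nat.card k' ∣ p := by
      have hm : Module.finrank k' F ≠ 0 := by
        intro h
        rw [h, pow_zero] at hr
        omega
      rw [← hq, ← Nat.card_eq_fintype_card (α := F), ← hr]
      exact dvd_pow_self _ hm
    rcases (Nat.dvd_prime Fact.out).mp hd with h | h
    · omega
    · rw [Nat.card_eq_fintype_card (α := F)] at hk'
      omega

/-- Case of subfields. -/
theorem meet_sub [Fintype F] (p : ℕ) [Fact p.Prime] [CharP F p]
    (hodd : Odd (Fintype.card F)) (h5 : 5 ≤ Fintype.card F) {k : Subfield F} {r : ℕ}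
    (hr : r.Prime) (hrodd : Odd r) (hkr : Nat.card k ^ r = Nat.card F)
    {D X : Subgroup (PGL F)} {b : PGL F} (hb : cj b D = PS k)
    (hDX : D < X) (hX : X < LL F) : False := by
  have hp : p.Prime := Fact.out
  obtain ⟨n, -, hn⟩ := FiniteField.card F p
  have hdvd : Nat.card D ∣ Nat.card X := Subgroup.card_dvd_of_le hDX.le
  have h2D := two_mul_le_of_lt hDX
  have hLL := two_card_LL hodd
  have hk1 : 1 < Nat.card k := Finite.one_lt_card
  have hodd' := Nat.odd_iff.mp hodd
  -- powers of `p`
  have hpow : ∀ k' : Subfield F, ∃ a, 0 < a ∧ Nat.card k' = p ^ a ∧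
      a * Module.finrank k' F = n := by
    intro k'
    have h1 := card_subfield_pow k'
    rw [Nat.card_eq_fintype_card (α := F), hn] at h1
    have hm : Module.finrank k' F ≠ 0 := by
      intro h
      rw [h, pow_zero] at h1
      have : 1 < p ^ (n : ℕ) := Nat.one_lt_pow n.ne_zero hp.one_lt
      omega
    have h2 : Nat.card k' ∣ p ^ (n : ℕ) := by
      rw [← h1]
      exact dvd_pow_self _ hm
    obtain ⟨a, -, ha⟩ := (Nat.dvd_prime_pow hp).mp h2
    have hk1' : 1 < Nat.card k' := Finite.one_lt_card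
    refine ⟨a, ?_, ha, ?_⟩
    · rw [Nat.pos_iff_ne_zero]
      rintro rfl
      rw [ha, pow_zero] at hk1'
      omega
    · rw [ha, ← pow_mul] at h1
      exact Nat.pow_right_injective hp.two_le h1
  obtain ⟨a, ha0, ha, ham⟩ := hpow k
  have hmr : Module.finrank k F = r := by
    have h1 := card_subfield_pow k
    rw [← hkr] at h1
    exact Nat.pow_right_injective hk1 h1
  rw [hmr] at ham
  have hcD : 2 * Nat.card D = Nat.card k * (Nat.card k ^ 2 - 1) := by
    letI : Fintype k := Fintype.ofFinite k
    rw [← card_cj b D, hb, two_card_PS hodd, card_PG, card_PGL2,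
      Nat.card_eq_fintype_card (α := k)]
  have hk3 : 3 ≤ Nat.card k := by
    obtain ⟨j, hj⟩ := odd_subfield hodd k
    omega
  have hpD : p ∣ Nat.card D := by
    have h1 : p ∣ 2 * Nat.card D := by
      rw [hcD, ha]
      exact Dvd.dvd.mul_right (dvd_pow_self p ha0.ne') _
    have h2 : Nat.Coprime p 2 := by
      rw [Nat.coprime_comm, Nat.coprime_two_left]
      by_contra hcon
      rw [Nat.not_odd_iff_even] at hcon
      have h4 : Even (Fintype.card F) := by
        rw [hn]
        exact hcon.pow_of_ne_zero n.ne_zero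
      exact (Nat.not_odd_iff_even.mpr h4) hodd
    exact h2.dvd_of_dvd_mul_left h1
  have hpq : p ∣ Fintype.card F := by
    rw [hn]
    exact dvd_pow_self p n.ne_zero
  rcases proper_cases p hodd h5 hX with ⟨b', hb'⟩ | ⟨Y, k', hXY, ⟨e'⟩, hk'⟩ | ⟨h1, -⟩ |
    ⟨h3, ⟨e1⟩⟩ | ⟨k', b', hk', hb'⟩
  · -- `r₀² - 1 ∣ q - 1`
    have h1 : Nat.card X ∣ Nat.card (BP F ⊓ LL F : Subgroup (PGL F)) := by
      rw [← card_cj b' X]
      exact Subgroup.card_dvd_of_le hb'
    have h2 := two_card_BPL (F := F) hodd
    have h3 : Nat.card k ^ 2 - 1 ∣ Fintype.card F * (Fintype.card F - 1) := by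
      rw [← h2]
      refine Dvd.dvd.trans ?_ (Nat.mul_dvd_mul_left 2 (hdvd.trans h1))
      rw [hcD]
      exact dvd_mul_left _ _
    have hcop : Nat.Coprime (Nat.card k ^ 2 - 1) (Fintype.card F) := by
      rw [← Nat.card_eq_fintype_card (α := F), ← hkr]
      apply Nat.Coprime.pow_right
      have h3 : 1 < Nat.card k ^ 2 := Nat.one_lt_pow two_ne_zero hk1
      have h4 : Nat.Coprime (Nat.card k ^ 2 - 1) (Nat.card k ^ 2) := by
        rw [Nat.coprime_comm, Nat.coprime_self_sub_right h3.le]
        exact Nat.coprime_one_right _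
      exact Nat.Coprime.coprime_dvd_right (dvd_pow_self _ two_ne_zero) h4
    have h4 := hcop.dvd_of_dvd_mul_left h3
    have h6 : Nat.card k + 1 ∣ Fintype.card F - 1 := by
      refine Dvd.dvd.trans ?_ h4
      have : Nat.card k ^ 2 - 1 = (Nat.card k + 1) * (Nat.card k - 1) := by
        simpa using Nat.sq_sub_sq (Nat.card k) 1
      rw [this]
      exact dvd_mul_right _ _
    have h7 : Nat.card k + 1 ∣ Fintype.card F + 1 := by
      rw [← Nat.card_eq_fintype_card (α := F), ← hkr]
      have := hrodd.nat_add_dvd_pow_add_pow (Nat.card k) 1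
      rwa [one_pow] at this
    have h8 : Nat.card k + 1 ∣ 2 := by
      have := Nat.dvd_sub h7 h6
      have h9 : Fintype.card F + 1 - (Fintype.card F - 1) = 2 := by omega
      rwa [h9] at this
    have := Nat.le_of_dvd (by norm_num) h8
    omega
  · have h1 : Nat.card X ∣ Nat.card Y := Subgroup.card_dvd_of_le hXY
    rw [Nat.card_congr e'.toEquiv, DihedralGroup.nat_card] at h1
    have h2 : p ∣ 2 * k' := hpD.trans (hdvd.trans h1)
    have h8 : p ∣ 1 := by
      rcases hk' with hk' | hk'
      · rw [hk'] at h2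
        have := Nat.dvd_sub hpq h2
        have h9 : Fintype.card F - (Fintype.card F - 1) = 1 := by omega
        rwa [h9] at this
      · rw [hk'] at h2
        exact (Nat.dvd_add_right hpq).mp h2
    exact hp.one_lt.ne' (Nat.dvd_one.mp h8)
  · exact h1 (hpD.trans hdvd)
  · -- `A₅` in characteristic three
    have hXc : Nat.card X = 60 := by rw [Nat.card_congr e1.toEquiv, card_A5]
    have ha1 : a = 1 := by
      by_contra hcon
      have ha2 : 2 ≤ a := by omega
      have h9 : 9 ≤ Nat.card k := by
        rw [ha, h3]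
        calc 9 = 3 ^ 2 := by norm_num
          _ ≤ 3 ^ a := Nat.pow_le_pow_right (by norm_num) ha2
      have h10 : 80 ≤ Nat.card k ^ 2 - 1 := by
        have : 81 ≤ Nat.card k ^ 2 := by nlinarith
        omega
      have h11 : 9 * 80 ≤ Nat.card k * (Nat.card k ^ 2 - 1) := Nat.mul_le_mul h9 h10
      omega
    have hlag : 60 ∣ Nat.card (LL F) := by
      rw [← hXc]
      exact Subgroup.card_dvd_of_le hX.le
    have h6 : Fintype.card F ^ 3 % 5 = Fintype.card F % 5 := by
      rw [← hLL]
      omega
    have h7 : Fintype.card F % 5 = 3 ∨ Fintype.card F % 5 = 2 := by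
      rw [← Nat.card_eq_fintype_card (α := F), ← hkr, ha, ha1, h3, pow_one]
      obtain ⟨j, hj⟩ := hrodd
      rw [hj, pow_succ, pow_mul, Nat.mul_mod, Nat.pow_mod]
      norm_num
      rcases Nat.even_or_odd j with hj' | hj'
      · left
        obtain ⟨i, rfl⟩ := hj'
        have : 4 ^ (i + i) % 5 = 1 := by
          rw [← two_mul, pow_mul, Nat.pow_mod]
          norm_num
        omega
      · right
        obtain ⟨i, rfl⟩ := hj'
        have : 4 ^ (2 * i + 1) % 5 = 4 := by
          rw [pow_succ, pow_mul, Nat.mul_mod, Nat.pow_mod]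
          norm_num
        rw [Nat.mul_mod, this]
    rw [Nat.pow_mod] at h6
    rcases h7 with h7 | h7 <;> rw [h7] at h6 <;> norm_num at h6
  · obtain ⟨a', ha0', ha', ham'⟩ := hpow k'
    have hcX := card_dvd_PG hb'
    have h1 : Nat.card k ^ 2 - 1 ∣ 2 * (Nat.card k' ^ 2 - 1) := by
      have h2 : Nat.card k ^ 2 - 1 ∣ Nat.card k' * (2 * (Nat.card k' ^ 2 - 1)) := by
        have h3 : Nat.card k' * (2 * (Nat.card k' ^ 2 - 1)) =
            2 * (Nat.card k' * (Nat.card k' ^ 2 - 1)) := by ring
        rw [h3]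
        refine Dvd.dvd.trans ?_ (Nat.mul_dvd_mul_left 2 (hdvd.trans hcX))
        rw [hcD]
        exact dvd_mul_left _ _
      have hcop : Nat.Coprime (Nat.card k ^ 2 - 1) (Nat.card k') := by
        rw [ha']
        apply Nat.Coprime.pow_right
        have h3 : 1 < Nat.card k ^ 2 := Nat.one_lt_pow two_ne_zero hk1
        have h4 : Nat.Coprime (Nat.card k ^ 2 - 1) (Nat.card k ^ 2) := by
          rw [Nat.coprime_comm, Nat.coprime_self_sub_right h3.le]
          exact Nat.coprime_one_right _
        refine Nat.Coprime.coprime_dvd_right ?_ h4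
        rw [ha]
        exact (dvd_pow_self p ha0.ne').trans (dvd_pow_self _ two_ne_zero)
      exact hcop.dvd_of_dvd_mul_left h2
    have h2 : a ∣ a' := by
      apply dvd_of_sub_one_dvd hp.two_le ha0
      rw [ha, ha', ← pow_mul, ← pow_mul, mul_comm a, mul_comm a'] at h1
      exact h1
    obtain ⟨s, hs⟩ := h2
    have hsr : s ∣ r := by
      have h3 : a * (s * Module.finrank k' F) = a * r := by
        rw [ham, ← ham', hs]; ring
      have h4 := Nat.eq_of_mul_eq_mul_left ha0 h3
      exact ⟨_, h4.symm⟩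
    rcases (Nat.dvd_prime hr).mp hsr with h3 | h3
    · -- same field
      rw [h3, mul_one] at hs
      have hkk : Nat.card k' = Nat.card k := by rw [ha', ha, hs]
      have hX2 : cj b' X = PG k' := by
        rcases hb' with h4 | h4
        · exfalso
          have h6 : 2 * Nat.card X = Nat.card k * (Nat.card k ^ 2 - 1) := by
            letI : Fintype k' := Fintype.ofFinite k'
            rw [← card_cj b' X, h4, two_card_PS hodd, card_PG, card_PGL2,
              ← Nat.card_eq_fintype_card (α := k'), hkk]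
          have h7 : 0 < Nat.card D := Nat.card_pos
          omega
        · exact h4
      have hle : PG k' ≤ LL F := by
        rw [← hX2, ← cj_normal b' (LL F)]
        exact cj_mono b' hX.le
      letI : Fintype k' := Fintype.ofFinite k'
      have heven : Even r := by
        apply Cfsg.Agent.S0805.even_of_exists_pgl (K := k') hodd hr.one_lt.le
          (by rw [← Nat.card_eq_fintype_card, ← Nat.card_eq_fintype_card (α := F), hkk, hkr])
        refine ⟨(PG k').comap ta, ?_⟩
        obtain ⟨e⟩ := nonempty_PG k'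
        have h1 : ((PG k').comap (ta : PSL F →* PGL F)).map ta = PG k' := by
          rw [Subgroup.map_comap_eq, inf_eq_right]
          exact hle
        exact ⟨(mapTaEquiv _).trans ((MulEquiv.subgroupCongr h1).trans e)⟩
      exact (Nat.not_even_iff_odd.mpr hrodd) heven
    · rw [h3] at hs
      rw [ha', hs, ham, Nat.card_eq_fintype_card (α := F), hn] at hk'
      exact lt_irrefl _ hk'

theorem coatom_subgroupOf {G : Type*} [Group G] {D L : Subgroup G} (h : D ⋖ L) :
    IsCoatom (D.subgroupOf L) := by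
  constructor
  · intro h1
    rw [Subgroup.subgroupOf_eq_top] at h1
    exact h.lt.not_ge h1
  · intro X hX
    by_contra hne
    have h1 : X.map L.subtype < L := by
      refine lt_of_le_of_ne (Subgroup.map_subtype_le X) ?_
      intro h2
      apply hne
      apply Subgroup.map_injective L.subtype_injective
      rw [h2, ← MonoidHom.range_eq_map, Subgroup.range_subtype]
    have h2 : D < X.map L.subtype := by
      have h3 : (D.subgroupOf L).map L.subtype = D := by
        rw [Subgroup.subgroupOf_map_subtype, inf_eq_left]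
        exact h.le
      refine lt_of_le_of_ne ?_ ?_
      · rw [← h3]
        exact Subgroup.map_mono hX.le
      · intro h4
        apply hX.ne
        apply Subgroup.map_injective L.subtype_injective
        rw [h3, h4]
    exact h.2 h2 h1

theorem meet_main [Fintype F] (h4 : 4 ≤ Fintype.card F) (h7 : Fintype.card F ≠ 7)
    (h9 : Fintype.card F ≠ 9) (h11 : Fintype.card F ≠ 11)
    (h40 : (Fintype.card F).Prime → Fintype.card F % 40 ∉ ({11, 19, 21, 29} : Finset ℕ))
    (M : Subgroup (PGL F)) (hM : IsCoatom M) (hML : ¬ LL F ≤ M) :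
    M ⊓ LL F ⋖ LL F := by
  rcases Nat.even_or_odd (Fintype.card F) with he | hodd
  · rw [LL_eq_top_even he, inf_top_eq]
    exact covBy_top_iff.mpr hM
  · obtain ⟨p, hp⟩ := CharP.exists F
    haveI : Fact p.Prime := ⟨CharP.char_is_prime F p⟩
    have h5 : 5 ≤ Fintype.card F := by
      have := Nat.odd_iff.mp hodd
      omega
    have hM' : M ⋖ ⊤ := covBy_top_iff.mpr hM
    have hML' : ¬ M ≤ LL F := by
      intro hle
      have h1 : M = LL F := by
        by_contra hne
        exact hM'.2 (lt_of_le_of_ne hle hne) (lt_top_iff_ne_top.mpr (LL_ne_top hodd))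
      exact hML (by rw [h1])
    refine ⟨lt_of_le_of_ne inf_le_right (fun h => hML (inf_eq_right.mp h)), ?_⟩
    intro X hDX hX
    rcases odd_pgl_conj p hodd (by omega) M hM' hML with ⟨b, hb⟩ | ⟨k, hk, ⟨e⟩⟩ |
      ⟨hq, h8, ⟨e⟩⟩ | ⟨k, r, b, hr, hrodd, hkr, hb⟩
    · apply meet_borel p hodd h5 h9 (D := M ⊓ LL F) ?_ hDX hX
      have h1 : cj b (M ⊓ LL F) = BP F ⊓ LL F := by rw [cj_inf, hb, cj_normal]
      rw [← two_card_BPL hodd, ← h1, card_cj]
    · exact meet_dihedral p hodd h5 h7 h9 h11 e hk hDX hX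
    · have h12 : Fintype.card F % 5 ≠ 1 ∧ Fintype.card F % 5 ≠ 4 := by
        have h13 := h40 (by rw [hq]; exact Fact.out)
        simp only [Finset.mem_insert, Finset.mem_singleton, not_or] at h13
        omega
      exact meet_s4 p hodd h5 hq h8 h12 e hML' hDX hX
    · have h1 : cj b (M ⊓ LL F) = PG k ⊓ LL F := by rw [cj_inf, hb, cj_normal]
      have h2 : cj b (M ⊓ LL F) = PS k := by
        rcases between (k := k) (le_inf (PS_le_PG _) (PS_le_LL _)) inf_le_left with h | h
        · rw [h1, h]
        · exfalso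
          apply hML'
          have h3 : PG k ≤ LL F := inf_eq_left.mp h
          rw [← hb, ← cj_normal b (LL F), cj_le_cj] at h3
          exact h3
      exact meet_sub p hodd h5 hr hrodd hkr h2 hDX hX

end

end Cfsg.Agent.H937
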