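import Cfsg.Agent.H931.L2CuspMain
import Cfsg.Agent.H464.L2TrF

/-!
# Representations of `SL₂(q)` of degree `q + 1` in cross characteristic: the order of `λ` (helper937)

`prin_order`: for `ρ : SL₂(K) →* GL ι F` absolutely irreducible, `card ι = |K| + 1`, `char F = p ∤ |K|`, there is
`d ∣ q - 1` (the order of the torus character) prime to `p`, `d ≠ 1, 2`, such that the traces are fixed by
`x ↦ x^(p^e)` iff `p^e ≡ ± 1 (mod d)`; `ρ(-1) = 1` iff `d ∣ (q-1)/2` (`q` odd).
-/

set_option autoImplicit false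
set_option linter.unusedSectionVars false

namespace Cfsg.Agent.H937.T2

open Matrix Module Cfsg Cfsg.Geo Cfsg.Agent.H464.Sl2 Cfsg.Agent.H931.L2T Cfsg.Agent.H915.LD

section Main

variable {K : Type*} [Field K] [Fintype K] {k : Type*} [Field k] {V : Type*} [AddCommGroup V]
  [Module k V] [FiniteDimensional k V] (R : SpecialLinearGroup (Fin 2) K →* Module.End k V)

theorem hw_prin {ψ : AddChar K k} {v : V} {lam : Kˣ →* k} (h : Hw R ψ v lam) : Prin R v lam := ⟨h.ne, h.u, h.tor⟩

/-- The traces, over an algebraically closed field. -/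
theorem prin_traces [IsAlgClosed k] (hK : (Fintype.card K : k) ≠ 0) (h4 : 4 ≤ Fintype.card K)
    (hspan : Submodule.span k (Set.range R) = ⊤) (hn : finrank k V = Fintype.card K + 1) :
    ∃ θ ε : k, θ ^ (Fintype.card K - 1) = 1 ∧ θ ^ 2 ≠ 1 ∧ R (t (-1)) = ε • 1 ∧ (ε = 1 ∨ ε = -1) ∧
      (∀ m : ℕ, 2 * m + 1 = Fintype.card K → θ ^ m = ε) ∧
      (∀ g, (∃ z : ℤ, LinearMap.trace k V (R g) = z) ∨ ∃ m : ℕ, LinearMap.trace k V (R g) = θ ^ m + θ⁻¹ ^ m) ∧
      ∃ g, LinearMap.trace k V (R g) = θ + θ⁻¹ := by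
  classical
  obtain ⟨ψ, hψ⟩ := exists_prim (K := K) hK
  have hR : R ≠ 1 := by
    rintro rfl
    have h1 : (Set.range (1 : SpecialLinearGroup (Fin 2) K →* Module.End k V)) ⊆ {1} := by
      rintro _ ⟨g, rfl⟩
      rfl
    have h2 : (⊤ : Submodule k (Module.End k V)) ≤ Submodule.span k {1} := by
      rw [← hspan]
      exact Submodule.span_mono h1
    have h3 := (Submodule.finrank_mono h2).trans (finrank_span_le_card _)
    rw [finrank_top, Module.finrank_linearMap, hn, Set.toFinset_singleton, Finset.card_singleton] at h3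
    nlinarith
  have hall : ∀ b : K, b ≠ 0 → finrank k (LinearMap.range (E R ψ b)) = 1 := by
    rcases dim_cases R hψ hK hspan hR with ⟨h, -⟩ | ⟨-, h⟩
    · exact h
    · exfalso
      omega
  have h2 : finrank k (LinearMap.range (E R ψ 0)) = 2 := by
    have h1 := finrank_eq R hψ hK
    rw [Finset.sum_congr rfl fun b hb => hall b (Finset.ne_of_mem_erase hb), Finset.sum_const,
      Finset.card_erase_of_mem (Finset.mem_univ _), Finset.card_univ, smul_eq_mul, mul_one] at h1
    omega
  obtain ⟨v, lam, h⟩ := exists_hw hψ hK (R := R) (fun h0 => by rw [h0, finrank_bot] at h2; omega)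
  obtain ⟨g₀, hg₀⟩ := IsCyclic.exists_generator (α := Kˣ)
  have hpow : ∀ a : Kˣ, ∃ m : ℕ, a = g₀ ^ m := by
    intro a
    obtain ⟨m, hm⟩ := (isOfFinOrder_of_finite g₀).mem_powers_iff_mem_zpowers.2 (hg₀ a)
    exact ⟨m, hm.symm⟩
  have ho : orderOf g₀ = Fintype.card K - 1 := by
    rw [orderOf_eq_card_of_forall_mem_zpowers hg₀, Nat.card_eq_fintype_card, Fintype.card_units]
  obtain ⟨ε, hε⟩ := scalar_of_comm R hspan (Z := R (t (-1))) (fun g => by
    rw [← map_mul, ← map_mul, t_sq_central (by simp)])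
  have hεl : lam (-1) = ε := by
    have h3 := h.tor (-1)
    rw [hε, LinearMap.smul_apply, Module.End.one_apply] at h3
    have h5 : (ε - lam (-1)) • v = 0 := by rw [sub_smul, h3, sub_self]
    exact (sub_eq_zero.1 ((smul_eq_zero.1 h5).resolve_right h.ne)).symm
  have hε2 : ε = 1 ∨ ε = -1 := by
    rw [← mul_self_eq_one_iff, ← hεl, ← map_mul]
    simp
  refine ⟨lam g₀, ε, ?_, ?_, hε, hε2, ?_, ?_, ?_⟩
  · rw [← map_pow, ← ho, pow_orderOf_eq_one, map_one]
  · intro h0
    obtain ⟨a, ha⟩ := h.exists_sq_ne hψ hK hspan h2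
    obtain ⟨m, rfl⟩ := hpow a
    apply ha
    rw [map_pow, ← pow_mul, mul_comm, pow_mul, h0, one_pow]
  · intro m hm
    rw [← map_pow, ← hεl]
    congr 1
    have h3 : (g₀ ^ m) ^ 2 = 1 := by
      rw [← pow_mul]
      have : m * 2 = orderOf g₀ := by omega
      rw [this, pow_orderOf_eq_one]
    have h5 : g₀ ^ m ≠ 1 := by
      intro h6
      have := orderOf_dvd_of_pow_eq_one h6
      rw [ho] at this
      have := Nat.le_of_dvd (by omega) this
      omega
    have h6 : ((g₀ ^ m : Kˣ) : K) * ((g₀ ^ m : Kˣ) : K) = 1 := by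
      rw [← Units.val_mul, ← sq, h3, Units.val_one]
    rcases mul_self_eq_one_iff.1 h6 with h7 | h7
    · exact absurd (Units.ext h7) h5
    · exact Units.ext h7
  · intro g
    by_cases ht : mt g ^ 2 - 4 = 0
    · exact Or.inl (trace_int_of_pm R hψ hK hall hε2 hε g ht)
    · by_cases hs : ∀ x : K, x * x - mt g * x + 1 ≠ 0
      · left
        refine ⟨0, ?_⟩
        rw [(hw_prin R h).trace_nonsplit hψ hK hspan hn hs]
        simp
      · push Not at hs
        obtain ⟨a, ha⟩ := hs
        right
        have ha0 : a ≠ 0 := by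
          rintro rfl
          simp at ha
        have h5 : mt g = a + a⁻¹ := by
          field_simp
          linear_combination -ha
        have h6 : mt (t (Units.mk0 a ha0)) = mt g := by
          rw [mt_t, h5]
          simp
        have h7 : (Units.mk0 a ha0) ^ 2 ≠ 1 := by
          intro h
          have h8 : a ^ 2 = 1 := by
            have := congrArg Units.val h
            simpa using this
          apply ht
          rw [h5]
          field_simp
          linear_combination (a ^ 2 - 1) * h8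
        have h8 := trace_eq_X R (t (Units.mk0 a ha0)) (by rw [h6]; exact ht)
        rw [h6, ← trace_eq_X R g ht] at h8
        obtain ⟨m, hm⟩ := hpow (Units.mk0 a ha0)
        refine ⟨m, ?_⟩
        rw [← h8]
        have h9 := chi_t R hψ hK h7
        rw [h.trace_two hψ hK hspan h2] at h9
        unfold chi at h9
        rw [h9, hm, map_pow, inv_pow]
  · refine ⟨t g₀, ?_⟩
    have h7 : g₀ ^ 2 ≠ 1 := by
      intro h
      have := Nat.le_of_dvd (by norm_num) (orderOf_dvd_of_pow_eq_one h)
      omega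
    have h9 := chi_t R hψ hK h7
    rw [h.trace_two hψ hK hspan h2] at h9
    exact h9

end Main

section Final

variable {ι : Type} [Fintype ι] [DecidableEq ι] {F : Type*} [Field F] (p : ℕ) [hp : Fact p.Prime] [CharP F p]

/-- **The order of `λ`.** -/
theorem prin_order {K : Type*} [Field K] [Fintype K] (h4 : 4 ≤ Fintype.card K) (hpK : ¬ p ∣ Fintype.card K)
    (ρ : SpecialLinearGroup (Fin 2) K →* GL ι F) (habs : ActsAbsolutelyIrreducibly (matrixSet ρ.range))
    (hn : Fintype.card ι = Fintype.card K + 1) :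
    ∃ d : ℕ, d ∣ Fintype.card K - 1 ∧ ¬ p ∣ d ∧ ¬ d ∣ 2 ∧
      (∀ e : ℕ, Fr ρ.range (p ^ e) ↔ (d ∣ p ^ e - 1 ∨ d ∣ p ^ e + 1)) ∧
      (∀ m : ℕ, 2 * m + 1 = Fintype.card K → (ρ (t (-1)) = 1 ↔ d ∣ m)) ∧
      (ρ (t (-1)) = 1 ∨ (ρ (t (-1)) : Matrix ι ι F) = -1) := by
  classical
  let k := AlgebraicClosure F
  have : CharP k p := charP_of_injective_algebraMap (algebraMap F k).injective p
  have hK : (Fintype.card K : k) ≠ 0 := fun h => hpK ((CharP.cast_eq_zero_iff k p _).1 h)
  obtain ⟨θ, ε, h1, h2, h5, h6, h7, h8, g₀, h9⟩ := prin_traces (extI ρ k) hK h4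
    (span_extI ρ k (span_eq_topI ρ habs)) (by
      rw [Module.finrank_fintype_fun_eq_card]
      exact hn)
  have hθ0 : θ ≠ 0 := by
    rintro rfl
    rw [zero_pow (by omega)] at h1
    exact zero_ne_one h1
  have hε : (ε = 1 ↔ ρ (t (-1)) = 1) ∧ (ρ (t (-1)) = 1 ∨ (ρ (t (-1)) : Matrix ι ι F) = -1) := by
    have hne : Nonempty ι := by
      rw [← Fintype.card_pos_iff]
      omega
    have h10 : Matrix.toLin' ((ρ (t (-1)) : Matrix ι ι F).map (algebraMap F k)) = ε • (1 : Module.End k (ι → k)) := by
      rw [← extI_apply]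
      exact h5
    have h11 : ((ρ (t (-1)) : Matrix ι ι F).map (algebraMap F k)) = ε • (1 : Matrix ι ι k) := by
      apply Matrix.toLin'.injective
      rw [h10, map_smul, Matrix.toLin'_one]
      rfl
    have h12 : ∀ c : F, algebraMap F k c = ε → (ρ (t (-1)) : Matrix ι ι F) = c • 1 := by
      intro c hc
      ext i j
      apply (algebraMap F k).injective
      have h13 := congrFun (congrFun h11 i) j
      rw [Matrix.map_apply] at h13
      rw [h13, Matrix.smul_apply, Matrix.smul_apply, smul_eq_mul, smul_eq_mul, map_mul, hc]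
      congr 1
      by_cases hij : i = j
      · rw [hij, Matrix.one_apply_eq, Matrix.one_apply_eq, map_one]
      · rw [Matrix.one_apply_ne hij, Matrix.one_apply_ne hij, map_zero]
    constructor
    · constructor
      · intro h
        apply Units.ext
        rw [h12 1 (by rw [map_one, h]), one_smul, Units.val_one]
      · intro h
        obtain ⟨i⟩ := hne
        have h13 := congrFun (congrFun h11 i) i
        rw [h, Matrix.map_apply, Units.val_one, Matrix.one_apply_eq, map_one, Matrix.smul_apply,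
          Matrix.one_apply_eq, smul_eq_mul, mul_one] at h13
        exact h13.symm
    · rcases h6 with h | h
      · left
        apply Units.ext
        rw [h12 1 (by rw [map_one, h]), one_smul, Units.val_one]
      · right
        rw [h12 (-1) (by rw [map_neg, map_one, h]), neg_smul, one_smul]
  refine ⟨orderOf θ, orderOf_dvd_of_pow_eq_one h1, not_dvd_orderOf p (by omega) h1, ?_, ?_, ?_, hε.2⟩
  · intro h
    exact h2 (orderOf_dvd_iff_pow_eq_one.1 h)
  · intro e
    rw [← pow_add_inv_iff p e hθ0]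
    have hinj := (algebraMap F k).injective
    constructor
    · intro h
      have h10 := h (ρ g₀) ⟨g₀, rfl⟩
      have h11 := congrArg (algebraMap F k) h10
      rwa [map_pow, ← trace_extI, h9] at h11
    · rintro h _ ⟨g, rfl⟩
      apply hinj
      rw [map_pow, ← trace_extI]
      have hz : ∀ z : ℤ, (z : k) ^ p ^ e = z := by
        intro z
        have h10 := map_intCast (iterateFrobenius k p e) z
        rwa [iterateFrobenius_def] at h10
      rcases h8 g with ⟨z, hz'⟩ | ⟨m, hm⟩
      · rw [hz', hz]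
      · rw [hm, inv_pow, pow_add_inv_iff p e (pow_ne_zero _ hθ0)]
        have h11 : orderOf (θ ^ m) ∣ orderOf θ := orderOf_pow_dvd m
        rcases (pow_add_inv_iff p e hθ0).1 h with h12 | h12
        · exact Or.inl (h11.trans h12)
        · exact Or.inr (h11.trans h12)
  · intro m hm
    rw [← hε.1, ← h7 m hm, orderOf_dvd_iff_pow_eq_one]

end Final

end Cfsg.Agent.H937.T2
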