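import Cfsg.Agent.H937.T2Eight
import Cfsg.Agent.H937.T2Prin
import Cfsg.Agent.H830.Sl2Type
import Cfsg.Agent.H875.PslRows
import Cfsg.Agent.H914.SixBase

/-!
# `A₅`, `A₆`: fields and forms (helper937)

`Core P`, `F` of characteristic `p`.

* `A₆`, `n = 8`, `p ≠ 3`: `a6_eight_fr : Fr P (p^k) ↔ p = 5 ∨ 5 ∣ p^k - 1 ∨ 5 ∣ p^k + 1`; `a6_eight_card`: `|F| = p` if
  `p = 5` or `p ≡ ± 1 (mod 5)`, `|F| = p²` if `p ≡ ± 2 (mod 5)`; `a6_eight_five` : `p = 5` ⟹ `FixQ`, not `FixA`;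
  `sp_eight_a6` : the row of `Sp₈`, `p` odd;
* `A₆`, `n = 10`, `p ≠ 3`: `a6_ten : p ≠ 2 ∧ (FixQ P ∧ ¬ FixA P ∧ Fr P p ∨ FixA P ∧ ¬ FixQ P ∧ …)`; `sp_ten_a6` : the row
  of `Sp₁₀`;
* `A₅`, `n = 6`, `p ≠ 5`: `a5_six : p ≠ 2 ∧ FixA P ∧ ¬ FixQ P ∧ |F| = p`; `sp_six_a5` : the row of `Sp₆`.
-/

set_option autoImplicit false
set_option linter.unusedSectionVars false

namespace Cfsg.Agent.H937.T2

open Matrix Module Cfsg Cfsg.Geo Cfsg.Agent.H464.Sl2 Cfsg.Agent.H931.L2T Cfsg.Agent.H915.LD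

universe u' v'

section general

variable {ι : Type} [Fintype ι] [DecidableEq ι] {F : Type u'} [Field F] {P : Subgroup (GL ι F)}
  (p : ℕ) [hp : Fact p.Prime] [CharP F p]

theorem card_pow_of [Fintype F] : ∃ m : ℕ, m ≠ 0 ∧ Fintype.card F = p ^ m := by
  obtain ⟨m, -, h⟩ := FiniteField.card F p
  exact ⟨m, m.2.ne', h⟩

include hp in
/-- `|F| = p²` -/
theorem card_sq [Fintype F] (hC : Core P) (h1 : ¬ Fr P (p ^ 1)) (h2 : Fr P (p ^ 2)) : Fintype.card F = p ^ 2 := by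
  have h3 := hC.card_le p two_ne_zero h2
  obtain ⟨m, hm0, hm⟩ := card_pow_of (F := F) p
  have h4 : m ≤ 2 := by
    rw [hm] at h3
    exact (Nat.pow_le_pow_iff_right hp.out.one_lt).1 h3
  have h5 : m ≠ 1 := by
    rintro rfl
    apply h1
    intro g _
    rw [← hm]
    exact FiniteField.pow_card _
  rw [hm]
  congr 1
  omega

end general

section rep

variable {ι : Type} [Fintype ι] [DecidableEq ι] {F : Type u'} [Field F] [Finite F] {P : Subgroup (GL ι F)}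
  (p : ℕ) [hp : Fact p.Prime] [CharP F p]

theorem range_ne_one {E : Type v'} [Field E] {ρ : SpecialLinearGroup (Fin 2) E →* GL ι F} (hC : Core ρ.range) :
    ρ ≠ 1 := by
  intro h
  apply hC.nonabelian
  have h3 : Subsingleton ρ.range := by
    constructor
    rintro ⟨_, x, rfl⟩ ⟨_, y, rfl⟩
    subst h
    rfl
  exact ⟨⟨fun a b => by
    induction a using QuotientGroup.induction_on with
    | H a =>
      induction b using QuotientGroup.induction_on with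
      | H b => rw [Subsingleton.elim a b]⟩⟩

/-- `-1 = 1` or not -/
theorem fix_iff (hp2 : p ≠ 2) {E : Type v'} [Field E] [Fintype E] (hE : ¬ p ∣ Fintype.card E)
    {ρ : SpecialLinearGroup (Fin 2) E →* GL ι F} (hρ : ρ.range = P) (hC : Core P) (hsd : SD P) :
    (ρ (t (-1)) = 1 → FixQ P ∧ ¬ FixA P) ∧ (ρ (t (-1)) ≠ 1 → FixA P ∧ ¬ FixQ P) := by
  have h2 : (2 : F) ≠ 0 := by exact_mod_cast prime_ne_zero (F := F) p Nat.prime_two hp2
  have hK : (Fintype.card E : F) ≠ 0 := fun h => hE ((CharP.cast_eq_zero_iff F p _).1 h)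
  obtain ⟨h3, h4⟩ := Cfsg.Agent.H830.Sl2Form.sl2_type h2 hK ρ hρ hC
  exact ⟨fun h => ⟨(h3 h).2 hsd, (h3 h).1⟩, fun h => ⟨(h4 h).2 hsd, (h4 h).1⟩⟩

end rep

section six

variable {ι : Type} [Fintype ι] [DecidableEq ι] {F : Type u'} [Field F] [Fintype F] {P : Subgroup (GL ι F)}
  (p : ℕ) [hp : Fact p.Prime] [CharP F p]

theorem a6_not_dvd_nine (hp3 : p ≠ 3) {K : Type} [Fintype K] (hK : Fintype.card K = 9) : ¬ p ∣ Fintype.card K := by
  rw [hK, show 9 = 3 ^ 2 by norm_num]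
  intro h
  exact hp3 ((Nat.prime_dvd_prime_iff_eq hp.out Nat.prime_three).1 (hp.out.dvd_of_dvd_pow h))

include hp in
/-- `A₆` in dimension eight. -/
theorem a6_eight_data (hp3 : p ≠ 3) (hC : Core P) (h8 : Fintype.card ι = 8) (e : Soc P ≃* alternatingGroup (Fin 6)) :
    ∃ d : ℕ, (d = 5 ∨ d = 10 ∨ (d = 1 ∧ p = 5)) ∧ ¬ p ∣ d ∧
      (∀ k : ℕ, Fr P (p ^ k) ↔ (d ∣ p ^ k - 1 ∨ d ∣ p ^ k + 1)) ∧
      (p ≠ 2 → (d ∣ 5 → FixQ P ∧ ¬ FixA P) ∧ (¬ d ∣ 5 → FixA P ∧ ¬ FixQ P)) := by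
  obtain ⟨K, _, _, hK, _, ⟨f⟩⟩ := exists_nine e
  have h3 : ¬ 3 ∣ Nat.card ((scalars ι F).subgroupOf P) := not_dvd_scalars hC Nat.prime_three (by rw [h8]; norm_num)
  obtain ⟨ρ, hρ, -⟩ := exists_rep hC Nat.prime_three (by omega)
    (((Nat.Prime.coprime_iff_not_dvd Nat.prime_three).2 h3).symm) f
  have hsd := a6_sd hC e h3
  have hne : ρ ≠ 1 := range_ne_one (by rw [hρ]; exact hC)
  have habs : ActsAbsolutelyIrreducibly (matrixSet ρ.range) := by rw [hρ]; exact hC.absIrred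
  have hpK := a6_not_dvd_nine p hp3 hK
  obtain ⟨d, hd, hpd, hd2, hd1, hfr, hcen, -⟩ := cusp_order p (K := K) (by omega) hpK ρ hne habs (by omega)
  rw [hK] at hd hd1 hcen
  refine ⟨d, ?_, hpd, ?_, ?_⟩
  · have h10 : d ∈ Nat.divisors 10 := by rw [Nat.mem_divisors]; exact ⟨hd, by norm_num⟩
    have h11 : Nat.divisors 10 = {1, 2, 5, 10} := by decide
    rw [h11] at h10
    simp only [Finset.mem_insert, Finset.mem_singleton] at h10
    rcases h10 with h | h | h | h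
    · right; right
      refine ⟨h, ?_⟩
      obtain ⟨h12, h13⟩ := hd1 h
      have h14 : p ∈ Nat.divisors 10 := by rw [Nat.mem_divisors]; exact ⟨h12, by norm_num⟩
      rw [h11] at h14
      simp only [Finset.mem_insert, Finset.mem_singleton] at h14
      rcases h14 with h | h | h | h
      · exact absurd h hp.out.one_lt.ne'
      · exact absurd h h13
      · exact h
      · exfalso
        have := hp.out
        rw [h] at this
        revert this
        norm_num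
    · exact absurd h hd2
    · exact Or.inl h
    · exact Or.inr (Or.inl h)
  · intro k
    rw [← hρ]
    exact hfr k
  · intro hp2
    obtain ⟨h4, h5⟩ := fix_iff p hp2 hpK hρ hC hsd
    have h6 := hcen hp2 5 rfl
    exact ⟨fun h => h4 (h6.2 h), fun h => h5 (fun h7 => h (h6.1 h7))⟩

theorem dvd_ten_iff (hp2 : p ≠ 2) (k : ℕ) : (10 ∣ p ^ k - 1 ∨ 10 ∣ p ^ k + 1) ↔ (5 ∣ p ^ k - 1 ∨ 5 ∣ p ^ k + 1) := by
  have h1 : (p ^ k) % 2 = 1 := by
    have h2 := hp.out.eq_two_or_odd.resolve_left hp2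
    rw [Nat.pow_mod, h2, one_pow]
    rfl
  omega

include hp in
theorem a6_eight_fr (hp3 : p ≠ 3) (hC : Core P) (h8 : Fintype.card ι = 8) (e : Soc P ≃* alternatingGroup (Fin 6))
    (k : ℕ) : Fr P (p ^ k) ↔ (p = 5 ∨ 5 ∣ p ^ k - 1 ∨ 5 ∣ p ^ k + 1) := by
  obtain ⟨d, hd, hpd, hfr, -⟩ := a6_eight_data p hp3 hC h8 e
  rw [hfr]
  rcases hd with rfl | rfl | ⟨rfl, hp5⟩
  · constructor
    · exact Or.inr
    · rintro (rfl | h)
      · exact absurd (dvd_refl _) hpd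
      · exact h
  · have hp2 : p ≠ 2 := by
      rintro rfl
      exact hpd (by norm_num)
    rw [dvd_ten_iff p hp2]
    constructor
    · exact Or.inr
    · rintro (rfl | h)
      · exact absurd (by norm_num) hpd
      · exact h
  · exact ⟨fun _ => Or.inl hp5, fun _ => Or.inl (one_dvd _)⟩

theorem sq_mod_five (h : p ≠ 5) : (p % 5 = 1 ∨ p % 5 = 4) ∨ (p % 5 = 2 ∨ p % 5 = 3) := by
  have h1 : p % 5 ≠ 0 := by
    intro h0
    exact h ((Nat.prime_dvd_prime_iff_eq Nat.prime_five hp.out).1 (Nat.dvd_of_mod_eq_zero h0)).symm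
  omega

include hp in
/-- the field -/
theorem a6_eight_card (hp3 : p ≠ 3) (hC : Core P) (h8 : Fintype.card ι = 8) (e : Soc P ≃* alternatingGroup (Fin 6)) :
    (Fintype.card F = p ∧ (p = 5 ∨ p % 5 = 1 ∨ p % 5 = 4)) ∨ (Fintype.card F = p ^ 2 ∧ (p % 5 = 2 ∨ p % 5 = 3)) := by
  have hfr := a6_eight_fr p hp3 hC h8 e
  have hpos := hp.out.pos
  by_cases h5 : p = 5
  · left
    refine ⟨hC.card_eq p ?_, Or.inl h5⟩
    have := (hfr 1).2 (Or.inl h5)
    rwa [pow_one] at this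
  · rcases sq_mod_five p h5 with h | h
    · left
      refine ⟨hC.card_eq p ?_, Or.inr h⟩
      have := (hfr 1).2 (Or.inr (by rw [pow_one]; omega))
      rwa [pow_one] at this
    · right
      refine ⟨card_sq p hC ?_ ?_, h⟩
      · rw [hfr 1, pow_one]
        omega
      · rw [hfr 2]
        right; right
        rw [Nat.dvd_iff_mod_eq_zero, Nat.add_mod, Nat.pow_mod]
        rcases h with h | h <;> rw [h]

include hp in
/-- characteristic five: orthogonal -/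
theorem a6_eight_five (hp5 : p = 5) (hC : Core P) (h8 : Fintype.card ι = 8) (e : Soc P ≃* alternatingGroup (Fin 6)) :
    FixQ P ∧ ¬ FixA P := by
  obtain ⟨d, hd, hpd, -, hf⟩ := a6_eight_data p (by omega) hC h8 e
  rcases hd with rfl | rfl | ⟨rfl, -⟩
  · subst hp5
    exact absurd (dvd_refl _) hpd
  · subst hp5
    exact absurd (by norm_num) hpd
  · exact (hf (by omega)).1 (one_dvd _)

include hp in
/-- the row of `Sp₈`, `p` odd -/
theorem a6_eight_fixA (hp2 : p ≠ 2) (hp3 : p ≠ 3) (hC : Core P) (h8 : Fintype.card ι = 8)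
    (e : Soc P ≃* alternatingGroup (Fin 6)) (hA : FixA P) :
    (Fintype.card F = p ∧ (p % 20 = 1 ∨ p % 20 = 9 ∨ p % 20 = 11 ∨ p % 20 = 19)) ∨
      (Fintype.card F = p ^ 2 ∧ (p % 5 = 2 ∨ p % 5 = 3)) := by
  have hodd := hp.out.eq_two_or_odd.resolve_left hp2
  rcases a6_eight_card p hp3 hC h8 e with ⟨h1, h2⟩ | h
  · left
    refine ⟨h1, ?_⟩
    rcases h2 with h2 | h2
    · exact absurd hA (a6_eight_five p h2 hC h8 e).2
    · omega
  · exact Or.inr h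

include hp in
/-- `A₆` in dimension ten. -/
theorem a6_ten_data (hp3 : p ≠ 3) (hC : Core P) (h10 : Fintype.card ι = 10) (e : Soc P ≃* alternatingGroup (Fin 6)) :
    p ≠ 2 ∧ ∃ d : ℕ, (d = 4 ∨ d = 8) ∧
      (∀ k : ℕ, Fr P (p ^ k) ↔ (d ∣ p ^ k - 1 ∨ d ∣ p ^ k + 1)) ∧
      (d = 4 → FixQ P ∧ ¬ FixA P) ∧ (d = 8 → FixA P ∧ ¬ FixQ P) := by
  obtain ⟨K, _, _, hK, _, ⟨f⟩⟩ := exists_nine e
  have h3 : ¬ 3 ∣ Nat.card ((scalars ι F).subgroupOf P) := not_dvd_scalars hC Nat.prime_three (by rw [h10]; norm_num)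
  obtain ⟨ρ, hρ, -⟩ := exists_rep hC Nat.prime_three (by omega)
    (((Nat.Prime.coprime_iff_not_dvd Nat.prime_three).2 h3).symm) f
  have hsd := a6_sd hC e h3
  have habs : ActsAbsolutelyIrreducibly (matrixSet ρ.range) := by rw [hρ]; exact hC.absIrred
  have hpK := a6_not_dvd_nine p hp3 hK
  obtain ⟨d, hd, hpd, hd2, hfr, hcen, -⟩ := prin_order p (K := K) (by omega) hpK ρ habs (by omega)
  rw [hK] at hd hcen
  have hd8 : d = 4 ∨ d = 8 := by
    have h10 : d ∈ Nat.divisors 8 := by rw [Nat.mem_divisors]; exact ⟨hd, by norm_num⟩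
    have h11 : Nat.divisors 8 = {1, 2, 4, 8} := by decide
    rw [h11] at h10
    simp only [Finset.mem_insert, Finset.mem_singleton] at h10
    rcases h10 with rfl | rfl | h | h
    · exact absurd (one_dvd _) hd2
    · exact absurd (dvd_refl _) hd2
    · exact Or.inl h
    · exact Or.inr h
  have hp2 : p ≠ 2 := by
    rintro rfl
    rcases hd8 with rfl | rfl <;> exact hpd (by norm_num)
  obtain ⟨h4, h5⟩ := fix_iff p hp2 hpK hρ hC hsd
  have h6 := hcen 4 rfl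
  refine ⟨hp2, d, hd8, ?_, ?_, ?_⟩
  · intro k
    rw [← hρ]
    exact hfr k
  · rintro rfl
    exact h4 (h6.2 (dvd_refl _))
  · rintro rfl
    refine h5 (fun h7 => ?_)
    have := h6.1 h7
    revert this
    norm_num

include hp in
/-- **`A₆` in dimension ten.** -/
theorem a6_ten (hp3 : p ≠ 3) (hC : Core P) (h10 : Fintype.card ι = 10) (e : Soc P ≃* alternatingGroup (Fin 6)) :
    p ≠ 2 ∧ ((FixQ P ∧ ¬ FixA P ∧ Fintype.card F = p) ∨
      (FixA P ∧ ¬ FixQ P ∧ ((Fintype.card F = p ∧ (p % 8 = 1 ∨ p % 8 = 7)) ∨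
        (Fintype.card F = p ^ 2 ∧ (p % 8 = 3 ∨ p % 8 = 5))))) := by
  obtain ⟨hp2, d, hd, hfr, h4, h8⟩ := a6_ten_data p hp3 hC h10 e
  have hodd := hp.out.eq_two_or_odd.resolve_left hp2
  have hpos := hp.out.pos
  refine ⟨hp2, ?_⟩
  rcases hd with rfl | rfl
  · left
    obtain ⟨h5, h6⟩ := h4 rfl
    refine ⟨h5, h6, hC.card_eq p ?_⟩
    have := (hfr 1).2 (by rw [pow_one]; omega)
    rwa [pow_one] at this
  · right
    obtain ⟨h5, h6⟩ := h8 rfl
    refine ⟨h5, h6, ?_⟩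
    have h7 : (p % 8 = 1 ∨ p % 8 = 7) ∨ (p % 8 = 3 ∨ p % 8 = 5) := by omega
    rcases h7 with h | h
    · left
      refine ⟨hC.card_eq p ?_, h⟩
      have := (hfr 1).2 (by rw [pow_one]; omega)
      rwa [pow_one] at this
    · right
      refine ⟨card_sq p hC ?_ ?_, h⟩
      · rw [hfr 1, pow_one]
        omega
      · rw [hfr 2]
        left
        have h9 : p ^ 2 % 8 = 1 := by
          rw [Nat.pow_mod]
          rcases h with h | h <;> rw [h]
        omega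

include hp in
/-- the row of `Sp₁₀` -/
theorem a6_ten_fixA (hp3 : p ≠ 3) (hC : Core P) (h10 : Fintype.card ι = 10)
    (e : Soc P ≃* alternatingGroup (Fin 6)) (hA : FixA P) : p ≠ 2 ∧
    ((Fintype.card F = p ∧ (p % 16 = 1 ∨ p % 16 = 7 ∨ p % 16 = 9 ∨ p % 16 = 15)) ∨
      (Fintype.card F = p ^ 2 ∧ (p % 8 = 3 ∨ p % 8 = 5))) := by
  obtain ⟨hp2, ⟨-, h, -⟩ | ⟨-, -, h⟩⟩ := a6_ten p hp3 hC h10 e
  · exact absurd hA h
  · refine ⟨hp2, ?_⟩
    rcases h with ⟨h1, h2⟩ | h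
    · left
      exact ⟨h1, by omega⟩
    · exact Or.inr h

end six

section five

variable {ι : Type} [Fintype ι] [DecidableEq ι] {F : Type u'} [Field F] [Fintype F] {P : Subgroup (GL ι F)}
  (p : ℕ) [hp : Fact p.Prime] [CharP F p]

include hp in
/-- **`A₅` in dimension six.** -/
theorem a5_six_full (hp5 : p ≠ 5) (hC : Core P) (h6 : Fintype.card ι = 6) (e : Soc P ≃* alternatingGroup (Fin 5)) :
    p ≠ 2 ∧ FixA P ∧ ¬ FixQ P ∧ Fintype.card F = p ∧ (-1 : GL ι F) ∈ P := by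
  have hsd := a5_sd hC e
  have : Fact (Nat.Prime 5) := ⟨Nat.prime_five⟩
  obtain ⟨f⟩ := Cfsg.Agent.S0253.result (F := ZMod 5) (ZMod.card 5)
  have h3 : ¬ 5 ∣ Nat.card ((scalars ι F).subgroupOf P) := not_dvd_scalars hC Nat.prime_five (by rw [h6]; norm_num)
  have hK := ZMod.card 5
  obtain ⟨ρ, hρ, -⟩ := exists_rep hC (K := ZMod 5) Nat.prime_five (by omega)
    (((Nat.Prime.coprime_iff_not_dvd Nat.prime_five).2 h3).symm) (e.trans f.symm)
  have habs : ActsAbsolutelyIrreducibly (matrixSet ρ.range) := by rw [hρ]; exact hC.absIrred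
  have hpK : ¬ p ∣ Fintype.card (ZMod 5) := by
    rw [hK]
    intro h
    exact hp5 ((Nat.prime_dvd_prime_iff_eq hp.out Nat.prime_five).1 h)
  obtain ⟨d, hd, hpd, hd2, hfr, hcen, hpm⟩ := prin_order p (K := ZMod 5) (by omega) hpK ρ habs (by omega)
  rw [hK] at hd hcen
  have hd4 : d = 4 := by
    have h10 : d ∈ Nat.divisors 4 := by rw [Nat.mem_divisors]; exact ⟨hd, by norm_num⟩
    have h11 : Nat.divisors 4 = {1, 2, 4} := by decide
    rw [h11] at h10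
    simp only [Finset.mem_insert, Finset.mem_singleton] at h10
    rcases h10 with rfl | rfl | h
    · exact absurd (one_dvd _) hd2
    · exact absurd (dvd_refl _) hd2
    · exact h
  subst hd4
  have hp2 : p ≠ 2 := by
    rintro rfl
    exact hpd (by norm_num)
  have hodd := hp.out.eq_two_or_odd.resolve_left hp2
  have hpos := hp.out.pos
  obtain ⟨h4, h5⟩ := fix_iff p hp2 hpK hρ hC hsd
  have hne : ρ (t (-1)) ≠ 1 := fun h7 => by
    have := (hcen 2 rfl).1 h7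
    revert this
    norm_num
  obtain ⟨h7, h8⟩ := h5 hne
  refine ⟨hp2, h7, h8, hC.card_eq p ?_, ?_⟩
  · have := (hfr 1).2 (by rw [pow_one]; omega)
    rw [pow_one, hρ] at this
    exact this
  · rw [← hρ]
    refine ⟨t (-1), ?_⟩
    apply Units.ext
    rw [hpm.resolve_left hne]
    rfl

include hp in
theorem a5_six (hp5 : p ≠ 5) (hC : Core P) (h6 : Fintype.card ι = 6) (e : Soc P ≃* alternatingGroup (Fin 5)) :
    p ≠ 2 ∧ FixA P ∧ ¬ FixQ P ∧ Fintype.card F = p := by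
  obtain ⟨h1, h2, h3, h4, -⟩ := a5_six_full p hp5 hC h6 e
  exact ⟨h1, h2, h3, h4⟩

end five

/-! ### rows -/

section rows

variable {F : Type u'} [Field F] [Fintype F] (p : ℕ) [hp : Fact p.Prime] [CharP F p]

theorem fixA_of_le {m : ℕ} {P : Subgroup (GL (Fin m ⊕ Fin m) F)} (h : P ≤ spGL m F) : FixA P :=
  ⟨sympForm m F, H924.isSymplecticForm_sympForm, H914.S6.fixes_of_le h⟩

theorem fixA_of_spGL {m : ℕ} {H P : Subgroup (GL (Fin m ⊕ Fin m) F)} (hH : IsMaximalIn (spGL m F) H)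
    (hc : IsResidualCore H P) : FixA P := fixA_of_le (hc.le.trans hH.1.le)

theorem card_sum_fin (m : ℕ) : Fintype.card (Fin m ⊕ Fin m) = 2 * m := by
  rw [Fintype.card_sum, Fintype.card_fin]
  ring

include hp in
/-- the row `A₅` of `Sp₆` -/
theorem sp_six_a5 {H P : Subgroup (GL (Fin 3 ⊕ Fin 3) F)} (hH : IsMaximalIn (spGL 3 F) H) (hc : IsResidualCore H P)
    (e : Soc P ≃* alternatingGroup (Fin 5)) : p ≠ 2 ∧ p ≠ 5 ∧ Fintype.card F = p := by
  have hp5 : p ≠ 5 := by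
    rintro rfl
    have : Fact (Nat.Prime 5) := ⟨Nat.prime_five⟩
    obtain ⟨f⟩ := Cfsg.Agent.S0253.result (F := ZMod 5) (ZMod.card 5)
    have h := (H875.PslRows.sp_six 5 hH hc (e.trans f.symm)).2
    omega
  obtain ⟨h1, -, -, h2⟩ := a5_six p hp5 (core_of_residual hc) (card_sum_fin 3) e
  exact ⟨h1, hp5, h2⟩

include hp in
/-- `A₅` in `Sp₆` -/
theorem sp_six_a5_neg {H P : Subgroup (GL (Fin 3 ⊕ Fin 3) F)} (hH : IsMaximalIn (spGL 3 F) H)
    (hc : IsResidualCore H P) (e : Soc P ≃* alternatingGroup (Fin 5)) :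
    p ≠ 2 ∧ p ≠ 5 ∧ Fintype.card F = p ∧ (-1 : GL (Fin 3 ⊕ Fin 3) F) ∈ P := by
  obtain ⟨h1, h2, h3⟩ := sp_six_a5 p hH hc e
  exact ⟨h1, h2, h3, (a5_six_full p h2 (core_of_residual hc) (card_sum_fin 3) e).2.2.2.2⟩

include hp in
/-- the row `A₆` of `Sp₈`, `p` odd -/
theorem sp_eight_a6 (hp2 : p ≠ 2) {H P : Subgroup (GL (Fin 4 ⊕ Fin 4) F)} (hH : IsMaximalIn (spGL 4 F) H)
    (hc : IsResidualCore H P) (e : Soc P ≃* alternatingGroup (Fin 6)) :
    (Fintype.card F = p ∧ (p % 20 = 1 ∨ p % 20 = 19 ∨ p % 20 = 9 ∨ p % 20 = 11)) ∨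
      (Fintype.card F = p ^ 2 ∧ p ≠ 2 ∧ p ≠ 3 ∧ (p % 5 = 2 ∨ p % 5 = 3)) := by
  have hp3 : p ≠ 3 := by
    rintro rfl
    obtain ⟨K, _, _, hK, _, ⟨f⟩⟩ := exists_nine e
    rcases H875.PslRows.sp_eight 3 hH hc f with ⟨-, h⟩ | h
    · omega
    · rw [hK] at h
      have h1 : 2 ≤ Fintype.card F := Fintype.one_lt_card
      have h2 : Fintype.card F < 3 := by
        by_contra h3
        have := Nat.pow_le_pow_left (not_lt.1 h3) 3
        omega
      have h3 : Fintype.card F = 2 := by omega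
      rw [h3] at h
      omega
  rcases a6_eight_fixA p hp2 hp3 (core_of_residual hc) (card_sum_fin 4) e (fixA_of_spGL hH hc) with ⟨h, h'⟩ | ⟨h, h'⟩
  · exact Or.inl ⟨h, by omega⟩
  · exact Or.inr ⟨h, hp2, hp3, h'⟩

include hp in
/-- the row `A₆` of `Sp₁₀` -/
theorem sp_ten_a6 {H P : Subgroup (GL (Fin 5 ⊕ Fin 5) F)} (hH : IsMaximalIn (spGL 5 F) H)
    (hc : IsResidualCore H P) (e : Soc P ≃* alternatingGroup (Fin 6)) :
    (Fintype.card F = p ∧ (p % 16 = 1 ∨ p % 16 = 15 ∨ p % 16 = 7 ∨ p % 16 = 9)) ∨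
      (Fintype.card F = p ^ 2 ∧ p ≠ 3 ∧ (p % 8 = 3 ∨ p % 8 = 5)) := by
  have hp3 : p ≠ 3 := by
    rintro rfl
    obtain ⟨K, _, _, hK, _, ⟨f⟩⟩ := exists_nine e
    have h := (H875.PslRows.sp_ten 3 hH hc f).2
    omega
  obtain ⟨-, ⟨h, h'⟩ | ⟨h, h'⟩⟩ := a6_ten_fixA p hp3 (core_of_residual hc) (card_sum_fin 5) e (fixA_of_spGL hH hc)
  · exact Or.inl ⟨h, by omega⟩
  · exact Or.inr ⟨h, hp3, h'⟩

end rows

end Cfsg.Agent.H937.T2
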