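import Cfsg.Agent.H937.T2Nine
import Cfsg.Agent.H931.L2Class

/-!
# `A₆` in dimension eight (helper937)

`|K| = 9`, `ρ : SL₂(K) → GL₈(F)` absolutely irreducible, `char F ≠ 3`:

* `sum_u` : `∑ x, ρ (u x) = 0` (the eight non-trivial characters of the Sylow 3-subgroup occur once each);
  `tr_u` : `tr (ρ (u x)) = -1` for `x ≠ 0`; `weights` : over an algebraically closed field;
* `plus_of_eight` : a fixed quadratic form is of plus type.
-/

set_option autoImplicit false
set_option linter.unusedSectionVars false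

namespace Cfsg.Agent.H937.T2

open Matrix Module Cfsg Cfsg.Geo Cfsg.Agent.H915.LD Cfsg.Agent.H464.Sl2
open Cfsg.Agent.LieClassical.OrthCore Cfsg.Agent.H931.L2T

universe u' v'

variable {ι : Type} [Fintype ι] [DecidableEq ι] {F : Type u'} [Field F] {P : Subgroup (GL ι F)}
  {E : Type v'} [Field E] {ρ : SpecialLinearGroup (Fin 2) E →* GL ι F}

section weights

variable [Fintype E]

/-- Dimension `q - 1`: the weights. -/
theorem weights (habs : ActsAbsolutelyIrreducibly (matrixSet ρ.range)) (hρ : ρ ≠ 1)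
    (hn : Fintype.card ι + 1 = Fintype.card E) (h5 : 4 ≤ Fintype.card E) (k : Type*) [Field k] [Algebra F k] [IsAlgClosed k]
    (hKk : (Fintype.card E : k) ≠ 0) {ψ : AddChar E k} (hψ : ψ.IsPrimitive) :
    Cfsg.Agent.H464.Sl2.E (extI ρ k) ψ 0 = 0 ∧
      ∀ b : E, b ≠ 0 → finrank k (LinearMap.range (Cfsg.Agent.H464.Sl2.E (extI ρ k) ψ b)) = 1 := by
  classical
  have hspan := span_extI ρ k (span_eq_topI ρ habs)
  have hne := extI_ne_one ρ k hρ
  have hfin : finrank k (ι → k) + 1 = Fintype.card E := by rw [Module.finrank_fintype_fun_eq_card, hn]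
  have h1 := dim_cases (extI ρ k) hψ hKk hspan hne
  have hall : ∀ b : E, b ≠ 0 → finrank k (LinearMap.range (Cfsg.Agent.H464.Sl2.E (extI ρ k) ψ b)) = 1 := by
    rcases h1 with h | h
    · exact h.1
    · omega
  refine ⟨?_, hall⟩
  have h2 := finrank_eq (extI ρ k) hψ hKk
  rw [Finset.sum_congr rfl (fun b hb => hall b (Finset.ne_of_mem_erase hb)), Finset.sum_const,
    Finset.card_erase_of_mem (Finset.mem_univ _), Finset.card_univ, smul_eq_mul, mul_one] at h2
  have hr0 : finrank k (LinearMap.range (Cfsg.Agent.H464.Sl2.E (extI ρ k) ψ 0)) = 0 := by omega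
  exact LinearMap.range_eq_bot.1 (Submodule.finrank_eq_zero.1 hr0)

theorem sum_u (habs : ActsAbsolutelyIrreducibly (matrixSet ρ.range)) (hρ : ρ ≠ 1)
    (hK : (Fintype.card E : F) ≠ 0) (hn : Fintype.card ι + 1 = Fintype.card E) (h5 : 4 ≤ Fintype.card E) :
    ∑ x : E, (ρ (u x) : Matrix ι ι F) = 0 := by
  let k := AlgebraicClosure F
  have hKk : (Fintype.card E : k) ≠ 0 := by
    intro h
    apply hK
    apply (algebraMap F k).injective
    rw [map_natCast, h, map_zero]
  obtain ⟨ψ, hψ⟩ := exists_prim (K := E) hKk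
  obtain ⟨h0, -⟩ := weights habs hρ hn h5 k hKk hψ
  unfold Cfsg.Agent.H464.Sl2.E at h0
  have h1 : ∑ x : E, extI ρ k (u x) = 0 := by
    have h6 : ∀ x : E, ψ (-(0 * x)) • extI ρ k (u x) = extI ρ k (u x) := fun x => by
      rw [zero_mul, neg_zero, AddChar.map_zero_eq_one, one_smul]
    rw [Finset.sum_congr rfl fun x _ => h6 x] at h0
    rcases smul_eq_zero.1 h0 with h | h
    · exact absurd h (inv_ne_zero hKk)
    · exact h
  have h4 : ∀ x : E, extI ρ k (u x) = Matrix.toLin' ((algebraMap F k).mapMatrix (ρ (u x) : Matrix ι ι F)) :=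
    fun x => rfl
  rw [Finset.sum_congr rfl fun x _ => h4 x, ← map_sum, ← map_sum] at h1
  have h2 := Matrix.toLin'.injective (h1.trans (map_zero _).symm)
  ext i j
  have h3 := congrFun (congrFun h2 i) j
  apply (algebraMap F k).injective
  rw [Matrix.zero_apply, map_zero]
  exact h3

/-- the trace of unipotent elements -/
theorem tr_u (habs : ActsAbsolutelyIrreducibly (matrixSet ρ.range)) (hρ : ρ ≠ 1)
    (hK : (Fintype.card E : F) ≠ 0) (hn : Fintype.card ι + 1 = Fintype.card E) (h5 : 4 ≤ Fintype.card E)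
    {x : E} (hx : x ≠ 0) : tr (ρ (u x)) = -1 := by
  let k := AlgebraicClosure F
  have hKk : (Fintype.card E : k) ≠ 0 := by
    intro h
    apply hK
    apply (algebraMap F k).injective
    rw [map_natCast, h, map_zero]
  obtain ⟨ψ, hψ⟩ := exists_prim (K := E) hKk
  obtain ⟨h0, hall⟩ := weights habs hρ hn h5 k hKk hψ
  have h1 := trace_u_ne hψ hKk (R := extI ρ k) hall hx
  rw [h0, LinearMap.range_zero, finrank_bot, Nat.cast_zero, zero_sub, trace_extI] at h1
  apply (algebraMap F k).injective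
  rw [h1, map_neg, map_one]

end weights

/-! ### plus type -/

section quad

variable {Q : (ι → F) → F}

theorem q_add (Q : (ι → F) → F) (v w : ι → F) : Q (v + w) = Q v + Q w + QuadraticMap.polar Q v w := by
  rw [QuadraticMap.polar]; ring

/-- `x² + x + 1 = 0` on `w`, `a² - a b + b² = -1` : `Q (a w + b x w) = - Q w` -/
theorem Q_lam (hQ : IsNondegenerateQuadraticForm Q) {X : Matrix ι ι F} (hX : ∀ v, Q (X *ᵥ v) = Q v) {w : ι → F}
    (hw : X *ᵥ (X *ᵥ w) + X *ᵥ w + w = 0) {a b : F} (hab : -(a ^ 2 - 1 * a * b + b ^ 2) = 1) :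
    Q (a • w + b • (X *ᵥ w)) = - Q w := by
  have h1 : X *ᵥ (X *ᵥ w) = (-1 : F) • (X *ᵥ w + w) := by
    rw [neg_one_smul, eq_neg_iff_add_eq_zero, ← add_assoc]
    exact hw
  have h2 : Q (X *ᵥ (X *ᵥ w)) = Q w := by rw [hX, hX]
  rw [h1, hQ.smul, q_add Q, hX] at h2
  rw [q_add Q, hQ.smul, hQ.smul, hX, hQ.polar_bilinear.smul_left, hQ.polar_bilinear.smul_right,
    QuadraticMap.polar_comm]
  linear_combination (a * b) * h2 - Q w * hab

/-- orthogonal sum of two planes `W`, `t W` -/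
theorem Q_pair (hQ : IsNondegenerateQuadraticForm Q) {X T : Matrix ι ι F} (hX : ∀ v, Q (X *ᵥ v) = Q v)
    (hT : ∀ v, Q (T *ᵥ v) = Q v) {w : ι → F}
    (hw : X *ᵥ (X *ᵥ w) + X *ᵥ w + w = 0) {a b : F} (hab : -(a ^ 2 - 1 * a * b + b ^ 2) = 1)
    (horth : QuadraticMap.polar Q w (T *ᵥ (a • w + b • (X *ᵥ w))) = 0) :
    Q (w + T *ᵥ (a • w + b • (X *ᵥ w))) = 0 := by
  rw [q_add Q, hT, Q_lam hQ hX hw hab, horth]
  ring

end quad

section plus

variable [Fintype E] [CharP E 3] (h9 : Fintype.card E = 9)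

/-- the average over `{0, a, -a}` -/
noncomputable def av (ρ : SpecialLinearGroup (Fin 2) E →* GL ι F) (a : E) : Matrix ι ι F :=
  (3 : F)⁻¹ • (1 + (ρ (u a) : Matrix ι ι F) + (ρ (u (-a)) : Matrix ι ι F))

theorem uu (x y : E) : (ρ (u x) : Matrix ι ι F) * (ρ (u y) : Matrix ι ι F) = (ρ (u (x + y)) : Matrix ι ι F) := by
  rw [← Units.val_mul, ← map_mul, ← u_add]

theorem three_eq (x : E) : x + x = -x := by
  have h3 : (3 : E) = 0 := by exact_mod_cast CharP.cast_eq_zero E 3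
  linear_combination x * h3

theorem u_zero' : (ρ (u 0) : Matrix ι ι F) = 1 := by rw [u_zero, map_one, Units.val_one]

theorem u_mul_av (a : E) : (ρ (u a) : Matrix ι ι F) * av ρ a = av ρ a := by
  unfold av
  rw [Matrix.mul_smul, Matrix.mul_add, Matrix.mul_add, Matrix.mul_one, uu, uu, three_eq, add_neg_cancel, u_zero']
  congr 1
  abel

theorem av_mul_u (a : E) : av ρ a * (ρ (u a) : Matrix ι ι F) = av ρ a := by
  unfold av
  rw [Matrix.smul_mul, Matrix.add_mul, Matrix.add_mul, Matrix.one_mul, uu, uu, three_eq, neg_add_cancel, u_zero']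
  congr 1
  abel

theorem av_mul_u_neg (a : E) : av ρ a * (ρ (u (-a)) : Matrix ι ι F) = av ρ a := by
  conv_lhs => rw [← av_mul_u (ρ := ρ) a]
  rw [Matrix.mul_assoc, uu, add_neg_cancel, u_zero', Matrix.mul_one]

theorem av_idem (h3 : (3 : F) ≠ 0) (a : E) : av ρ a * av ρ a = av ρ a := by
  have h1 : av ρ a * (1 + (ρ (u a) : Matrix ι ι F) + (ρ (u (-a)) : Matrix ι ι F)) = (3 : F) • av ρ a := by
    rw [Matrix.mul_add, Matrix.mul_add, Matrix.mul_one, av_mul_u, av_mul_u_neg]
    have : (3 : F) = 1 + 1 + 1 := by norm_num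
    rw [this, add_smul, add_smul, one_smul]
  conv_lhs => rhs; unfold av
  rw [Matrix.mul_smul, h1, smul_smul, inv_mul_cancel₀ h3, one_smul]

/-- `x² + x + 1 = 0` -/
theorem three_rel (x : E) (h3 : (3 : F) ≠ 0) :
    (ρ (u x) : Matrix ι ι F) * (ρ (u x) : Matrix ι ι F) + (ρ (u x) : Matrix ι ι F) + 1 = (3 : F) • av ρ x := by
  unfold av
  rw [smul_smul, mul_inv_cancel₀ h3, one_smul, uu, three_eq]
  abel

theorem T_mul_av (b : Eˣ) (a : E) : (ρ (t b) : Matrix ι ι F) * av ρ a = av ρ ((b : E) ^ 2 * a) * (ρ (t b) : Matrix ι ι F) := by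
  have h1 : ∀ a : E, (ρ (t b) : Matrix ι ι F) * (ρ (u a) : Matrix ι ι F) =
      (ρ (u ((b : E) ^ 2 * a)) : Matrix ι ι F) * (ρ (t b) : Matrix ι ι F) := by
    intro a
    rw [← Units.val_mul, ← map_mul, t_mul_u, map_mul, Units.val_mul]
  unfold av
  rw [Matrix.mul_smul, Matrix.smul_mul, Matrix.mul_add, Matrix.mul_add, Matrix.add_mul, Matrix.add_mul, Matrix.mul_one,
    Matrix.one_mul, h1, h1, mul_neg]

theorem av_neg (a : E) : av ρ (-a) = av ρ a := by
  unfold av
  rw [neg_neg]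
  congr 1
  abel

/-- the prime field -/
def cc (E : Type v') [Field E] [CharP E 3] : ZMod 3 →+* E := ZMod.castHom (dvd_refl 3) E

theorem cc_two : cc E 2 = -1 := by
  have h1 : (2 : ZMod 3) = -1 := by decide
  rw [h1, map_neg, map_one]

include h9 in
theorem sum_nine {M : Type*} [AddCommMonoid M] {a b : E}
    (hab : ∀ s t : ZMod 3, cc E s * a + cc E t * b = 0 → s = 0 ∧ t = 0) (f : E → M) :
    ∑ x : E, f x = f 0 + f a + f (-a) + (f b + f (a + b) + f (-a + b)) + (f (-b) + f (a - b) + f (-a - b)) := by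
  have hinj : Function.Injective (fun p : ZMod 3 × ZMod 3 => cc E p.1 * a + cc E p.2 * b) := by
    rintro ⟨s, t⟩ ⟨s', t'⟩ h
    have h1 : cc E (s - s') * a + cc E (t - t') * b = 0 := by
      simp only at h
      rw [map_sub, map_sub]
      linear_combination h
    obtain ⟨h2, h3⟩ := hab _ _ h1
    exact Prod.ext (sub_eq_zero.1 h2) (sub_eq_zero.1 h3)
  have hbij : Function.Bijective (fun p : ZMod 3 × ZMod 3 => cc E p.1 * a + cc E p.2 * b) :=
    (Fintype.bijective_iff_injective_and_card _).2 ⟨hinj, by rw [h9, Fintype.card_prod, ZMod.card]⟩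
  rw [← (Equiv.ofBijective _ hbij).sum_comp, Fintype.sum_prod_type_right]
  have h3 : ∀ g : ZMod 3 → M, ∑ s, g s = g 0 + g 1 + g 2 := fun g => Fin.sum_univ_three g
  rw [h3, h3, h3, h3]
  simp only [Equiv.ofBijective_apply, map_zero, map_one, cc_two, zero_mul, one_mul, zero_add, add_zero, neg_mul,
    sub_eq_add_neg]

include h9 in
theorem av_mul_av (hs : ∑ x : E, (ρ (u x) : Matrix ι ι F) = 0) {a b : E}
    (hab : ∀ s t : ZMod 3, cc E s * a + cc E t * b = 0 → s = 0 ∧ t = 0) : av ρ a * av ρ b = 0 := by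
  rw [sum_nine h9 hab] at hs
  unfold av
  simp only [Matrix.smul_mul, Matrix.mul_smul, Matrix.add_mul, Matrix.mul_add, Matrix.one_mul, Matrix.mul_one, uu]
  rw [u_zero'] at hs
  rw [sub_eq_add_neg, sub_eq_add_neg] at hs
  rw [← smul_add, ← smul_add, hs, smul_zero, smul_zero]

include h9 in
theorem exists_i : ∃ b : Eˣ, ((b : E) ^ 2) ^ 2 = -1 := by
  classical
  obtain ⟨g, hg⟩ := IsCyclic.exists_generator (α := Eˣ)
  have ho : orderOf g = 8 := by
    rw [orderOf_eq_card_of_forall_mem_zpowers hg, Nat.card_eq_fintype_card, Fintype.card_units, h9]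
  refine ⟨g, ?_⟩
  have h8 : g ^ 8 = 1 := by rw [← ho, pow_orderOf_eq_one]
  have h4 : g ^ 4 ≠ 1 := by
    intro h
    have := orderOf_dvd_of_pow_eq_one h
    rw [ho] at this
    omega
  have h8' : (g : E) ^ 8 = 1 := by rw [← Units.val_pow_eq_pow_val, h8, Units.val_one]
  have h4' : (g : E) ^ 4 ≠ 1 := fun h => h4 (Units.ext (by rw [Units.val_pow_eq_pow_val, h, Units.val_one]))
  have h : ((g : E) ^ 4 - 1) * ((g : E) ^ 4 + 1) = 0 := by linear_combination h8'
  have := (mul_eq_zero.1 h).resolve_left (sub_ne_zero.2 h4')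
  linear_combination this

theorem basis_i {i : E} (hi : i ^ 2 = -1) (s t : ZMod 3) (h : cc E s + cc E t * i = 0) : s = 0 ∧ t = 0 := by
  have h1 : cc E (s * s + t * t) = 0 := by
    rw [map_add, map_mul, map_mul]
    linear_combination (cc E s - cc E t * i) * h + (cc E t) ^ 2 * hi
  have h2 := (map_eq_zero (cc E)).1 h1
  have key : ∀ s t : ZMod 3, s * s + t * t = 0 → s = 0 ∧ t = 0 := by decide
  exact key s t h2

end plus

/-- an orthogonal idempotent and its complement of the same rank -/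
theorem rank_half {e T : Matrix ι ι F} (he : e * e = e) (hT : IsUnit T) (h : T * e = (1 - e) * T) :
    2 * e.rank = Fintype.card ι := by
  have hdet : IsUnit T.det := (Matrix.isUnit_iff_isUnit_det T).1 hT
  have h1 : (T * e).rank = e.rank := Matrix.rank_mul_eq_right_of_isUnit_det T e hdet
  have h2 : ((1 - e) * T).rank = (1 - e).rank := Matrix.rank_mul_eq_left_of_isUnit_det T (1 - e) hdet
  have h3 : (1 - e).rank = e.rank := by rw [← h2, ← h, h1]
  have h4 := LinearMap.finrank_range_add_finrank_ker e.mulVecLin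
  rw [Module.finrank_fintype_fun_eq_card] at h4
  have h5 : LinearMap.ker e.mulVecLin = LinearMap.range (1 - e).mulVecLin := by
    ext v
    rw [LinearMap.mem_ker, LinearMap.mem_range, Matrix.mulVecLin_apply]
    constructor
    · intro hv
      exact ⟨v, by rw [Matrix.mulVecLin_apply, Matrix.sub_mulVec, hv, Matrix.one_mulVec, sub_zero]⟩
    · rintro ⟨w, rfl⟩
      rw [Matrix.mulVecLin_apply, Matrix.mulVec_mulVec, Matrix.mul_sub, he, Matrix.mul_one, sub_self, Matrix.zero_mulVec]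
  rw [h5] at h4
  change e.rank + (1 - e).rank = _ at h4
  omega

section main

variable [Fintype E] [CharP E 3] (h9 : Fintype.card E = 9) {Q : (ι → F) → F}

theorem polar_u (hfix : FixesQuadForm (matrixSet ρ.range) Q) (g : SpecialLinearGroup (Fin 2) E) (v w : ι → F) :
    QuadraticMap.polar Q ((ρ g : Matrix ι ι F) *ᵥ v) ((ρ g : Matrix ι ι F) *ᵥ w) = QuadraticMap.polar Q v w := by
  have h := fun v => hfix _ ⟨ρ g, ⟨g, rfl⟩, rfl⟩ v
  rw [QuadraticMap.polar, QuadraticMap.polar, ← Matrix.mulVec_add, h, h, h]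

theorem polar_adj (hfix : FixesQuadForm (matrixSet ρ.range) Q) (a : E) (v w : ι → F) :
    QuadraticMap.polar Q ((ρ (u a) : Matrix ι ι F) *ᵥ v) w =
      QuadraticMap.polar Q v ((ρ (u (-a)) : Matrix ι ι F) *ᵥ w) := by
  rw [← polar_u (ρ := ρ) hfix (u (-a)), Matrix.mulVec_mulVec, uu, neg_add_cancel, u_zero', Matrix.one_mulVec]

theorem polar_av (hQ : IsNondegenerateQuadraticForm Q) (hfix : FixesQuadForm (matrixSet ρ.range) Q) (a : E)
    (v w : ι → F) : QuadraticMap.polar Q (av ρ a *ᵥ v) w = QuadraticMap.polar Q v (av ρ a *ᵥ w) := by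
  have hb := hQ.polar_bilinear
  unfold av
  rw [Matrix.smul_mulVec, Matrix.smul_mulVec, Matrix.add_mulVec, Matrix.add_mulVec, Matrix.add_mulVec,
    Matrix.add_mulVec, Matrix.one_mulVec, Matrix.one_mulVec, hb.smul_left, hb.smul_right, hb.add_left, hb.add_left,
    hb.add_right, hb.add_right, polar_adj hfix, polar_adj hfix, neg_neg]
  ring

theorem orth_av (hQ : IsNondegenerateQuadraticForm Q) (hfix : FixesQuadForm (matrixSet ρ.range) Q) {a b : E}
    (h : av ρ a * av ρ b = 0) (v w : ι → F) : QuadraticMap.polar Q (av ρ a *ᵥ v) (av ρ b *ᵥ w) = 0 := by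
  rw [polar_av hQ hfix, Matrix.mulVec_mulVec, h, Matrix.zero_mulVec]
  have hb := hQ.polar_bilinear
  have := hb.smul_right 0 v 0
  rwa [zero_smul, zero_mul] at this

include h9 in
/-- **Plus type.** -/
theorem plus_of_sum [Finite F] (h3 : (3 : F) ≠ 0) (hs : ∑ x : E, (ρ (u x) : Matrix ι ι F) = 0)
    (hQ : IsNondegenerateQuadraticForm Q) (hfix : FixesQuadForm (matrixSet ρ.range) Q) : IsPlusTypeOn Q ⊤ := by
  obtain ⟨β, hβ⟩ := exists_i h9
  set i : E := (β : E) ^ 2 with hi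
  have hb0 := basis_i hβ
  have dec : ∀ {a b : E} (f g : ZMod 3 → ZMod 3 → ZMod 3),
      (∀ s t, cc E s * a + cc E t * b = cc E (f s t) + cc E (g s t) * i) →
      (∀ s t, f s t = 0 → g s t = 0 → s = 0 ∧ t = 0) →
      ∀ s t : ZMod 3, cc E s * a + cc E t * b = 0 → s = 0 ∧ t = 0 := by
    intro a b f g h1 h2 s t h
    rw [h1] at h
    obtain ⟨h4, h5⟩ := hb0 _ _ h
    exact h2 s t h4 h5
  set T : Matrix ι ι F := (ρ (t β) : Matrix ι ι F) with hT
  set e1 := av ρ (1 : E) with he1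
  set e2 := av ρ i with he2
  set e3 := av ρ (1 + i) with he3
  set e4 := av ρ (1 - i) with he4
  have three : (3 : E) = 0 := by exact_mod_cast CharP.cast_eq_zero E 3
  have b12 : ∀ s t : ZMod 3, cc E s * 1 + cc E t * i = 0 → s = 0 ∧ t = 0 :=
    dec (fun s _ => s) (fun _ t => t) (fun s t => by ring) (by decide)
  have b13 : ∀ s t : ZMod 3, cc E s * 1 + cc E t * (1 + i) = 0 → s = 0 ∧ t = 0 :=
    dec (fun s t => s + t) (fun _ t => t) (fun s t => by rw [map_add]; ring) (by decide)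
  have b14 : ∀ s t : ZMod 3, cc E s * 1 + cc E t * (1 - i) = 0 → s = 0 ∧ t = 0 :=
    dec (fun s t => s + t) (fun _ t => -t) (fun s t => by rw [map_add, map_neg]; ring) (by decide)
  have b23 : ∀ s t : ZMod 3, cc E s * i + cc E t * (1 + i) = 0 → s = 0 ∧ t = 0 :=
    dec (fun s t => t) (fun s t => s + t) (fun s t => by rw [map_add]; ring) (by decide)
  have b24 : ∀ s t : ZMod 3, cc E s * i + cc E t * (1 - i) = 0 → s = 0 ∧ t = 0 :=
    dec (fun s t => t) (fun s t => s - t) (fun s t => by rw [map_sub]; ring) (by decide)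
  have b34 : ∀ s t : ZMod 3, cc E s * (1 + i) + cc E t * (1 - i) = 0 → s = 0 ∧ t = 0 :=
    dec (fun s t => s + t) (fun s t => s - t) (fun s t => by rw [map_add, map_sub]; ring) (by decide)
  have sw : ∀ {a b : E}, (∀ s t : ZMod 3, cc E s * a + cc E t * b = 0 → s = 0 ∧ t = 0) →
      ∀ s t : ZMod 3, cc E s * b + cc E t * a = 0 → s = 0 ∧ t = 0 := fun h s t h' => by
    rw [add_comm] at h'
    exact (h t s h').symm
  have m12 := av_mul_av h9 hs b12
  have m13 := av_mul_av h9 hs b13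
  have m14 := av_mul_av h9 hs b14
  have m23 := av_mul_av h9 hs b23
  have m24 := av_mul_av h9 hs b24
  have m34 := av_mul_av h9 hs b34
  have m21 := av_mul_av h9 hs (sw b12)
  have m31 := av_mul_av h9 hs (sw b13)
  have m41 := av_mul_av h9 hs (sw b14)
  have m32 := av_mul_av h9 hs (sw b23)
  have m42 := av_mul_av h9 hs (sw b24)
  have m43 := av_mul_av h9 hs (sw b34)
  rw [← he1, ← he2] at m12 m21
  rw [← he1, ← he3] at m13 m31
  rw [← he1, ← he4] at m14 m41
  rw [← he2, ← he3] at m23 m32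
  rw [← he2, ← he4] at m24 m42
  rw [← he3, ← he4] at m34 m43
  have i1 : e1 * e1 = e1 := av_idem h3 _
  have i2 : e2 * e2 = e2 := av_idem h3 _
  have i3 : e3 * e3 = e3 := av_idem h3 _
  have i4 : e4 * e4 = e4 := av_idem h3 _
  have hsum : e1 + e2 + e3 + e4 = 1 := by
    have h1 := hs
    rw [sum_nine h9 b12, u_zero'] at h1
    have h2 : (1 : E) + i = 1 + i := rfl
    rw [he1, he2, he3, he4]
    unfold av
    rw [← smul_add, ← smul_add, ← smul_add]
    have h4 : -(1 - i) = -1 + i := by ring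
    have h5 : -(1 + i) = -1 - i := by ring
    rw [h4, h5]
    have h6 : (1 + (ρ (u 1) : Matrix ι ι F) + (ρ (u (-1)) : Matrix ι ι F) +
        (1 + (ρ (u i) : Matrix ι ι F) + (ρ (u (-i)) : Matrix ι ι F)) +
        (1 + (ρ (u (1 + i)) : Matrix ι ι F) + (ρ (u (-1 - i)) : Matrix ι ι F)) +
        (1 + (ρ (u (1 - i)) : Matrix ι ι F) + (ρ (u (-1 + i)) : Matrix ι ι F))) = (3 : F) • (1 : Matrix ι ι F) := by
      have : (3 : F) = 1 + 1 + 1 := by norm_num
      rw [this, add_smul, add_smul, one_smul]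
      rw [← sub_eq_zero, ← h1]
      abel
    rw [h6, smul_smul, inv_mul_cancel₀ h3, one_smul]
  have hT1 : T * e1 = e2 * T := by
    rw [he1, T_mul_av, mul_one]
  have hT3 : T * e3 = e4 * T := by
    rw [he3, T_mul_av]
    have h1 : (β : E) ^ 2 * (1 + i) = -(1 - i) := by
      rw [← hi]
      linear_combination hβ
    rw [h1, av_neg]
  have hT2 : T * e2 = e1 * T := by
    rw [he2, T_mul_av, ← hi]
    have h1 : i * i = -1 := by rw [← pow_two, hβ]
    rw [h1, av_neg]
  have hT4 : T * e4 = e3 * T := by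
    rw [he4, T_mul_av, ← hi]
    have h1 : i * (1 - i) = 1 + i := by linear_combination -hβ
    rw [h1]
  -- the numbers
  obtain ⟨a, b, hab⟩ := H875.DefCov.exists_norm (E := F) 1 (Or.inr (by
    intro h
    apply h3
    linear_combination -h))
  set X1 : Matrix ι ι F := (ρ (u i) : Matrix ι ι F) with hX1
  set X3 : Matrix ι ι F := (ρ (u 1) : Matrix ι ι F) with hX3
  have hfx : ∀ (g : SpecialLinearGroup (Fin 2) E) (v : ι → F), Q ((ρ g : Matrix ι ι F) *ᵥ v) = Q v :=
    fun g v => hfix _ ⟨ρ g, ⟨g, rfl⟩, rfl⟩ v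
  have comm : ∀ x y : E, (ρ (u x) : Matrix ι ι F) * av ρ y = av ρ y * (ρ (u x) : Matrix ι ι F) := by
    intro x y
    unfold av
    rw [Matrix.mul_smul, Matrix.smul_mul, Matrix.mul_add, Matrix.mul_add, Matrix.add_mul, Matrix.add_mul,
      Matrix.mul_one, Matrix.one_mul, uu, uu, uu, uu, add_comm x y, add_comm x (-y)]
  set N1 : Matrix ι ι F := T * (a • 1 + b • X1) with hN1
  set N3 : Matrix ι ι F := T * (a • 1 + b • X3) with hN3
  have hcm : ∀ x y : E, (a • (1 : Matrix ι ι F) + b • (ρ (u x) : Matrix ι ι F)) * av ρ y =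
      av ρ y * (a • (1 : Matrix ι ι F) + b • (ρ (u x) : Matrix ι ι F)) := by
    intro x y
    rw [Matrix.add_mul, Matrix.smul_mul, Matrix.smul_mul, Matrix.one_mul, comm, Matrix.mul_add, Matrix.mul_smul,
      Matrix.mul_smul, Matrix.mul_one]
  have hN1e : N1 * e1 = e2 * N1 := by
    rw [hN1, ← Matrix.mul_assoc, ← hT1, Matrix.mul_assoc, Matrix.mul_assoc, hX1, he1, hcm]
  have hN3e : N3 * e3 = e4 * N3 := by
    rw [hN3, ← Matrix.mul_assoc, ← hT3, Matrix.mul_assoc, Matrix.mul_assoc, hX3, he3, hcm]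
  set M : Matrix ι ι F := e1 + e2 * N1 + (e3 + e4 * N3) with hM
  set e : Matrix ι ι F := e1 + e3 with he
  have hee : e * e = e := by
    rw [he, Matrix.add_mul, Matrix.mul_add, Matrix.mul_add, i1, i3, m13, m31, add_zero, zero_add]
  have heM : e * M = e := by
    have r1 : e1 * (e2 * N1) = 0 := by rw [← Matrix.mul_assoc, m12, Matrix.zero_mul]
    have r2 : e1 * (e4 * N3) = 0 := by rw [← Matrix.mul_assoc, m14, Matrix.zero_mul]
    have r3 : e3 * (e2 * N1) = 0 := by rw [← Matrix.mul_assoc, m32, Matrix.zero_mul]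
    have r4 : e3 * (e4 * N3) = 0 := by rw [← Matrix.mul_assoc, m34, Matrix.zero_mul]
    rw [he, hM, Matrix.add_mul, Matrix.mul_add, Matrix.mul_add, Matrix.mul_add, Matrix.mul_add, Matrix.mul_add,
      Matrix.mul_add, i1, i3, m13, m31, r1, r2, r3, r4]
    simp only [add_zero, zero_add]
  have hMe : M * e = M := by
    have q1 : e2 * N1 * e = e2 * N1 := by
      rw [← hN1e, he, Matrix.mul_assoc, Matrix.mul_add, i1, m13, add_zero]
    have q3 : e4 * N3 * e = e4 * N3 := by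
      rw [← hN3e, he, Matrix.mul_assoc, Matrix.mul_add, i3, m31, zero_add]
    rw [hM, Matrix.add_mul, Matrix.add_mul, Matrix.add_mul, q1, q3, he, Matrix.mul_add, Matrix.mul_add, i1, i3, m13, m31,
      add_zero, zero_add]
  have hrank : M.rank = e.rank := by
    apply le_antisymm
    · conv_lhs => rw [← hMe]
      exact Matrix.rank_mul_le_right _ _
    · conv_lhs => rw [← heM]
      exact Matrix.rank_mul_le_right _ _
  have hhalf := rank_half hee (T := T) (by rw [hT]; exact (ρ (t β)).isUnit) (by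
    have h1 : 1 - e = e2 + e4 := by rw [← hsum, he]; abel
    rw [h1, he, Matrix.mul_add, Matrix.add_mul, hT1, hT3])
  refine ⟨LinearMap.range M.mulVecLin, le_top, ?_, ?_⟩
  · rintro _ ⟨v, rfl⟩
    rw [Matrix.mulVecLin_apply]
    -- the two halves
    have k1 : T *ᵥ (a • (e1 *ᵥ v) + b • (X1 *ᵥ (e1 *ᵥ v))) = e2 *ᵥ (N1 *ᵥ v) := by
      have h1 : e2 *ᵥ (N1 *ᵥ v) = N1 *ᵥ (e1 *ᵥ v) := by
        rw [Matrix.mulVec_mulVec, ← hN1e, ← Matrix.mulVec_mulVec]
      rw [h1, hN1, ← Matrix.mulVec_mulVec _ T, Matrix.add_mulVec, Matrix.smul_mulVec, Matrix.smul_mulVec,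
        Matrix.one_mulVec]
    have k3 : T *ᵥ (a • (e3 *ᵥ v) + b • (X3 *ᵥ (e3 *ᵥ v))) = e4 *ᵥ (N3 *ᵥ v) := by
      have h1 : e4 *ᵥ (N3 *ᵥ v) = N3 *ᵥ (e3 *ᵥ v) := by
        rw [Matrix.mulVec_mulVec, ← hN3e, ← Matrix.mulVec_mulVec]
      rw [h1, hN3, ← Matrix.mulVec_mulVec _ T, Matrix.add_mulVec, Matrix.smul_mulVec, Matrix.smul_mulVec,
        Matrix.one_mulVec]
    have z1 : Q (e1 *ᵥ v + T *ᵥ (a • (e1 *ᵥ v) + b • (X1 *ᵥ (e1 *ᵥ v)))) = 0 := by
      refine Q_pair hQ (hfx _) (hfx _) ?_ hab ?_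
      · have h1 := three_rel (ρ := ρ) i h3
        rw [← hX1, ← he2] at h1
        have h2 : (X1 * X1 + X1 + 1) *ᵥ (e1 *ᵥ v) = 0 := by
          rw [h1, Matrix.smul_mulVec, Matrix.mulVec_mulVec, m21, Matrix.zero_mulVec, smul_zero]
        rw [Matrix.add_mulVec, Matrix.add_mulVec, Matrix.one_mulVec, ← Matrix.mulVec_mulVec _ X1 X1] at h2
        exact h2
      · rw [k1]
        exact orth_av hQ hfix m12 _ _
    have z3 : Q (e3 *ᵥ v + T *ᵥ (a • (e3 *ᵥ v) + b • (X3 *ᵥ (e3 *ᵥ v)))) = 0 := by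
      refine Q_pair hQ (hfx _) (hfx _) ?_ hab ?_
      · have h1 := three_rel (ρ := ρ) (1 : E) h3
        rw [← hX3, ← he1] at h1
        have h2 : (X3 * X3 + X3 + 1) *ᵥ (e3 *ᵥ v) = 0 := by
          rw [h1, Matrix.smul_mulVec, Matrix.mulVec_mulVec, m13, Matrix.zero_mulVec, smul_zero]
        rw [Matrix.add_mulVec, Matrix.add_mulVec, Matrix.one_mulVec, ← Matrix.mulVec_mulVec _ X3 X3] at h2
        exact h2
      · rw [k3]
        exact orth_av hQ hfix m34 _ _
    rw [k1] at z1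
    rw [k3] at z3
    have hMv : M *ᵥ v = (e1 *ᵥ v + e2 *ᵥ (N1 *ᵥ v)) + (e3 *ᵥ v + e4 *ᵥ (N3 *ᵥ v)) := by
      rw [hM, Matrix.add_mulVec, Matrix.add_mulVec, Matrix.add_mulVec, Matrix.mulVec_mulVec, Matrix.mulVec_mulVec]
    have hb := hQ.polar_bilinear
    rw [hMv, q_add Q, z1, z3, hb.add_left, hb.add_right, hb.add_right, orth_av hQ hfix m13, orth_av hQ hfix m14,
      orth_av hQ hfix m23, orth_av hQ hfix m24]
    ring
  · rw [finrank_top, Module.finrank_fintype_fun_eq_card, ← hhalf, ← hrank]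
    rfl

end main

/-- **`A₆` in dimension eight: plus type.** -/
theorem a6_eight_plus [Finite F] (p : ℕ) [hp : Fact p.Prime] [CharP F p] (hp3 : p ≠ 3) (hC : Core P)
    (h8 : Fintype.card ι = 8) (e : Soc P ≃* alternatingGroup (Fin 6)) {Q : (ι → F) → F}
    (hQ : IsNondegenerateQuadraticForm Q) (hfix : FixesQuadForm (matrixSet P) Q) : IsPlusTypeOn Q ⊤ := by
  obtain ⟨K, _, _, hK, _, ⟨f⟩⟩ := exists_nine e
  have h3 : ¬ 3 ∣ Nat.card ((scalars ι F).subgroupOf P) := not_dvd_scalars hC Nat.prime_three (by rw [h8]; norm_num)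
  obtain ⟨ρ, hρ, -⟩ := exists_rep hC Nat.prime_three (by omega)
    (((Nat.Prime.coprime_iff_not_dvd Nat.prime_three).2 h3).symm) f
  have h3F : (3 : F) ≠ 0 := by exact_mod_cast prime_ne_zero (F := F) p Nat.prime_three hp3
  have hne : ρ ≠ 1 := by
    intro h
    rw [h, MonoidHom.range_eq_bot_iff.2 rfl] at hρ
    apply hC.nonabelian
    subst hρ
    exact ⟨⟨fun a b => by
      induction a using QuotientGroup.induction_on with
      | H a =>
        induction b using QuotientGroup.induction_on with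
        | H b => rw [Subsingleton.elim a b]⟩⟩
  have habs : ActsAbsolutelyIrreducibly (matrixSet ρ.range) := by rw [hρ]; exact hC.absIrred
  refine plus_of_sum (ρ := ρ) hK h3F (sum_u habs hne ?_ (by omega) (by omega)) hQ (by rw [hρ]; exact hfix)
  rw [hK]
  have : ((9 : ℕ) : F) = 3 * 3 := by norm_num
  rw [this]
  exact mul_ne_zero h3F h3F

end Cfsg.Agent.H937.T2
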