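import Cfsg.Agent.H922.S12.Base
import Cfsg.Agent.H937.G24.Ctr
import Cfsg.Agent.H920.Sz12.KFour
import Cfsg.Agent.H638.G2Iso
import Cfsg.Agent.H932.MtFin
import Cfsg.Agent.H932.MtKill
import Cfsg.Agent.H907.L33.Core
import Cfsg.Agent.H175.LD.Twelve
import Cfsg.Agent.H912.CrossList
import Cfsg.Agent.H912.MultChar

/-!
# Three rows of S5869 (helper937)

* `row_g2` : the socle `G₂(4)`, `p` odd;
* `row_m12` : the socle `M₁₂` does not occur;
* `row_l33` : the socle `L₃(3)`, `p ≠ 3`, does not occur.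
-/

set_option autoImplicit false
set_option linter.unusedSectionVars false

namespace Cfsg.Agent.H937.S12Rows

open Cfsg Cfsg.Geo Matrix Cfsg.Agent.H915.LD Cfsg.Agent.H922

universe u

variable {F : Type u} [Field F] [Fintype F] {p : ℕ} {H P : Subgroup (GL (Fin 6 ⊕ Fin 6) F)}

/-! ### G₂(4) -/

theorem two_ne (h : S12.Cx p H P) (hp2 : p ≠ 2) : (2 : F) ≠ 0 := by
  have := h.char
  intro h0
  have h1 : ((2 : ℕ) : F) = 0 := by exact_mod_cast h0
  have h3 := (CharP.cast_eq_zero_iff F p 2).1 h1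
  exact hp2 ((Nat.prime_dvd_prime_iff_eq h.prime Nat.prime_two).1 h3)

/-- **The row of `G₂(4)`** -/
theorem row_g2 (h : S12.Cx p H P) (hp2 : p ≠ 2) (hT : H912.Bd.IsG2 4 (Soc P)) : S12.Concl P p := by
  have := h.char
  have : Fact p.Prime := ⟨h.prime⟩
  obtain ⟨K, i1, i2, hK, ⟨e⟩⟩ := hT
  have h2 := two_ne h hp2
  have h12 : Fintype.card (Fin 6 ⊕ Fin 6) = 12 := by simp
  have hfr := G24.core_fr hK h2 h.core e h12 p
  have hF := h.core.card_eq p hfr
  obtain ⟨g⟩ := Cfsg.Agent.H638.G2Iso.equiv (F := K)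
  refine Or.inr (Or.inr (Or.inr (Or.inr (Or.inl ⟨⟨K, i1, i2, hK, ⟨e.trans g.symm⟩⟩, hF,
    h.prime.odd_of_ne_two hp2, ?_⟩))))
  rintro rfl
  refine H920.Sz12.k4 (by rw [Nat.card_eq_fintype_card, hF]) h.hH h.hc hK e ?_ ?_
  · intro R hR E j1 j2 hE eR
    exact G24.card_scalars hE h2 hR eR h12
  · intro R R' hR _ E j1 j2 hE eR ψ x
    exact G24.core_trace hE h2 hR eR h12 ψ x

/-! ### M₁₂ -/

open Cfsg.Agent.H932.Mt in
/-- the sum of squares in the basis of the model -/
theorem fixQ_of_model {P : Subgroup (GL (Fin 12) F)} (h2 : (2 : F) ≠ 0) {φ : Γ →* P} (hφ : Function.Surjective φ)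
    {b : Module.Basis (Fin 12) F (Fin 12 → F)} (hb : IsModel φ b) : FixQ P := by
  let Q : (Fin 12 → F) → F := fun v => ∑ i, b.repr v i ^ 2
  have hpol : ∀ v w, QuadraticMap.polar Q v w = 2 * ∑ i, b.repr v i * b.repr w i := by
    intro v w
    simp only [QuadraticMap.polar, Q, map_add, Finsupp.add_apply]
    rw [← Finset.sum_sub_distrib, ← Finset.sum_sub_distrib, Finset.mul_sum]
    exact Finset.sum_congr rfl fun i _ => by ring
  refine ⟨Q, ⟨?_, ⟨?_, ?_, ?_, ?_⟩, ?_⟩, ?_⟩
  · intro c v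
    simp only [Q, map_smul, Finsupp.smul_apply, smul_eq_mul, mul_pow, Finset.mul_sum]
  · intro x y v
    rw [hpol, hpol, hpol, ← mul_add, ← Finset.sum_add_distrib]
    congr 1
    exact Finset.sum_congr rfl fun i _ => by rw [map_add, Finsupp.add_apply]; ring
  · intro c x v
    rw [hpol, hpol, mul_left_comm c, Finset.mul_sum (a := c)]
    congr 1
    exact Finset.sum_congr rfl fun i _ => by rw [map_smul, Finsupp.smul_apply, smul_eq_mul]; ring
  · intro v x y
    rw [hpol, hpol, hpol, ← mul_add, ← Finset.sum_add_distrib]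
    congr 1
    exact Finset.sum_congr rfl fun i _ => by rw [map_add, Finsupp.add_apply]; ring
  · intro c v x
    rw [hpol, hpol, mul_left_comm c, Finset.mul_sum (a := c)]
    congr 1
    exact Finset.sum_congr rfl fun i _ => by rw [map_smul, Finsupp.smul_apply, smul_eq_mul]; ring
  · intro v hv
    have h1 : ∃ i, b.repr v i ≠ 0 := by
      by_contra hne
      rw [not_exists] at hne
      apply hv
      apply b.repr.injective
      rw [map_zero]
      ext i
      exact not_not.1 (hne i)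
    obtain ⟨i, hi⟩ := h1
    have h3 : ∀ w : Fin 12 → F, w = b i → ∑ k, b.repr v k * b.repr w k = b.repr v i := by
      rintro w rfl
      rw [Finset.sum_eq_single i]
      · rw [Module.Basis.repr_self, Finsupp.single_eq_same, mul_one]
      · intro k _ hk
        rw [Module.Basis.repr_self, Finsupp.single_eq_of_ne hk, mul_zero]
      · intro h
        exact absurd (Finset.mem_univ i) h
    refine ⟨⟨b i, ?_⟩, ⟨b i, ?_⟩⟩
    · rw [hpol]
      have h4 : ∑ k, b.repr (b i) k * b.repr v k = b.repr v i := by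
        rw [← h3 (b i) rfl]
        exact Finset.sum_congr rfl fun k _ => mul_comm _ _
      rw [h4]
      exact mul_ne_zero h2 hi
    · rw [hpol, h3 (b i) rfl]
      exact mul_ne_zero h2 hi
  · rintro _ ⟨g, hg, rfl⟩ v
    obtain ⟨y, hy⟩ := hφ ⟨g, hg⟩
    have hgy : g = (φ y : GL (Fin 12) F) := by rw [hy]
    rw [hgy]
    have h5 : ((φ y : GL (Fin 12) F) : Matrix (Fin 12) (Fin 12) F) *ᵥ v =
        ∑ i, b.repr v i • (((sgn (y.1.1 (pos i)) : ℤ) : F) • b (idx (y.1.1 (pos i)))) := by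
      conv_lhs => rw [← b.sum_repr v]
      rw [Matrix.mulVec_sum]
      exact Finset.sum_congr rfl fun i _ => by rw [Matrix.mulVec_smul, hb]
    have h6 : ∀ i, b.repr (((φ y : GL (Fin 12) F) : Matrix (Fin 12) (Fin 12) F) *ᵥ v) (lp y i) =
        b.repr v i * ((sgn (y.1.1 (pos i)) : ℤ) : F) := by
      intro i
      rw [h5, map_sum, Finsupp.finsetSum_apply, Finset.sum_eq_single i]
      · rw [map_smul, map_smul, Finsupp.smul_apply, Finsupp.smul_apply, Module.Basis.repr_self]
        change _ • _ • (Finsupp.single (lp y i) (1 : F)) (lp y i) = _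
        rw [Finsupp.single_eq_same, smul_eq_mul, smul_eq_mul, mul_one]
      · intro k _ hk
        rw [map_smul, map_smul, Finsupp.smul_apply, Finsupp.smul_apply, Module.Basis.repr_self]
        change _ • _ • (Finsupp.single (lp y k) (1 : F)) (lp y i) = _
        rw [Finsupp.single_eq_of_ne (fun h => hk ((lp y).injective h).symm), smul_zero, smul_zero]
      · intro h
        exact absurd (Finset.mem_univ i) h
    have h7 : ∀ k : Fin 24, ((sgn k : ℤ) : F) ^ 2 = 1 := by
      intro k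
      have : sgn k ^ 2 = 1 := by
        revert k
        decide
      exact_mod_cast congrArg (Int.cast : ℤ → F) this
    change ∑ i, _ = ∑ i, _
    rw [← Equiv.sum_comp (lp y)]
    refine Finset.sum_congr rfl fun i _ => ?_
    rw [h6, mul_pow, h7, mul_one]

/-- **The socle `M₁₂` does not occur** -/
theorem row_m12 (h : S12.Cx p H P) (hT : Spor.IsoM12 (Soc P)) : False := by
  obtain ⟨e⟩ := hT
  have hC := h.coreR
  let e' : Soc (H912.Rx.re S12.e12 P) ≃* Spor.M12 := (H912.Rx.socEquiv S12.e12).symm.trans e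
  obtain ⟨h2, h3⟩ := H932.Mt.two_three hC e'
  obtain ⟨φ, hφ, hφe⟩ := H932.Mt.exists_cover hC e'
  obtain ⟨b, hb⟩ := H932.Mt.exists_model h2 h3 hC e' hφ hφe
  exact h.not_fixQR (fixQ_of_model h2 hφ hb)

/-! ### L₃(3) -/

/-- **The socle `L₃(3)` does not occur for `p ≠ 3`** -/
theorem row_l33 (h : S12.Cx p H P) (hp3 : p ≠ 3) (hT : H912.Bd.IsL 3 3 (Soc P)) : False := by
  have := h.char
  have : Fact p.Prime := ⟨h.prime⟩
  obtain ⟨K, i1, i2, hK, ⟨e⟩⟩ := hT
  have h12 : Fintype.card (Fin 6 ⊕ Fin 6) = 12 := by simp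
  by_cases hp2 : p = 2
  · subst hp2
    exact h.hQ (H907.L33.two_main h.core hK e h12).2.2.2.1
  · have h2 := two_ne h hp2
    obtain ⟨-, ⟨φ⟩⟩ := H175.L33.exists_equiv h.core hK e
    obtain ⟨K', w, S⟩ := H175.L33.exists_sys h.core φ hp3 h12
    exact S.not_fixA h12 h2 h.fixA

end Cfsg.Agent.H937.S12Rows
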