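import Cfsg.Agent.H937.O10Six
import Cfsg.Agent.H908.LamOver
import Cfsg.Agent.H875.PslRows

/-!
# `A₆` is not maximal in `Ω₁₀(q)` (helper937, with helper908's `lam_false`)

`o10_a6 : Cx p Q H P → Soc P ≃* A₆ → False`.
-/

set_option autoImplicit false
set_option linter.unusedSectionVars false

namespace Cfsg.Agent.H937.T2

open Matrix Module Cfsg Cfsg.Geo Cfsg.Agent.H915.LD
open Cfsg.Agent.H933.O10 (Cx)
open Cfsg.Agent.H908.Lam (q5 v6 v6_castSucc sys6 gr6 R6 mem_R6 lam_false)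
open Cfsg.Agent.LieClassical.OrthFinite (glEquiv glEquiv_apply)
open Cfsg.Agent.H882.Del (Sys SG mem_stabR_of SG_map_rts)

universe u'

theorem tr_dec : ∀ σ : Equiv.Perm (Fin 6),
    (∑ i : Fin 5, (if ((σ i.castSucc : Fin 6) : ℕ) = 5 then (-1 : ℤ) else
      if ((σ i.castSucc : Fin 6) : ℕ) = i then 1 else 0)) = fx σ - 1 := by
  decide +kernel

/-- the heart of the permutation module -/
noncomputable def r6 (F : Type u') [Field F] : Equiv.Perm (Fin 6) →* GL (Fin 5) F :=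
  (glEquiv (Fin 5) F).symm.toMonoidHom.comp (sys6 (F := F)).perm

section

variable {F : Type u'} [Field F]

theorem gl_r6 (σ : Equiv.Perm (Fin 6)) : glEquiv (Fin 5) F (r6 F σ) = (sys6 (F := F)).perm σ :=
  (glEquiv (Fin 5) F).apply_symm_apply _

theorem r6_mem (h2 : (2 : F) ≠ 0) (σ : Equiv.Perm (Fin 6)) : r6 F σ ∈ R6 F := by
  rw [mem_R6, gl_r6]
  have h1 : ∀ σ, (sys6 (F := F)).perm σ ∈ SG F (v6 F) := fun σ => Cfsg.Agent.H882.Del.perm_mem_SG sys6 σ
  refine mem_stabR_of (Cfsg.Agent.H882.Del.perm_mem_O sys6 gr6 h2 σ) (fun x hx => SG_map_rts (h1 σ) hx) fun x hx => ?_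
  rw [← map_inv]
  exact SG_map_rts (h1 _) hx

theorem tr_r6 (σ : Equiv.Perm (Fin 6)) : tr (r6 F σ) = ((fx σ - 1 : ℤ) : F) := by
  rw [← tr_dec, Int.cast_sum]
  unfold tr
  rw [Matrix.trace]
  refine Finset.sum_congr rfl fun i _ => ?_
  have h1 : ((r6 F σ : GL (Fin 5) F) : Matrix (Fin 5) (Fin 5) F) *ᵥ Pi.single i 1 = v6 F (σ i.castSucc) := by
    rw [← glEquiv_apply, gl_r6, ← v6_castSucc, Sys.perm_apply]
  rw [Matrix.diag_apply]
  have h2 := congrFun h1 i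
  rw [mulVec_single_one] at h2
  change ((r6 F σ : GL (Fin 5) F) : Matrix (Fin 5) (Fin 5) F) i i = _ at h2
  rw [h2, v6]
  split_ifs <;> simp

end

/-- **`A₆` is not maximal in `Ω₁₀(q)`.** -/
theorem o10_a6 {F : Type u'} [Field F] [Finite F] {p : ℕ} {Q : (Fin 10 → F) → F} {H P : Subgroup (GL (Fin 10) F)}
    (hX : Cx p Q H P) (e : Soc P ≃* alternatingGroup (Fin 6)) : False := by
  have hp : Fact p.Prime := ⟨hX.prime⟩
  have hch := hX.char
  have hfF := Fintype.ofFinite F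
  by_cases hp3 : p = 3
  · subst hp3
    obtain ⟨K, _, _, hK, _, ⟨f⟩⟩ := exists_nine e
    exact Cfsg.Agent.H875.PslRows.omega_row (E := K) 3 hX.hQ (Or.inl (by rw [Fintype.card_fin])) hX.hH hX.hc f
  · obtain ⟨hp2, e', h1, h2⟩ := six_data hX hp3 e
    have h2F : (2 : F) ≠ 0 := by exact_mod_cast prime_ne_zero (F := F) p Nat.prime_two hp2
    have h3F : (3 : F) ≠ 0 := by exact_mod_cast prime_ne_zero (F := F) p Nat.prime_three hp3
    refine lam_false h2F h3F hX.hQ hX.hH hX.hc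
      ((r6 F).comp ((alternatingGroup (Fin 6)).subtype.comp e'.toMonoidHom)) ?_ (fun x => r6_mem h2F _) ?_
    · intro x
      rw [h1 x, ← map_mul]
      change _ = tr (r6 F (e' x : Equiv.Perm (Fin 6))) ^ 2 - tr (r6 F ((e' (x * x) : alternatingGroup (Fin 6)) : Equiv.Perm (Fin 6)))
      rw [tr_r6, tr_r6, map_mul]
      push_cast
      rfl
    · intro h hh
      obtain ⟨σ, hσ⟩ := h2 h hh
      refine ⟨r6 F σ, r6_mem h2F σ, fun x y hxy => ?_⟩
      change r6 F (e' y : Equiv.Perm (Fin 6)) = r6 F σ * r6 F (e' x : Equiv.Perm (Fin 6)) * (r6 F σ)⁻¹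
      rw [hσ x y hxy, map_mul, map_mul, map_inv]

end Cfsg.Agent.H937.T2
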