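import Mathlib

/-!
Generation of `A₆` by two elements of order five with product of order five.
-/

set_option autoImplicit false

namespace Cfsg.Agent.H937.A6

open Equiv

/-- the cycle (0 1 2 3 4). -/
def x0 : Perm (Fin 6) := ⟨![1, 2, 3, 4, 0, 5], ![4, 0, 1, 2, 3, 5], by decide, by decide⟩

/-- the cycle (1 2 4 3 5). -/
def y0 : Perm (Fin 6) := ⟨![0, 2, 4, 5, 3, 1], ![0, 5, 1, 4, 2, 3], by decide, by decide⟩

/-- eight words. -/
def wd (i : Fin 8) : Perm (Fin 6) :=
  ![x0 ^ 1 * y0 ^ 1 * x0 ^ 2 * y0 ^ 3, x0 ^ 1 * y0 ^ 2 * x0 ^ 4 * y0 ^ 1, x0 ^ 2 * y0 ^ 1 * x0 ^ 4 * y0 ^ 3,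
    x0 ^ 1 * y0 ^ 1 * x0 ^ 4 * y0 ^ 3, x0 ^ 2 * y0 ^ 4 * x0 ^ 1 * y0 ^ 1, x0 ^ 3 * y0 ^ 1 * x0 ^ 1 * y0 ^ 4,
    x0 ^ 3 * y0 ^ 4 * x0 ^ 4 * y0 ^ 2, x0 ^ 2 * y0 ^ 3 * x0 ^ 1 * y0 ^ 1] i

theorem three_dec : ∀ σ : Perm (Fin 6), σ.support.card = 3 →
    ∃ (m : Fin 5) (i : Fin 8), σ * x0 ^ (m : ℕ) = x0 ^ (m : ℕ) * wd i := by
  decide +kernel

/-- digit `i` of a permutation code -/
def ap (s i : ℕ) : ℕ := (s >>> (3 * i)) % 8

/-- the conjunction over the six points -/
def all6 (p : ℕ → Bool) : Bool := p 0 && p 1 && p 2 && p 3 && p 4 && p 5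

theorem all6_of {p : ℕ → Bool} (h : all6 p = true) (i : ℕ) (hi : i < 6) : p i = true := by
  simp only [all6, Bool.and_eq_true] at h
  obtain ⟨⟨⟨⟨⟨h0, h1⟩, h2⟩, h3⟩, h4⟩, h5⟩ := h
  interval_cases i <;> assumption

/-- `1` if the third power moves `i` -/
def mv (s i : ℕ) : ℕ := if ap s (ap s (ap s i)) = i then 0 else 1

/-- number of points moved by the third power -/
def cnt (s : ℕ) : ℕ := mv s 0 + mv s 1 + mv s 2 + mv s 3 + mv s 4 + mv s 5

/-- the test of one permutation -/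
def chk (s : ℕ) : Bool :=
  all6 (fun i => ap s (ap s (ap s i)) == i) || all6 (fun i => ap s (ap s (ap s (ap s i))) == i) ||
  all6 (fun i => ap s (ap s (ap s (ap s (ap s i)))) == i) ||
  (all6 (fun i => ap s (ap s (ap s (ap s (ap s (ap s i))))) == i) && (cnt s == 2 || cnt s == 6))

/-- the tests of the permutations with given first values -/
def t5 (a b c d e : ℕ) : Bool := all6 fun g =>
  g == a || (g == b || (g == c || (g == d || (g == e ||
    chk (a + 8 * b + 64 * c + 512 * d + 4096 * e + 32768 * g)))))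

/-- the same, four values given -/
def t4 (a b c d : ℕ) : Bool := all6 fun e => e == a || (e == b || (e == c || (e == d || t5 a b c d e)))

/-- the same, three values given -/
def t3 (a b c : ℕ) : Bool := all6 fun d => d == a || (d == b || (d == c || t4 a b c d))

/-- the same, two values given -/
def t2 (a b : ℕ) : Bool := all6 fun c => c == a || (c == b || t3 a b c)

/-- the same, one value given -/
def t1 (a : ℕ) : Bool := all6 fun b => b == a || t2 a b

theorem chk_all : all6 t1 = true := by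
  decide +kernel

theorem ord_aux (σ : Perm (Fin 6)) : (σ ^ 4 = 1 ∨ σ ^ 3 = 1 ∨ σ ^ 5 = 1) ∨
    ((σ ^ 3) * (σ ^ 3) = 1 ∧ ((σ ^ 3).support.card = 2 ∨ (σ ^ 3).support.card = 6)) := by
  have hne : ∀ i j : Fin 6, i ≠ j → (((σ i : Fin 6) : ℕ) == ((σ j : Fin 6) : ℕ)) = false := by
    intro i j hij
    rw [beq_eq_false_iff_ne]
    exact fun h => hij (σ.injective (Fin.ext h))
  have g1 : t1 (σ 0) = true := all6_of chk_all (σ 0) (σ 0).2
  have g2 : t2 (σ 0) (σ 1) = true := by
    have h := all6_of g1 (σ 1) (σ 1).2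
    simpa only [hne 1 0 (by decide), Bool.false_or] using h
  have g3 : t3 (σ 0) (σ 1) (σ 2) = true := by
    have h := all6_of g2 (σ 2) (σ 2).2
    simpa only [hne 2 0 (by decide), hne 2 1 (by decide), Bool.false_or] using h
  have g4 : t4 (σ 0) (σ 1) (σ 2) (σ 3) = true := by
    have h := all6_of g3 (σ 3) (σ 3).2
    simpa only [hne 3 0 (by decide), hne 3 1 (by decide), hne 3 2 (by decide), Bool.false_or] using h
  have g5 : t5 (σ 0) (σ 1) (σ 2) (σ 3) (σ 4) = true := by
    have h := all6_of g4 (σ 4) (σ 4).2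
    simpa only [hne 4 0 (by decide), hne 4 1 (by decide), hne 4 2 (by decide), hne 4 3 (by decide),
      Bool.false_or] using h
  have h := all6_of g5 (σ 5) (σ 5).2
  simp only [hne 5 0 (by decide), hne 5 1 (by decide), hne 5 2 (by decide), hne 5 3 (by decide),
    hne 5 4 (by decide), Bool.false_or] at h
  set s : ℕ := ((σ 0 : Fin 6) : ℕ) + 8 * ((σ 1 : Fin 6) : ℕ) + 64 * ((σ 2 : Fin 6) : ℕ) +
    512 * ((σ 3 : Fin 6) : ℕ) + 4096 * ((σ 4 : Fin 6) : ℕ) + 32768 * ((σ 5 : Fin 6) : ℕ) with hs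
  have hap : ∀ i : Fin 6, ap s i = ((σ i : Fin 6) : ℕ) := by
    have h0 := (σ 0).2
    have h1 := (σ 1).2
    have h2 := (σ 2).2
    have h3 := (σ 3).2
    have h4 := (σ 4).2
    have h5 := (σ 5).2
    have a0 : ap s 0 = ((σ 0 : Fin 6) : ℕ) := by
      simp only [ap, hs, Nat.shiftRight_eq_div_pow]; norm_num; omega
    have a1 : ap s 1 = ((σ 1 : Fin 6) : ℕ) := by
      simp only [ap, hs, Nat.shiftRight_eq_div_pow]; norm_num; omega
    have a2 : ap s 2 = ((σ 2 : Fin 6) : ℕ) := by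
      simp only [ap, hs, Nat.shiftRight_eq_div_pow]; norm_num; omega
    have a3 : ap s 3 = ((σ 3 : Fin 6) : ℕ) := by
      simp only [ap, hs, Nat.shiftRight_eq_div_pow]; norm_num; omega
    have a4 : ap s 4 = ((σ 4 : Fin 6) : ℕ) := by
      simp only [ap, hs, Nat.shiftRight_eq_div_pow]; norm_num; omega
    have a5 : ap s 5 = ((σ 5 : Fin 6) : ℕ) := by
      simp only [ap, hs, Nat.shiftRight_eq_div_pow]; norm_num; omega
    intro i
    fin_cases i
    exacts [a0, a1, a2, a3, a4, a5]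
  have e3 : ∀ i : Fin 6, ap s (ap s (ap s i)) = (((σ ^ 3) i : Fin 6) : ℕ) := by
    intro i; rw [hap, hap, hap]; rfl
  have pw : ∀ n : ℕ, (∀ i : Fin 6, (((σ ^ n) i : Fin 6) : ℕ) = i) → σ ^ n = 1 := by
    intro n hn
    ext i
    exact hn i
  simp only [chk, Bool.or_eq_true, Bool.and_eq_true, beq_iff_eq] at h
  rcases h with ((h | h) | h) | ⟨h, h'⟩
  · refine Or.inl (Or.inr (Or.inl (pw 3 fun i => ?_)))
    rw [← e3]
    simpa using all6_of h i i.2
  · refine Or.inl (Or.inl (pw 4 fun i => ?_))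
    have := all6_of h i i.2
    simp only [beq_iff_eq] at this
    rw [hap, hap, hap, hap] at this
    exact this
  · refine Or.inl (Or.inr (Or.inr (pw 5 fun i => ?_)))
    have := all6_of h i i.2
    simp only [beq_iff_eq] at this
    rw [hap, hap, hap, hap, hap] at this
    exact this
  · refine Or.inr ⟨?_, ?_⟩
    · rw [← pow_add]
      refine pw 6 fun i => ?_
      have := all6_of h i i.2
      simp only [beq_iff_eq] at this
      rw [hap, hap, hap, hap, hap, hap] at this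
      exact this
    · have hm : ∀ i : Fin 6, mv s i = if (σ ^ 3) i ≠ i then 1 else 0 := by
        intro i
        simp only [mv, e3]
        by_cases hi : (σ ^ 3) i = i
        · simp [hi]
        · have : ¬ ((((σ ^ 3) i : Fin 6) : ℕ) = i) := fun h => hi (Fin.ext h)
          simp [hi, this]
      have hcard : (σ ^ 3).support.card = cnt s := by
        have : (σ ^ 3).support = Finset.univ.filter (fun i => (σ ^ 3) i ≠ i) := by
          ext i; simp [Perm.mem_support]
        rw [this, Finset.card_filter, Fin.sum_univ_six, ← hm, ← hm, ← hm, ← hm, ← hm, ← hm]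
        rfl
      rw [hcard]
      exact h'

theorem sign_inv (ρ : Perm (Fin 6)) (h : ρ * ρ = 1) (hc : ρ.support.card = 2 ∨ ρ.support.card = 6) :
    Perm.sign ρ = -1 := by
  have h1 : ρ ≠ 1 := by
    rintro rfl
    rw [Perm.support_one] at hc
    simp at hc
  have : Fact (Nat.Prime 2) := ⟨by norm_num⟩
  have ho : orderOf ρ = 2 := orderOf_eq_prime (by rw [pow_two, h]) h1
  obtain ⟨n, hn⟩ := Perm.cycleType_prime_order (σ := ρ) (by rw [ho]; norm_num)
  rw [ho] at hn
  have hs := Perm.sum_cycleType ρ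
  rw [hn] at hs
  simp only [Multiset.sum_replicate, smul_eq_mul] at hs
  rw [Perm.sign_of_cycleType, hn]
  simp only [Multiset.sum_replicate, smul_eq_mul, Multiset.card_replicate]
  rcases hc with hc | hc
  · have : n = 0 := by omega
    subst this
    rfl
  · have : n = 2 := by omega
    subst this
    rfl

theorem ord_dec : ∀ σ : Perm (Fin 6), Perm.sign σ = 1 → σ ^ 4 = 1 ∨ σ ^ 3 = 1 ∨ σ ^ 5 = 1 := by
  intro σ h
  rcases ord_aux σ with h1 | ⟨h1, h2⟩
  · exact h1
  · exfalso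
    have h3 := sign_inv (σ ^ 3) h1 h2
    rw [map_pow, h, one_pow] at h3
    exact absurd h3 (by decide)

theorem type_five (σ : Perm (Fin 6)) (h : σ ^ 5 = 1) (h1 : σ ≠ 1) : σ.cycleType = {5} := by
  have : Fact (Nat.Prime 5) := ⟨by norm_num⟩
  have ho : orderOf σ = 5 := orderOf_eq_prime h h1
  obtain ⟨n, hn⟩ := Perm.cycleType_prime_order (σ := σ) (by rw [ho]; norm_num)
  rw [ho] at hn
  have hs := Perm.sum_cycleType σ
  have hc : σ.support.card ≤ 6 := by
    have := Finset.card_le_univ σ.support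
    simpa using this
  rw [hn] at hs
  simp only [Multiset.sum_replicate, smul_eq_mul] at hs
  have hn0 : n = 0 := by omega
  rw [hn, hn0]
  rfl

/-- multiplication by two on the five points -/
def m0 : Perm (Fin 6) := ⟨![0, 2, 4, 1, 3, 5], ![0, 3, 1, 4, 2, 5], by decide, by decide⟩

theorem m0_x0 : m0 * x0 = x0 ^ 2 * m0 := by decide

theorem m0_sign : Perm.sign m0 = -1 := by decide +kernel

theorem five_dec : ∀ σ : Perm (Fin 6), σ ^ 5 = 1 → σ = 1 ∨ ∃ τ : Perm (Fin 6), Perm.sign τ = 1 ∧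
    (τ * σ = x0 * τ ∨ τ * σ = x0 ^ 2 * τ) := by
  intro σ h
  by_cases h1 : σ = 1
  · exact Or.inl h1
  · refine Or.inr ?_
    have hx5 : x0 ^ 5 = 1 := by decide
    have hx1 : x0 ≠ 1 := by decide
    have hc : IsConj σ x0 := by
      rw [Perm.isConj_iff_cycleType_eq, type_five σ h h1, type_five x0 hx5 hx1]
    obtain ⟨τ, hτ⟩ := isConj_iff.mp hc
    have hτ' : τ * σ = x0 * τ := by rw [← hτ]; group
    rcases Int.units_eq_one_or (Perm.sign τ) with hs | hs
    · exact ⟨τ, hs, Or.inl hτ'⟩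
    · refine ⟨m0 * τ, ?_, Or.inr ?_⟩
      · rw [Perm.sign_mul, m0_sign, hs]; rfl
      · rw [mul_assoc, hτ', ← mul_assoc, m0_x0, mul_assoc]

end Cfsg.Agent.H937.A6
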