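import Mathlib
import Cfsg.Agent.H581.HC

/-!
# Hall coverings of almost simple groups: generalities (helper937, for S4388)
-/

set_option autoImplicit false

namespace Cfsg.Agent.H937.HCGen

open Cfsg.Agent.H581

variable {X : Type*} [Group X] {σ : Set ℕ} {S : Subgroup X}

theorem relIndex_dvd_index [Finite X] (H S : Subgroup X) [S.Normal] : H.relIndex S ∣ H.index := by
  have h1 : Nat.card ↥(S ⊔ H) = Nat.card S * S.relIndex (S ⊔ H) := by
    rw [Subgroup.relIndex, ← Nat.card_congr (Subgroup.subgroupOfEquivOfLe (le_sup_left : S ≤ S ⊔ H)).toEquiv]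
    exact (S.subgroupOf (S ⊔ H)).card_mul_index.symm
  have h2 : Nat.card ↥(S ⊔ H) = Nat.card H * H.relIndex (S ⊔ H) := by
    rw [Subgroup.relIndex, ← Nat.card_congr (Subgroup.subgroupOfEquivOfLe (le_sup_right : H ≤ S ⊔ H)).toEquiv]
    exact (H.subgroupOf (S ⊔ H)).card_mul_index.symm
  have h3 : S.relIndex (S ⊔ H) = S.relIndex H := by
    rw [sup_comm, Subgroup.relIndex_sup_right]
  have h4 : Nat.card (H.subgroupOf S) * H.relIndex S = Nat.card S := (H.subgroupOf S).card_mul_index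
  have h5 : Nat.card (S.subgroupOf H) * S.relIndex H = Nat.card H := (S.subgroupOf H).card_mul_index
  have h6 : Nat.card (H.subgroupOf S) = Nat.card (S.subgroupOf H) := by
    rw [← Subgroup.inf_subgroupOf_right H S, ← Subgroup.inf_subgroupOf_left S H,
      Nat.card_congr (Subgroup.subgroupOfEquivOfLe (inf_le_right : H ⊓ S ≤ S)).toEquiv,
      Nat.card_congr (Subgroup.subgroupOfEquivOfLe (inf_le_left : H ⊓ S ≤ H)).toEquiv]
  have h7 : H.relIndex S = H.relIndex (S ⊔ H) := by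
    rw [h3, ← h4, h6] at h1
    rw [← h5, h1] at h2
    have h8 : 0 < Nat.card (S.subgroupOf H) * S.relIndex H := by rw [h5]; exact Nat.card_pos
    apply Nat.eq_of_mul_eq_mul_left h8
    rw [← h2]; ring
  rw [h7]
  exact Subgroup.relIndex_dvd_index_of_le le_sup_right

/-- a Hall subgroup of `X` cuts the normal subgroup `S` in a Hall subgroup of `S` -/
theorem hall_inf [Finite X] [S.Normal] {H : Subgroup X} (h : IsHallFor σ H) : IsHallFor σ (H.subgroupOf S) := by
  refine ⟨fun r hr hrσ hd => h.index r hr hrσ ?_, fun r hr hd => h.card r hr ?_⟩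
  · exact hd.trans (relIndex_dvd_index H S)
  · refine hd.trans ?_
    have h1 : Nat.card (H.subgroupOf S) = Nat.card ((H ⊓ S : Subgroup X)) := by
      rw [← Subgroup.inf_subgroupOf_right]
      exact Nat.card_congr (Subgroup.subgroupOfEquivOfLe inf_le_right).toEquiv
    rw [h1]
    exact Subgroup.card_dvd_of_le inf_le_left

/-- a prime divisor of `|S|` outside `σ` -/
theorem exists_not_mem (hσ : ∀ r : ℕ, r.Prime → r ∣ S.index → r ∈ σ) (hc : HC X σ) :
    ∃ r : ℕ, r.Prime ∧ r ∣ Nat.card S ∧ r ∉ σ := by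
  obtain ⟨r, hr, hd, hn⟩ := hc.ne
  refine ⟨r, hr, ?_, hn⟩
  rw [← S.card_mul_index, hr.dvd_mul] at hd
  rcases hd with hd | hd
  · exact hd
  · exact absurd (hσ r hr hd) hn

theorem hall_ne_top [Finite X] [S.Normal] (hσ : ∀ r : ℕ, r.Prime → r ∣ S.index → r ∈ σ) (hc : HC X σ) {H : Subgroup X}
    (h : IsHallFor σ H) : H.subgroupOf S ≠ ⊤ := by
  intro htop
  obtain ⟨r, hr, hd, hn⟩ := exists_not_mem hσ hc
  refine hn ((hall_inf (S := S) h).card r hr ?_)
  rwa [htop, Subgroup.card_top]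

theorem sup_eq_top (hσ : ∀ r : ℕ, r.Prime → r ∣ S.index → r ∈ σ) {H : Subgroup X}
    (h : IsHallFor σ H) : H ⊔ S = ⊤ := by
  rw [← Subgroup.index_eq_one]
  by_contra hne
  obtain ⟨r, hr, hd⟩ := Nat.exists_prime_and_dvd hne
  exact h.index r hr (hσ r hr (hd.trans (Subgroup.index_dvd_of_le le_sup_right)))
    (hd.trans (Subgroup.index_dvd_of_le le_sup_left))

/-- if all elements of order `p` of `S` are conjugate in `S < X`, then `p ∈ σ` -/
theorem mem_of_conj [Finite X] [S.Normal] (hS : S ≠ ⊤) (hσ : ∀ r : ℕ, r.Prime → r ∣ S.index → r ∈ σ) (hc : HC X σ)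
    {p : ℕ} (hp : p.Prime) (hex : p ∣ Nat.card S)
    (hconj : ∀ x y : S, orderOf x = p → orderOf y = p → IsConj x y) : p ∈ σ := by
  have : Fact p.Prime := ⟨hp⟩
  obtain ⟨x, hx⟩ := exists_prime_orderOf_dvd_card' (G := S) p hex
  have hidx : S.index ≠ 1 := fun h => hS (Subgroup.index_eq_one.1 h)
  obtain ⟨t, ht, htd⟩ := Nat.exists_prime_and_dvd hidx
  have htσ : t ∈ σ := hσ t ht htd
  -- `C_X(x)` covers `X / S`
  let f : Subgroup.centralizer ({(x : X)} : Set X) →* X ⧸ S := (QuotientGroup.mk' S).comp (Subgroup.subtype _)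
  have hf : Function.Surjective f := by
    intro y
    obtain ⟨g, rfl⟩ := QuotientGroup.mk_surjective y
    have h1 : orderOf (⟨g * x * g⁻¹, (inferInstance : S.Normal).conj_mem x x.2 g⟩ : S) = p := by
      rw [← Subgroup.orderOf_coe, ← hx, ← Subgroup.orderOf_coe x]
      exact (MulEquiv.orderOf_eq (MulAut.conj g) (x : X))
    obtain ⟨s, hs⟩ := isConj_iff.1 (hconj x _ hx h1)
    have h2 : (s : X) * x * (s : X)⁻¹ = g * x * g⁻¹ := congrArg Subtype.val hs
    have h3 : (s : X)⁻¹ * g ∈ Subgroup.centralizer ({(x : X)} : Set X) := by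
      rw [Subgroup.mem_centralizer_singleton_iff]
      have h4 : (s : X) * x * (s : X)⁻¹ * g = g * x := by rw [h2]; group
      calc (s : X)⁻¹ * g * x = (s : X)⁻¹ * (g * x) := by group
        _ = (s : X)⁻¹ * ((s : X) * x * (s : X)⁻¹ * g) := by rw [h4]
        _ = x * ((s : X)⁻¹ * g) := by group
    refine ⟨⟨_, h3⟩, ?_⟩
    show ((((s : X)⁻¹ * g : X)) : X ⧸ S) = (g : X ⧸ S)
    rw [QuotientGroup.mk_mul, QuotientGroup.mk_inv, (QuotientGroup.eq_one_iff (s : X)).2 s.2, inv_one, one_mul]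
  have h5 : Nat.card (X ⧸ S) ∣ Nat.card (Subgroup.centralizer ({(x : X)} : Set X)) :=
    Subgroup.card_dvd_of_surjective f hf
  have : Fact t.Prime := ⟨ht⟩
  obtain ⟨y, hy⟩ := exists_prime_orderOf_dvd_card' (G := Subgroup.centralizer ({(x : X)} : Set X)) t (htd.trans h5)
  refine hc.commute htσ (x := (y : X)) (y := (x : X)) ?_ ht hp ?_ ?_
  · exact (Subgroup.mem_centralizer_singleton_iff.1 y.2)
  · rw [Subgroup.orderOf_coe, hy]
  · rw [Subgroup.orderOf_coe, hx]

end Cfsg.Agent.H937.HCGen
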