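import Cfsg.Agent.H937.O10Det
import Cfsg.Agent.StdAlt.Six.AutLemmas
import Cfsg.Agent.H922.OddBase
import Cfsg.Agent.H933.O10.Base
import Cfsg.Agent.H931.L2Forms

/-!
# `A₆` in dimension ten: the normaliser induces permutations of six points (helper937)
-/

set_option autoImplicit false
set_option linter.unusedSectionVars false

namespace Cfsg.Agent.H937.T2

open Matrix Module Cfsg Cfsg.Geo Cfsg.Agent.H464.Sl2 Cfsg.Agent.H931.L2T Cfsg.Agent.H915.LD
open scoped Pointwise

universe u' v'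

section grp

variable {K : Type v'} [Field K] {G : Type u'} [Group G] (ρ : SpecialLinearGroup (Fin 2) K →* G)

/-- the kernel consists of scalars -/
def KerZ : Prop := ∀ g, ρ g = 1 → g.1 1 0 = 0 ∧ g.1 0 1 = 0

theorem kerZ_of_center (h : ∀ g, ρ g = 1 → g ∈ Subgroup.center (SpecialLinearGroup (Fin 2) K)) : KerZ ρ := by
  intro g hg
  obtain ⟨r, -, hr⟩ := Matrix.SpecialLinearGroup.mem_center_iff.1 (h g hg)
  rw [← hr]
  simp

variable {ρ} (hker : KerZ ρ)

include hker

theorem u_inj {x y : K} (h : ρ (u x) = ρ (u y)) : x = y := by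
  have h1 : ρ (u (x - y)) = 1 := by
    rw [sub_eq_add_neg, u_add, map_mul, h, ← map_mul, ← u_add, add_neg_cancel, u_zero, map_one]
  have h2 := (hker _ h1).2
  have h3 : (u (x - y)).1 0 1 = x - y := rfl
  rw [h3] at h2
  exact sub_eq_zero.1 h2

theorem lower_zero {s : SpecialLinearGroup (Fin 2) K} {y y' : K} (hy : y ≠ 0) (h : ρ (s * u y * s⁻¹) = ρ (u y')) :
    s.1 1 0 = 0 := by
  have h1 : ρ (s * u y * s⁻¹ * u (-y')) = 1 := by
    rw [map_mul, h, ← map_mul, ← u_add, add_neg_cancel, u_zero, map_one]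
  have h2 := (hker _ h1).1
  have h3 : (s * u y * s⁻¹ * u (-y')).1 = s.1 * !![1, y; 0, 1] * (s⁻¹).1 * !![1, -y'; 0, 1] := rfl
  have h4 : (s⁻¹).1 = !![s.1 1 1, -s.1 0 1; -s.1 1 0, s.1 0 0] := by
    rw [Matrix.SpecialLinearGroup.SL2_inv_expl s]; rfl
  rw [h3, h4] at h2
  simp only [Matrix.mul_apply, Fin.sum_univ_two, Matrix.of_apply, Matrix.cons_val', Matrix.cons_val_zero,
    Matrix.cons_val_one, Matrix.empty_val', Matrix.cons_val_fin_one] at h2
  have h5 : y * (s.1 1 0 * s.1 1 0) = 0 := by linear_combination -h2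
  have h6 := (mul_eq_zero.1 h5).resolve_left hy
  exact mul_self_eq_zero.1 h6

omit hker in
/-- every element of `K` is `s + t i` -/
theorem exists_coord [Fintype K] [CharP K 3] (h9 : Fintype.card K = 9) {i : K} (hi : i ^ 2 = -1) (x : K) :
    ∃ s r : ZMod 3, x = cc K s + cc K r * i := by
  have hinj : Function.Injective (fun p : ZMod 3 × ZMod 3 => cc K p.1 + cc K p.2 * i) := by
    rintro ⟨s, r⟩ ⟨s', r'⟩ h
    have h1 : cc K (s - s') + cc K (r - r') * i = 0 := by
      simp only at h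
      rw [map_sub, map_sub]
      linear_combination h
    obtain ⟨h2, h3⟩ := basis_i hi _ _ h1
    exact Prod.ext (sub_eq_zero.1 h2) (sub_eq_zero.1 h3)
  have hbij : Function.Bijective (fun p : ZMod 3 × ZMod 3 => cc K p.1 + cc K p.2 * i) :=
    (Fintype.bijective_iff_injective_and_card _).2 ⟨hinj, by rw [h9, Fintype.card_prod, ZMod.card]⟩
  obtain ⟨⟨s, r⟩, h⟩ := hbij.2 x
  exact ⟨s, r, h.symm⟩

omit hker in
/-- additive semilinear maps -/
theorem add_form [Fintype K] [CharP K 3] (h9 : Fintype.card K = 9) {i : K} (hi : i ^ 2 = -1) {α : K → K}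
    (hα : ∀ x y, α (x + y) = α x + α y) :
    ((∀ x, α (i * x) = i * α x) → ∀ x, α x = α 1 * x) ∧
      ((∀ x, α (i * x) = -(i * α x)) → ∀ x, α x = α 1 * x ^ 3) := by
  have h0 : α 0 = 0 := by
    have := hα 0 0
    rw [add_zero] at this
    linear_combination -this
  have h3 : (3 : K) = 0 := by exact_mod_cast CharP.cast_eq_zero K 3
  have hs : ∀ s : ZMod 3, ∀ x, α (cc K s * x) = cc K s * α x := by
    intro s x
    have : s = 0 ∨ s = 1 ∨ s = 1 + 1 := by
      revert s; decide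
    rcases this with rfl | rfl | rfl
    · rw [map_zero, zero_mul, zero_mul, h0]
    · rw [map_one, one_mul, one_mul]
    · rw [map_add, map_one, add_mul, one_mul, hα]
      ring
  have hcube : ∀ s : ZMod 3, (cc K s) ^ 3 = cc K s := by
    intro s
    rw [← map_pow]
    congr 1
    revert s; decide
  constructor
  · intro h x
    obtain ⟨s, r, rfl⟩ := exists_coord (K := K) h9 hi x
    have e1 : cc K r * i = cc K r * (i * 1) := by ring
    have e2 : cc K s = cc K s * 1 := by ring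
    rw [hα, e1, hs, h, e2, hs]
    ring
  · intro h x
    obtain ⟨s, r, rfl⟩ := exists_coord (K := K) h9 hi x
    have e1 : cc K r * i = cc K r * (i * 1) := by ring
    have e2 : α (cc K s) = cc K s * α 1 := by rw [← hs, mul_one]
    have hF : Fact (Nat.Prime 3) := ⟨Nat.prime_three⟩
    rw [hα, e2, add_pow_char, mul_pow, hcube, hcube, e1, hs, h]
    linear_combination (-(α 1) * cc K r * i) * hi

end grp

section norm

variable {K : Type v'} [Field K] [Fintype K] [CharP K 3] {G : Type u'} [Group G]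
  {ρ : SpecialLinearGroup (Fin 2) K →* G}

/-- first step: normalising `U` -/
theorem exists_norm_U {h : G} (hh : ∀ x ∈ ρ.range, h * x * h⁻¹ ∈ ρ.range)
    (hh' : ∀ x ∈ ρ.range, h⁻¹ * x * h ∈ ρ.range) :
    ∃ z ∈ ρ.range, ∀ x : K, ∃ y : K, (z * h) * ρ (u x) * (z * h)⁻¹ = ρ (u y) := by
  have hF : Fact (Nat.Prime 3) := ⟨Nat.prime_three⟩
  obtain ⟨S, hS⟩ := exists_sylow (E := K) 3
  set ρ' := ρ.rangeRestrict with hρ'
  have hsurj : Function.Surjective ρ' := ρ.rangeRestrict_surjective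
  have hfin : Finite ρ.range := Finite.of_surjective _ hsurj
  have hp : IsPGroup 3 ((S : Subgroup (SpecialLinearGroup (Fin 2) K)).map ρ') := S.isPGroup'.map _
  have hidx : ¬ 3 ∣ ((S : Subgroup (SpecialLinearGroup (Fin 2) K)).map ρ').index := by
    intro h1
    have h2 := Subgroup.index_map_dvd (S : Subgroup (SpecialLinearGroup (Fin 2) K)) hsurj
    exact S.not_dvd_index (h1.trans h2)
  let S' : Sylow 3 ρ.range := hp.toSylow hidx
  let φ : MulAut ρ.range :=
    { toFun := fun x => ⟨h * x * h⁻¹, hh x x.2⟩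
      invFun := fun x => ⟨h⁻¹ * x * h, hh' x x.2⟩
      left_inv := fun x => Subtype.ext (by simp only; group)
      right_inv := fun x => Subtype.ext (by simp only; group)
      map_mul' := fun x y => Subtype.ext (by simp only [Subgroup.coe_mul]; group) }
  obtain ⟨z, hz⟩ := MulAction.exists_smul_eq ρ.range (φ • S') S'
  refine ⟨z, z.2, fun x => ?_⟩
  have h1 : (⟨ρ (u x), ⟨u x, rfl⟩⟩ : ρ.range) ∈ S' := by
    refine ⟨u x, ?_, rfl⟩
    change u x ∈ (S : Subgroup (SpecialLinearGroup (Fin 2) K))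
    rw [hS]
    exact ⟨Multiplicative.ofAdd x, rfl⟩
  have h2 : φ • (⟨ρ (u x), ⟨u x, rfl⟩⟩ : ρ.range) ∈ φ • (S' : Subgroup ρ.range) :=
    Subgroup.smul_mem_pointwise_smul _ _ _ h1
  have h3 : MulAut.conj z • (φ • (⟨ρ (u x), ⟨u x, rfl⟩⟩ : ρ.range)) ∈ MulAut.conj z • (φ • (S' : Subgroup ρ.range)) :=
    Subgroup.smul_mem_pointwise_smul _ _ _ h2
  have h4 : MulAut.conj z • (φ • (S' : Subgroup ρ.range)) = (S' : Subgroup ρ.range) := by
    rw [← Sylow.pointwise_smul_def, ← Sylow.coe_subgroup_smul, hz]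
  rw [h4] at h3
  obtain ⟨g, hg, hg'⟩ := h3
  have hg2 : g ∈ (S : Subgroup (SpecialLinearGroup (Fin 2) K)) := hg
  rw [hS] at hg2
  obtain ⟨y, rfl⟩ := hg2
  refine ⟨Multiplicative.toAdd y, ?_⟩
  have h5 := congrArg Subtype.val hg'
  change ρ (u (Multiplicative.toAdd y)) = z.1 * (h * ρ (u x) * h⁻¹) * z.1⁻¹ at h5
  rw [h5]
  group

/-- **Normal form.** -/
theorem normal_form (h9 : Fintype.card K = 9) (hker : KerZ ρ) (hz : ρ (t (-1)) = 1) {a : Kˣ} (ha : a ^ 4 = -1) {h : G}
    (hh : ∀ x ∈ ρ.range, h * x * h⁻¹ ∈ ρ.range) (hh' : ∀ x ∈ ρ.range, h⁻¹ * x * h ∈ ρ.range) :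
    ∃ z ∈ ρ.range, ∃ γ : Kˣ,
      ((∀ x : K, (z * h) * ρ (u x) = ρ (u (γ * x)) * (z * h)) ∧ (z * h) * ρ (t a) = ρ (t a) * (z * h)) ∨
      ((∀ x : K, (z * h) * ρ (u x) = ρ (u (γ * x ^ 3)) * (z * h)) ∧ (z * h) * ρ (t a) = ρ (t a⁻¹) * (z * h)) := by
  obtain ⟨z, hzm, hzU⟩ := exists_norm_U hh hh'
  choose α hα using hzU
  have h2K : (2 : K) ≠ 0 := by
    intro h
    have h3 : (3 : K) = 0 := by exact_mod_cast CharP.cast_eq_zero K 3
    apply one_ne_zero (α := K)
    linear_combination h3 - h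
  set b := z * h with hb
  have hadd : ∀ x y, α (x + y) = α x + α y := by
    intro x y
    apply u_inj hker
    rw [u_add (α x), map_mul, ← hα, ← hα, ← hα, u_add x y, map_mul]
    group
  have h00 : α 0 = 0 := by
    have := hadd 0 0
    rw [add_zero] at this
    linear_combination -this
  have hneg : ∀ x, α (-x) = - α x := by
    intro x
    have := hadd x (-x)
    rw [add_neg_cancel, h00] at this
    linear_combination -this
  have hne : ∀ x, x ≠ 0 → α x ≠ 0 := by
    intro x hx h0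
    apply hx
    apply u_inj hker
    have h1 := hα x
    rw [h0, u_zero, map_one] at h1
    have h2 : b * ρ (u x) = b := by
      have := congrArg (fun y => y * b) h1
      simp only [inv_mul_cancel_right, one_mul] at this
      exact this
    rw [u_zero, map_one]
    exact mul_eq_left.1 h2
  have hbP : ∀ x ∈ ρ.range, b * x * b⁻¹ ∈ ρ.range := by
    intro x hx
    have : b * x * b⁻¹ = z * (h * x * h⁻¹) * z⁻¹ := by
      rw [hb]; group
    rw [this]
    exact mul_mem (mul_mem hzm (hh x hx)) (inv_mem hzm)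
  obtain ⟨s, hs⟩ := hbP (ρ (t a)) ⟨t a, rfl⟩
  have hcj : ∀ x : K, ρ (s * u (α x) * s⁻¹) = ρ (u (α ((a : K) ^ 2 * x))) := by
    intro x
    have h1 : t a * u x * (t a)⁻¹ = u ((a : K) ^ 2 * x) := by
      rw [t_mul_u, mul_inv_cancel_right]
    rw [map_mul, map_mul, map_inv, hs, ← hα, ← hα, ← h1, map_mul, map_mul, map_inv]
    group
  have hlow := lower_zero hker (hne 1 one_ne_zero) (hcj 1)
  obtain ⟨c, d, rfl⟩ | ⟨c, d, e, rfl⟩ := bruhat s
  swap
  · exfalso
    rw [coe_uwu] at hlow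
    exact d.ne_zero hlow
  have hd : ∀ x, α ((a : K) ^ 2 * x) = (d : K) ^ 2 * α x := by
    intro x
    apply u_inj hker
    rw [← hcj x]
    congr 1
    have h1 : t d * u (α x) * (t d)⁻¹ = u ((d : K) ^ 2 * α x) := by
      rw [t_mul_u, mul_inv_cancel_right]
    calc u c * t d * u (α x) * (u c * t d)⁻¹ = u c * (t d * u (α x) * (t d)⁻¹) * (u c)⁻¹ := by group
      _ = u c * u ((d : K) ^ 2 * α x) * (u c)⁻¹ := by rw [h1]
      _ = u ((d : K) ^ 2 * α x) := by rw [← u_add, add_comm, u_add, mul_inv_cancel_right]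
  have ha4 : (a : K) ^ 4 = -1 := by
    rw [← Units.val_pow_eq_pow_val, ha, Units.val_neg, Units.val_one]
  have ha2 : ((a : K) ^ 2) ^ 2 = -1 := by rw [← ha4]; ring
  have hd4 : (d : K) ^ 4 = -1 := by
    have h1 := hd ((a : K) ^ 2 * 1)
    rw [hd 1, ← mul_assoc, ← sq, ha2, neg_one_mul, hneg] at h1
    apply mul_right_cancel₀ (hne 1 one_ne_zero)
    linear_combination -h1
  have hd2 : (d : K) ^ 2 = (a : K) ^ 2 ∨ (d : K) ^ 2 = -(a : K) ^ 2 := by
    have h1 : ((d : K) ^ 2 - (a : K) ^ 2) * ((d : K) ^ 2 + (a : K) ^ 2) = 0 := by linear_combination hd4 - ha4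
    rcases mul_eq_zero.1 h1 with h | h
    · exact Or.inl (sub_eq_zero.1 h)
    · exact Or.inr (eq_neg_of_add_eq_zero_left h)
  have hd1 : 1 - (d : K) ^ 2 ≠ 0 := by
    intro h
    have h1 : (d : K) ^ 2 = 1 := by linear_combination -h
    have h3 : (d : K) ^ 4 = 1 := by
      calc (d : K) ^ 4 = ((d : K) ^ 2) ^ 2 := by ring
        _ = 1 := by rw [h1, one_pow]
    rw [hd4] at h3
    apply h2K
    linear_combination -h3
  -- adjust
  set y := -c / (1 - (d : K) ^ 2) with hy
  have hyc : y + c - (d : K) ^ 2 * y = 0 := by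
    have : y * (1 - (d : K) ^ 2) = -c := by rw [hy, div_mul_cancel₀ _ hd1]
    linear_combination this
  have hb2 : (ρ (u y) * b) * ρ (t a) * (ρ (u y) * b)⁻¹ = ρ (t d) := by
    have h1 : (ρ (u y) * b) * ρ (t a) * (ρ (u y) * b)⁻¹ = ρ (u y) * (b * ρ (t a) * b⁻¹) * (ρ (u y))⁻¹ := by group
    rw [h1, ← hs, ← map_inv, ← map_mul, ← map_mul]
    congr 1
    have h2 : (u y)⁻¹ = u (-y) := by
      rw [inv_eq_iff_mul_eq_one, ← u_add, add_neg_cancel, u_zero]
    have h3 : t d * u (-y) = u ((d : K) ^ 2 * -y) * t d := t_mul_u d (-y)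
    rw [h2]
    calc u y * (u c * t d) * u (-y) = u y * u c * (t d * u (-y)) := by group
      _ = u y * u c * u ((d : K) ^ 2 * -y) * t d := by rw [h3]; group
      _ = t d := by
          rw [← u_add, ← u_add]
          have : y + c + (d : K) ^ 2 * -y = 0 := by linear_combination hyc
          rw [this, u_zero, one_mul]
  have hb1 : ∀ x, (ρ (u y) * b) * ρ (u x) * (ρ (u y) * b)⁻¹ = ρ (u (α x)) := by
    intro x
    have h1 : (ρ (u y) * b) * ρ (u x) * (ρ (u y) * b)⁻¹ = ρ (u y) * (b * ρ (u x) * b⁻¹) * (ρ (u y))⁻¹ := by group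
    rw [h1, hα, ← map_mul, ← u_add, add_comm, u_add, map_mul, mul_inv_cancel_right]
  have hmem : ρ (u y) * z ∈ ρ.range := mul_mem ⟨u y, rfl⟩ hzm
  have hzneg : ∀ e : Kˣ, ρ (t (-e)) = ρ (t e) := by
    intro e
    have : -e = (-1) * e := by rw [neg_one_mul]
    rw [this, t_mul, map_mul, hz, one_mul]
  obtain ⟨f1, f2⟩ := add_form (K := K) h9 ha2 hadd
  refine ⟨ρ (u y) * z, hmem, Units.mk0 (α 1) (hne 1 one_ne_zero), ?_⟩
  have hassoc : ρ (u y) * z * h = ρ (u y) * b := by rw [hb, mul_assoc]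
  rw [hassoc, Units.val_mk0]
  rcases hd2 with hd2 | hd2
  · left
    have hlin := f1 (fun x => by rw [hd, hd2])
    refine ⟨fun x => ?_, ?_⟩
    · rw [← hlin, ← hb1, inv_mul_cancel_right]
    · have h1 : d = a ∨ d = -a := by
        have h3 : ((d : K) - a) * ((d : K) + a) = 0 := by linear_combination hd2
        rcases mul_eq_zero.1 h3 with h | h
        · exact Or.inl (Units.ext (sub_eq_zero.1 h))
        · exact Or.inr (Units.ext (by rw [Units.val_neg]; exact eq_neg_of_add_eq_zero_left h))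
      have h2 : ρ (t d) = ρ (t a) := by
        rcases h1 with rfl | rfl
        · rfl
        · exact hzneg a
      rw [h2] at hb2
      exact mul_inv_eq_iff_eq_mul.1 hb2
  · right
    have hsemi := f2 (fun x => by rw [hd, hd2, neg_mul])
    refine ⟨fun x => ?_, ?_⟩
    · rw [← hsemi, ← hb1, inv_mul_cancel_right]
    · have h1 : d = a⁻¹ ∨ d = -a⁻¹ := by
        have h3 : ((d : K) * a - 1) * ((d : K) * a + 1) = 0 := by
          linear_combination (a : K) ^ 2 * hd2 - ha4
        rcases mul_eq_zero.1 h3 with h | h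
        · left
          rw [eq_inv_iff_mul_eq_one]
          exact Units.ext (sub_eq_zero.1 h)
        · right
          rw [← neg_eq_iff_eq_neg, eq_inv_iff_mul_eq_one, neg_mul]
          apply Units.ext
          rw [Units.val_neg, Units.val_mul, Units.val_one]
          linear_combination -h
      have h2 : ρ (t d) = ρ (t a⁻¹) := by
        rcases h1 with rfl | rfl
        · rfl
        · exact hzneg _
      rw [← h2, ← hb2, inv_mul_cancel_right]

end norm

section main

variable {K : Type v'} [Field K] [Fintype K] [CharP K 3] {F : Type u'} [Field F] [Finite F]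
  {ρ : SpecialLinearGroup (Fin 2) K →* GL (Fin 10) F}

theorem pw_surj (h9 : Fintype.card K = 9) {a : Kˣ} (ha : a ^ 4 = -1) (h2 : (2 : K) ≠ 0) (x : Kˣ) :
    ∃ m : ZMod 8, pw a m = x := by
  classical
  have hinj : Function.Injective (pw a) := fun i j h => pw_inj ha h2 h
  have hbij : Function.Bijective (pw a) :=
    (Fintype.bijective_iff_injective_and_card _).2 ⟨hinj, by rw [ZMod.card, Fintype.card_units, h9]⟩
  exact hbij.2 x

/-- the structure `Ten` over the algebraic closure -/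
theorem exists_ten (p : ℕ) [hp : Fact p.Prime] [CharP F p] (hp2 : p ≠ 2) (hp3 : p ≠ 3) (h9 : Fintype.card K = 9)
    (habs : ActsAbsolutelyIrreducibly (matrixSet ρ.range)) (hz : ρ (t (-1)) = 1) {a : Kˣ} (ha : a ^ 4 = -1) :
    ∃ (ψ : AddChar K (AlgebraicClosure F)) (v : Fin 10 → AlgebraicClosure F) (lam : Kˣ →* AlgebraicClosure F),
      Ten (extI ρ (AlgebraicClosure F)) ψ v lam a ∧ ∀ y, ψ (y ^ 3) = ψ y := by
  classical
  set k := AlgebraicClosure F with hk
  have hch : CharP k p := charP_of_injective_algebraMap (algebraMap F k).injective p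
  have h2 : (2 : k) ≠ 0 := by
    have h2F : (2 : F) ≠ 0 := by exact_mod_cast prime_ne_zero (F := F) p Nat.prime_two hp2
    rw [← map_ofNat (algebraMap F k) 2]
    exact (map_ne_zero _).2 h2F
  have h3 : (3 : k) ≠ 0 := by
    have h3F : (3 : F) ≠ 0 := by exact_mod_cast prime_ne_zero (F := F) p Nat.prime_three hp3
    rw [← map_ofNat (algebraMap F k) 3]
    exact (map_ne_zero _).2 h3F
  have hK : (Fintype.card K : k) ≠ 0 := by
    rw [h9]
    have : ((9 : ℕ) : k) = 3 * 3 := by norm_num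
    rw [this]
    exact mul_ne_zero h3 h3
  have h2K : (2 : K) ≠ 0 := by
    intro h
    have h3 : (3 : K) = 0 := by exact_mod_cast CharP.cast_eq_zero K 3
    apply one_ne_zero (α := K)
    linear_combination h3 - h
  set R := extI ρ k with hR
  have hspan : Submodule.span k (Set.range R) = ⊤ := span_extI ρ k (span_eq_topI ρ habs)
  have hdim : finrank k (Fin 10 → k) = 10 := by rw [Module.finrank_fintype_fun_eq_card, Fintype.card_fin]
  have hRne : R ≠ 1 := by
    intro h1
    have h2 : (Set.range R) ⊆ {1} := by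
      rw [h1]
      rintro _ ⟨g, rfl⟩
      rfl
    have h3 : (⊤ : Submodule k (Module.End k (Fin 10 → k))) ≤ Submodule.span k {1} := by
      rw [← hspan]
      exact Submodule.span_mono h2
    have h4 := (Submodule.finrank_mono h3).trans (finrank_span_le_card _)
    rw [finrank_top, Module.finrank_linearMap, hdim, Set.toFinset_singleton, Finset.card_singleton] at h4
    omega
  obtain ⟨ψ₀, hψ₀⟩ := exists_prim (K := K) hK
  obtain ⟨ψ, hψ, hF⟩ := exists_prim_frob h9 hψ₀
  have hall : ∀ b : K, b ≠ 0 → finrank k (LinearMap.range (E R ψ b)) = 1 := by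
    rcases dim_cases R hψ hK hspan hRne with ⟨h, -⟩ | ⟨-, h⟩
    · exact h
    · exfalso
      omega
  have hr0 : finrank k (LinearMap.range (E R ψ 0)) = 2 := by
    have h1 := finrank_eq R hψ hK
    rw [Finset.sum_congr rfl fun b hb => hall b (Finset.ne_of_mem_erase hb), Finset.sum_const,
      Finset.card_erase_of_mem (Finset.mem_univ _), Finset.card_univ, smul_eq_mul, mul_one] at h1
    omega
  obtain ⟨v, lam, h⟩ := exists_hw hψ hK (R := R) (fun h0 => by rw [h0, finrank_bot] at hr0; omega)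
  have hRz : R (t (-1)) = 1 := by
    rw [hR, extI_apply, hz, Units.val_one, Matrix.map_one _ (map_zero _) (map_one _), Matrix.toLin'_one]
    rfl
  have hl1 : lam (-1) = 1 := by
    have h3 := h.tor (-1)
    rw [hRz, Module.End.one_apply] at h3
    have h5 : (1 - lam (-1)) • v = 0 := by rw [sub_smul, ← h3, one_smul, sub_self]
    exact (sub_eq_zero.1 ((smul_eq_zero.1 h5).resolve_right h.ne)).symm
  have hl4 : lam a ^ 4 = 1 := by rw [← map_pow, ha, hl1]
  have hl2 : lam a ^ 2 = -1 := by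
    have h1 : (lam a ^ 2 - 1) * (lam a ^ 2 + 1) = 0 := by linear_combination hl4
    rcases mul_eq_zero.1 h1 with h3 | h3
    · exfalso
      obtain ⟨b, hb⟩ := h.exists_sq_ne hψ hK hspan hr0
      obtain ⟨m, rfl⟩ := pw_surj h9 ha h2K b
      apply hb
      rw [pw, map_pow, ← pow_mul, mul_comm, pow_mul, sub_eq_zero.1 h3, one_pow]
    · linear_combination h3
  exact ⟨ψ, v, lam, ⟨hψ, hK, h2, h2K, hspan, h, hr0, hall, ha, hl2, hdim⟩, hF⟩

/-- **The class of `ρ (u 1)` is preserved.** -/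
theorem class_preserved (p : ℕ) [hp : Fact p.Prime] [CharP F p] (hp2 : p ≠ 2) (hp3 : p ≠ 3) (h9 : Fintype.card K = 9)
    (habs : ActsAbsolutelyIrreducibly (matrixSet ρ.range)) (hz : ρ (t (-1)) = 1) (hker : KerZ ρ)
    {Q : (Fin 10 → F) → F} (hQ : IsNondegenerateQuadraticForm Q) {H : Subgroup (GL (Fin 10) F)}
    (hHQ : H ≤ omegaGL Q) (hPH : ρ.range ≤ H) (hn : ∀ h ∈ H, ∀ x ∈ ρ.range, h * x * h⁻¹ ∈ ρ.range)
    {h : GL (Fin 10) F} (hh : h ∈ H) : ∃ y ∈ ρ.range, h * ρ (u 1) * h⁻¹ = y * ρ (u 1) * y⁻¹ := by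
  classical
  obtain ⟨β, hβ⟩ := exists_i (E := K) h9
  have hβ4 : β ^ 4 = -1 := by
    apply Units.ext
    rw [Units.val_pow_eq_pow_val, Units.val_neg, Units.val_one, ← hβ]
    ring
  obtain ⟨z, hzm, γ, hcase⟩ := normal_form h9 hker hz hβ4 (hn h hh) (fun x hx => by
    have := hn h⁻¹ (inv_mem hh) x hx
    rwa [inv_inv] at this)
  have hconj : (z * h) * ρ (u 1) * (z * h)⁻¹ = ρ (u γ) := by
    rcases hcase with ⟨h1, -⟩ | ⟨h1, -⟩
    · rw [h1, mul_inv_cancel_right, mul_one]
    · rw [h1, mul_inv_cancel_right, one_pow, mul_one]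
  by_cases hsq : ∃ δ : Kˣ, γ = δ ^ 2
  · obtain ⟨δ, rfl⟩ := hsq
    refine ⟨z⁻¹ * ρ (t δ), mul_mem (inv_mem hzm) ⟨_, rfl⟩, ?_⟩
    have h1 : ρ (t δ) * ρ (u 1) * (ρ (t δ))⁻¹ = (z * h) * ρ (u 1) * (z * h)⁻¹ := by
      rw [hconj, ← map_mul, ← map_inv, ← map_mul, t_mul_u, mul_inv_cancel_right, mul_one, Units.val_pow_eq_pow_val]
    calc h * ρ (u 1) * h⁻¹ = z⁻¹ * ((z * h) * ρ (u 1) * (z * h)⁻¹) * z := by group
      _ = z⁻¹ * (ρ (t δ) * ρ (u 1) * (ρ (t δ))⁻¹) * z := by rw [h1]
      _ = z⁻¹ * ρ (t δ) * ρ (u 1) * (z⁻¹ * ρ (t δ))⁻¹ := by group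
  · exfalso
    have h2K : (2 : K) ≠ 0 := by
      intro h
      have h3 : (3 : K) = 0 := by exact_mod_cast CharP.cast_eq_zero K 3
      apply one_ne_zero (α := K)
      linear_combination h3 - h
    obtain ⟨m, hm⟩ := pw_surj h9 hβ4 h2K γ⁻¹
    have hmodd : m.val % 2 = 1 := by
      by_contra hev
      apply hsq
      refine ⟨(β ^ (m.val / 2))⁻¹, ?_⟩
      rw [inv_pow, ← pow_mul, Nat.div_mul_cancel (by omega), ← inv_eq_iff_eq_inv, ← hm]
      rfl
    obtain ⟨ψ, v, lam, S, hF⟩ := exists_ten (ρ := ρ) p hp2 hp3 h9 habs hz hβ4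
    set k := AlgebraicClosure F with hk
    -- the form
    obtain ⟨f, hf1, hf2, hf3⟩ := exists_lift H.subtype k hQ.polar_bilinear hQ.nondegenerate (by
      rintro _ ⟨_, ⟨g, rfl⟩, rfl⟩ x y
      exact H933.O10.polar_mulVec (hHQ g.2) x y) (Or.inl rfl)
      (fun x y => by rw [QuadraticMap.polar_comm, one_mul])
    have hsym : ∀ x y, f x y = f y x := fun x y => by rw [hf3 y x, map_one, one_mul]
    have hnd : ∀ x, (∀ y, f x y = 0) → x = 0 := fun x hx => hf2 x fun y => by rw [hsym]; exact hx y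
    have hinv : ∀ g x y, f (extI ρ k g x) (extI ρ k g y) = f x y := fun g x y =>
      hf1 ⟨ρ g, hPH ⟨g, rfl⟩⟩ x y
    have hzh : z * h ∈ H := mul_mem (hPH hzm) hh
    set T : Module.End k (Fin 10 → k) := extI H.subtype k ⟨z * h, hzh⟩ with hT
    have hTf : ∀ x y, f (T x) (T y) = f x y := hf1 _
    have hrel : ∀ g g' : SpecialLinearGroup (Fin 2) K, (z * h) * ρ g = ρ g' * (z * h) →
        T * extI ρ k g = extI ρ k g' * T := by
      intro g g' hg
      have h1 : (⟨z * h, hzh⟩ : H) * ⟨ρ g, hPH ⟨g, rfl⟩⟩ = ⟨ρ g', hPH ⟨g', rfl⟩⟩ * ⟨z * h, hzh⟩ := Subtype.ext hg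
      have h2 := congrArg (extI H.subtype k) h1
      rw [map_mul, map_mul] at h2
      exact h2
    have hdet : LinearMap.det T = 1 := by
      have h1 : T = Matrix.toLin' ((algebraMap F k).mapMatrix ((z * h : GL (Fin 10) F) : Matrix (Fin 10) (Fin 10) F)) := rfl
      have h2 := H922.omegaGL_le_specialLinear Q (hHQ hzh)
      have h3 : ((z * h : GL (Fin 10) F) : Matrix (Fin 10) (Fin 10) F).det = 1 := by
        rw [← Matrix.GeneralLinearGroup.val_det_apply]
        exact congrArg Units.val h2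
      rw [h1, LinearMap.det_toLin', ← RingHom.map_det, h3, map_one]
    have hneg : LinearMap.det T = -1 := by
      rcases hcase with ⟨h1, h2⟩ | ⟨h1, h2⟩
      · exact S.det_lin f hsym hnd hinv T hTf hmodd hm.symm (fun x => hrel _ _ (h1 x)) (hrel _ _ h2)
      · exact S.det_semi f hsym hnd hinv T hTf hF hmodd hm.symm (fun x => hrel _ _ (h1 x)) (hrel _ _ h2)
    rw [hdet] at hneg
    apply S.two
    linear_combination hneg

end main

end Cfsg.Agent.H937.T2
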