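import Cfsg.Agent.H937.T2Fields
import Cfsg.Agent.H464.L2TrG

/-!
# Outer automorphisms of `A₆` have determinant `-1` in dimension ten (helper937)

`|K| = 9`, `R : SL₂(K) → End V` irreducible of dimension ten with `R (-1) = 1`, `f` an invariant symmetric form, `T` an
isometry of `f` normalising `R(U)` and `R(T)` and inducing on `U` the map `x ↦ γ x` or `x ↦ γ x³` with `γ` a
non-square: `det T = -1`.
-/

set_option autoImplicit false
set_option linter.unusedSectionVars false

namespace Cfsg.Agent.H937.T2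

open Matrix Module Cfsg Cfsg.Geo Cfsg.Agent.H464.Sl2 Cfsg.Agent.H931.L2T Cfsg.Agent.H915.LD

/-! ### general lemmas -/

/-- the determinant of a monomial map -/
theorem det_mono {I : Type*} [Fintype I] [DecidableEq I] {k V : Type*} [Field k] [AddCommGroup V] [Module k V]
    (B : Basis I k V) (T : V →ₗ[k] V) (π : Equiv.Perm I) (c : I → k) (h : ∀ i, T (B i) = c i • B (π i)) :
    LinearMap.det T = ((Equiv.Perm.sign π : ℤ) : k) * ∏ i, c i := by
  rw [← LinearMap.det_toMatrix B T]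
  have h1 : LinearMap.toMatrix B B T = (Matrix.diagonal c).submatrix π.symm id := by
    ext i j
    rw [LinearMap.toMatrix_apply, h, map_smul, Basis.repr_self, Finsupp.smul_apply, smul_eq_mul, Matrix.submatrix_apply,
      id_eq]
    by_cases hij : π j = i
    · rw [hij, Finsupp.single_eq_same, ← hij, Equiv.symm_apply_apply, Matrix.diagonal_apply_eq, mul_one]
    · rw [Finsupp.single_eq_of_ne (Ne.symm hij), mul_zero, Matrix.diagonal_apply_ne]
      intro h2
      apply hij
      rw [← h2, Equiv.apply_symm_apply]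
  rw [h1, Matrix.det_permute, Matrix.det_diagonal, Equiv.Perm.sign_symm]

/-- `j ↦ 3 j + m` -/
def semi (m : ZMod 8) : Equiv.Perm (ZMod 8) where
  toFun j := 3 * j + m
  invFun j := 3 * (j - m)
  left_inv j := by
    revert m j; decide
  right_inv j := by revert m j; decide

theorem sign_lin : ∀ m : ZMod 8, m.val % 2 = 1 → Equiv.Perm.sign (Equiv.addRight m) = -1 := by decide

theorem odd_cases : ∀ m : ZMod 8, m.val % 2 = 1 → m = 1 ∨ m = 3 ∨ m = 5 ∨ m = 7 := by decide

theorem dbl_cases : ∀ m : ZMod 8, m.val % 2 = 1 → m + m = 2 ∨ m + m = 6 := by decide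

theorem four_mul : ∀ m : ZMod 8, m.val % 2 = 1 → 3 * m + m = 4 := by decide

theorem sign_semi : ∀ m : ZMod 8, m.val % 2 = 1 → Equiv.Perm.sign (semi m) = 1 := by decide

section field

variable {K : Type*} [Field K]

/-- the powers of an element of order eight -/
def pw (a : Kˣ) (j : ZMod 8) : Kˣ := a ^ j.val

theorem pw_add {a : Kˣ} (h8 : a ^ 8 = 1) (i j : ZMod 8) : pw a (i + j) = pw a i * pw a j := by
  unfold pw
  rw [ZMod.val_add, ← pow_add]
  conv_rhs => rw [← Nat.mod_add_div (i.val + j.val) 8, pow_add, pow_mul, h8, one_pow, mul_one]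

theorem pw_four {a : Kˣ} (h4 : a ^ 4 = -1) : pw a 4 = -1 := h4

theorem pw_inj {a : Kˣ} (h4 : a ^ 4 = -1) (h2 : (2 : K) ≠ 0) {i j : ZMod 8} (h : pw a i = pw a j) : i = j := by
  have hn1 : (-1 : Kˣ) ≠ 1 := by
    intro h
    have := congrArg Units.val h
    rw [Units.val_neg, Units.val_one] at this
    apply h2
    linear_combination -this
  have ho : orderOf a = 8 := by
    have : orderOf a = 2 ^ (2 + 1) := by
      apply orderOf_eq_prime_pow
      · rw [show 2 ^ 2 = 4 by norm_num, h4]; exact hn1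
      · rw [show 2 ^ (2 + 1) = 4 * 2 by norm_num, pow_mul, h4]; simp
    rw [this]
    norm_num
  have h1 := (pow_inj_mod (x := a) (n := i.val) (m := j.val)).1 h
  rw [ho, Nat.mod_eq_of_lt (ZMod.val_lt i), Nat.mod_eq_of_lt (ZMod.val_lt j)] at h1
  exact ZMod.val_injective 8 h1

/-- a Frobenius-invariant primitive character -/
theorem exists_prim_frob [Fintype K] (h9 : Fintype.card K = 9) [CharP K 3] {k : Type*} [Field k] {ψ : AddChar K k}
    (hψ : ψ.IsPrimitive) : ∃ ψ' : AddChar K k, ψ'.IsPrimitive ∧ ∀ y, ψ' (y ^ 3) = ψ' y := by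
  have h1 : ψ ≠ 1 := by
    have := hψ (a := 1) one_ne_zero
    intro h
    apply this
    rw [h]
    ext x
    rfl
  obtain ⟨c, hc⟩ := AddChar.ne_one_iff.1 h1
  have hf : Fact (Nat.Prime 3) := ⟨Nat.prime_three⟩
  let φ : K →+ K :=
    { toFun := fun y => c * (y + y ^ 3)
      map_zero' := by simp
      map_add' := fun x y => by
        rw [add_pow_char]
        ring }
  refine ⟨ψ.compAddMonoidHom φ, AddChar.IsPrimitive.of_ne_one ?_, ?_⟩
  · rw [AddChar.ne_one_iff]
    refine ⟨-1, ?_⟩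
    have h3 : (3 : K) = 0 := by exact_mod_cast CharP.cast_eq_zero K 3
    have h2 : φ (-1) = c := by
      change c * (-1 + (-1) ^ 3) = c
      linear_combination -c * h3
    rw [AddChar.compAddMonoidHom_apply, h2]
    exact hc
  · intro y
    rw [AddChar.compAddMonoidHom_apply, AddChar.compAddMonoidHom_apply]
    congr 1
    change c * (y ^ 3 + (y ^ 3) ^ 3) = c * (y + y ^ 3)
    have h2 : y ^ 9 = y := by rw [← h9]; exact FiniteField.pow_card y
    rw [← pow_mul, show 3 * 3 = 9 by norm_num, h2]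
    ring

end field

/-! ### the module -/

section rep

variable {K : Type*} [Field K] [Fintype K] {k : Type*} [Field k] {V : Type*} [AddCommGroup V]
  [Module k V] [FiniteDimensional k V] {R : SpecialLinearGroup (Fin 2) K →* Module.End k V} {ψ : AddChar K k}
  {v : V} {lam : Kˣ →* k} {a : Kˣ}

/-- the weight vectors -/
noncomputable def Wv (R : SpecialLinearGroup (Fin 2) K →* Module.End k V) (ψ : AddChar K k) (v : V) (a : Kˣ)
    (j : ZMod 8) : V := E R ψ (pw a j : K) (R (w 1) v)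

/-- the hypotheses -/
structure Ten (R : SpecialLinearGroup (Fin 2) K →* Module.End k V) (ψ : AddChar K k) (v : V) (lam : Kˣ →* k)
    (a : Kˣ) : Prop where
  prim : ψ.IsPrimitive
  card : (Fintype.card K : k) ≠ 0
  two : (2 : k) ≠ 0
  twoK : (2 : K) ≠ 0
  span : Submodule.span k (Set.range R) = ⊤
  hw : Hw R ψ v lam
  r0 : finrank k (LinearMap.range (E R ψ 0)) = 2
  r1 : ∀ b : K, b ≠ 0 → finrank k (LinearMap.range (E R ψ b)) = 1
  four : a ^ 4 = -1
  lam2 : lam a ^ 2 = -1
  dim : finrank k V = 10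

variable (S : Ten R ψ v lam a)

include S

theorem Ten.eight : a ^ 8 = 1 := by
  rw [show 8 = 4 * 2 by norm_num, pow_mul, S.four]; simp

theorem Ten.lam_ne : lam a ≠ 0 := by
  intro h
  have := S.lam2
  rw [h] at this
  apply S.two
  linear_combination 2 * this

theorem Ten.E_ne {b : K} (hb : b ≠ 0) : E R ψ b ≠ 0 := by
  intro h
  have := S.r1 b hb
  rw [h, LinearMap.range_zero, finrank_bot] at this
  exact zero_ne_one this

theorem Ten.W_ne (j : ZMod 8) : Wv R ψ v a j ≠ 0 := by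
  classical
  intro h
  exact S.E_ne (pw a j).ne_zero (S.hw.E_eq_zero S.prim S.card S.span (pw a j).ne_zero h)

theorem Ten.W_mem (j : ZMod 8) : E R ψ (pw a j : K) (Wv R ψ v a j) = Wv R ψ v a j := by
  unfold Wv
  rw [← Module.End.mul_apply, E_mul_self R S.prim S.card]

theorem Ten.W_other {j : ZMod 8} {b : K} (hb : b ≠ pw a j) : E R ψ b (Wv R ψ v a j) = 0 := by
  unfold Wv
  rw [← Module.End.mul_apply, E_mul_of_ne R S.prim S.card hb, LinearMap.zero_apply]

/-- the weight spaces are lines -/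
theorem Ten.line {j : ZMod 8} {x : V} (hx : E R ψ (pw a j : K) x = x) : ∃ c : k, x = c • Wv R ψ v a j := by
  have h1 := S.r1 (pw a j : K) (pw a j).ne_zero
  have h2 : Wv R ψ v a j ∈ LinearMap.range (E R ψ (pw a j : K)) := ⟨_, S.W_mem j⟩
  obtain ⟨c, hc⟩ := (finrank_eq_one_iff_of_nonzero' (⟨_, h2⟩ : LinearMap.range (E R ψ (pw a j : K)))
    (fun h => S.W_ne j (congrArg Subtype.val h))).1 h1 ⟨x, ⟨x, hx⟩⟩
  exact ⟨c, (congrArg Subtype.val hc).symm⟩

theorem Ten.t_W (j : ZMod 8) : R (t a) (Wv R ψ v a j) = (lam a)⁻¹ • Wv R ψ v a (j + 6) := by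
  unfold Wv
  have h1 : (pw a j : K) / (a : K) ^ 2 = (pw a (j + 6) : K) := by
    rw [pw_add S.eight, div_eq_iff (pow_ne_zero _ a.ne_zero)]
    have h2 : pw a 6 = a ^ 6 := rfl
    rw [h2, ← Units.val_pow_eq_pow_val, ← Units.val_mul, mul_assoc, ← pow_add, S.eight, mul_one]
  rw [← Module.End.mul_apply, t_mul_E, h1, Module.End.mul_apply, ← Module.End.mul_apply (R (t a)), ← map_mul]
  have h2 : t a * w 1 = w (1 : Kˣ) * t a⁻¹ := Cfsg.Agent.H464.Sl2.t_mul_w a 1
  rw [h2, map_mul, Module.End.mul_apply, S.hw.tor, map_smul, map_smul, lam_inv]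

theorem Ten.v_ne : v ≠ 0 := S.hw.ne

theorem Ten.E_v {b : K} (hb : b ≠ 0) : E R ψ b v = 0 := by
  classical
  exact S.hw.E_v S.prim S.card hb

theorem Ten.E_zero_vs : E R ψ 0 (vs R ψ v) = vs R ψ v := by
  unfold vs
  rw [← Module.End.mul_apply, E_mul_self R S.prim S.card]

theorem Ten.E_vs {b : K} (hb : b ≠ 0) : E R ψ b (vs R ψ v) = 0 := by
  unfold vs
  rw [← Module.End.mul_apply, E_mul_of_ne R S.prim S.card hb, LinearMap.zero_apply]

/-- the basis -/
theorem Ten.exists_basis : ∃ B : Basis (Fin 2 ⊕ ZMod 8) k V, B (Sum.inl 0) = v ∧ B (Sum.inl 1) = vs R ψ v ∧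
    ∀ j, B (Sum.inr j) = Wv R ψ v a j := by
  have hli : LinearIndependent k (Sum.elim ![v, vs R ψ v] (Wv R ψ v a) : Fin 2 ⊕ ZMod 8 → V) := by
    rw [Fintype.linearIndependent_iff]
    intro g hg
    rw [Fintype.sum_sum_type] at hg
    simp only [Sum.elim_inl, Sum.elim_inr, Fin.sum_univ_two, Matrix.cons_val_zero, Matrix.cons_val_one] at hg
    have h1 : ∀ j, g (Sum.inr j) = 0 := by
      intro j
      have h2 := congrArg (E R ψ (pw a j : K)) hg
      rw [map_add, map_add, map_smul, map_smul, S.E_v (pw a j).ne_zero, S.E_vs (pw a j).ne_zero, smul_zero, smul_zero,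
        zero_add, zero_add, map_sum, map_zero, Finset.sum_eq_single j] at h2
      · rw [map_smul, S.W_mem] at h2
        exact (smul_eq_zero.1 h2).resolve_right (S.W_ne j)
      · intro l _ hl
        rw [map_smul, S.W_other, smul_zero]
        intro h3
        exact hl (pw_inj S.four S.twoK (Units.ext h3)).symm
      · intro h
        exact absurd (Finset.mem_univ _) h
    have h2 : g (Sum.inl 0) • v + g (Sum.inl 1) • vs R ψ v = 0 := by
      rw [← hg]
      simp [h1]
    obtain ⟨h3, h4⟩ := S.hw.indep S.prim S.card S.span S.r0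
    have h5 : g (Sum.inl 1) = 0 := by
      by_contra h
      apply h3
      rw [Submodule.mem_span_singleton]
      refine ⟨-((g (Sum.inl 1))⁻¹ * g (Sum.inl 0)), ?_⟩
      have h6 : vs R ψ v = (g (Sum.inl 1))⁻¹ • (g (Sum.inl 1) • vs R ψ v) := by
        rw [smul_smul, inv_mul_cancel₀ h, one_smul]
      rw [h6, eq_neg_of_add_eq_zero_right h2, smul_neg, smul_smul, neg_smul]
    have h6 : g (Sum.inl 0) = 0 := by
      rw [h5, zero_smul, add_zero] at h2
      exact (smul_eq_zero.1 h2).resolve_right S.v_ne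
    rintro (i | j)
    · fin_cases i
      · exact h6
      · exact h5
    · exact h1 j
  have hc : Fintype.card (Fin 2 ⊕ ZMod 8) = finrank k V := by
    rw [S.dim, Fintype.card_sum, ZMod.card, Fintype.card_fin]
  refine ⟨basisOfLinearIndependentOfCardEqFinrank hli hc, ?_, ?_, fun j => ?_⟩ <;>
    rw [coe_basisOfLinearIndependentOfCardEqFinrank] <;> rfl

/-! #### the form -/

section form

variable (f : V →ₗ[k] V →ₗ[k] k) (hsym : ∀ x y, f x y = f y x) (hnd : ∀ x, (∀ y, f x y = 0) → x = 0)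
  (hinv : ∀ g x y, f (R g x) (R g y) = f x y)

include hinv

theorem Ten.f_E (b : K) (x y : V) : f (E R ψ b x) y = f x (E R ψ (-b) y) := adj R f hinv b x y

theorem Ten.f_W {j l : ZMod 8} (h : l ≠ j + 4) : f (Wv R ψ v a j) (Wv R ψ v a l) = 0 := by
  rw [← S.W_mem j, S.f_E f hinv, S.W_other, map_zero]
  intro h1
  apply h
  apply pw_inj S.four S.twoK
  rw [pw_add S.eight, pw_four S.four, mul_neg_one]
  apply Units.ext
  rw [Units.val_neg, h1]

theorem Ten.f_v_W (j : ZMod 8) : f v (Wv R ψ v a j) = 0 := by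
  have h := S.f_E f hinv 0 v (Wv R ψ v a j)
  rw [S.hw.fix] at h
  rw [h, neg_zero, S.W_other (pw a j).ne_zero.symm, map_zero]

theorem Ten.f_W_v (j : ZMod 8) : f (Wv R ψ v a j) v = 0 := by
  rw [← S.W_mem j, S.f_E f hinv, S.E_v (neg_ne_zero.2 (pw a j).ne_zero), map_zero]

theorem Ten.f_W_vs (j : ZMod 8) : f (Wv R ψ v a j) (vs R ψ v) = 0 := by
  rw [← S.W_mem j, S.f_E f hinv, S.E_vs (neg_ne_zero.2 (pw a j).ne_zero), map_zero]

theorem Ten.f_v_v : f v v = 0 := by
  have h1 := hinv (t a) v v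
  rw [S.hw.tor, map_smul, map_smul, LinearMap.smul_apply, smul_eq_mul, smul_eq_mul, ← mul_assoc, ← sq, S.lam2] at h1
  have h2 : (2 : k) * f v v = 0 := by linear_combination -h1
  exact (mul_eq_zero.1 h2).resolve_left S.two

include hnd in
theorem Ten.f_v_vs : f v (vs R ψ v) ≠ 0 := by
  intro h
  obtain ⟨B, h1, h2, h3⟩ := S.exists_basis
  apply S.v_ne
  apply hnd
  intro y
  have h4 : f v = 0 := by
    apply B.ext
    rintro (i | j)
    · fin_cases i
      · change f v (B (Sum.inl 0)) = _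
        rw [h1, S.f_v_v f hinv]; rfl
      · change f v (B (Sum.inl 1)) = _
        rw [h2, h]; rfl
    · rw [h3, S.f_v_W f hinv]; rfl
  rw [h4]; rfl

/-- the numbers `f (W j) (W (j+4))` -/
noncomputable def nn (f : V →ₗ[k] V →ₗ[k] k) (R : SpecialLinearGroup (Fin 2) K →* Module.End k V) (ψ : AddChar K k)
    (v : V) (a : Kˣ) (j : ZMod 8) : k := f (Wv R ψ v a j) (Wv R ψ v a (j + 4))

include hnd in
theorem Ten.nn_ne (j : ZMod 8) : nn f R ψ v a j ≠ 0 := by
  intro h
  obtain ⟨B, h1, h2, h3⟩ := S.exists_basis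
  apply S.W_ne j
  apply hnd
  intro y
  have h4 : f (Wv R ψ v a j) = 0 := by
    apply B.ext
    rintro (i | l)
    · fin_cases i
      · change f (Wv R ψ v a j) (B (Sum.inl 0)) = _
        rw [h1, S.f_W_v f hinv]; rfl
      · change f (Wv R ψ v a j) (B (Sum.inl 1)) = _
        rw [h2, S.f_W_vs f hinv]; rfl
    · rw [h3]
      by_cases hl : l = j + 4
      · rw [hl]; exact h
      · rw [S.f_W f hinv hl]; rfl
  rw [h4]; rfl

theorem Ten.nn_shift (j : ZMod 8) : nn f R ψ v a (j + 6) = - nn f R ψ v a j := by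
  have h1 := hinv (t a) (Wv R ψ v a j) (Wv R ψ v a (j + 4))
  rw [S.t_W, S.t_W, map_smul, map_smul, LinearMap.smul_apply, smul_eq_mul, smul_eq_mul] at h1
  have h2 : j + 4 + 6 = j + 6 + 4 := by ring
  rw [h2] at h1
  change (lam a)⁻¹ * ((lam a)⁻¹ * nn f R ψ v a (j + 6)) = nn f R ψ v a j at h1
  have h3 := S.lam2
  have h4 := S.lam_ne
  have h5 : (lam a)⁻¹ * lam a = 1 := inv_mul_cancel₀ h4
  calc nn f R ψ v a (j + 6) = ((lam a)⁻¹ * lam a) * ((lam a)⁻¹ * lam a) * nn f R ψ v a (j + 6) := by rw [h5]; ring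
    _ = lam a ^ 2 * ((lam a)⁻¹ * ((lam a)⁻¹ * nn f R ψ v a (j + 6))) := by ring
    _ = - nn f R ψ v a j := by rw [h1, h3]; ring

/-! #### the isometry -/

variable (T : V →ₗ[k] V) (hT : ∀ x y, f (T x) (T y) = f x y)

omit hinv S in
/-- the weights are permuted -/
theorem T_E_lin {γ : Kˣ} (hTu : ∀ x : K, T * R (u x) = R (u (γ * x)) * T) (b : K) :
    T * E R ψ b = E R ψ ((γ⁻¹ : Kˣ) * b) * T := by
  unfold E
  rw [mul_smul_comm, smul_mul_assoc, Finset.mul_sum, Finset.sum_mul]
  congr 1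
  rw [← Equiv.sum_comp (Equiv.mulLeft₀ (γ : K) γ.ne_zero)
    (fun x : K => (ψ (-((γ⁻¹ : Kˣ) * b * x)) • R (u x)) * T)]
  refine Finset.sum_congr rfl fun x _ => ?_
  rw [mul_smul_comm, hTu, Equiv.mulLeft₀_apply, smul_mul_assoc]
  congr 3
  have : ((γ⁻¹ : Kˣ) : K) * γ = 1 := by simp
  linear_combination (-(b * x)) * this

omit hinv S in
/-- the weights are permuted, semilinear case -/
theorem T_E_semi [CharP K 3] (hF : ∀ y, ψ (y ^ 3) = ψ y) {γ : Kˣ}
    (hTu : ∀ x : K, T * R (u x) = R (u (γ * x ^ 3)) * T) (b : K) :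
    T * E R ψ b = E R ψ ((γ⁻¹ : Kˣ) * b ^ 3) * T := by
  have h3 : Fact (Nat.Prime 3) := ⟨Nat.prime_three⟩
  unfold E
  rw [mul_smul_comm, smul_mul_assoc, Finset.mul_sum, Finset.sum_mul]
  congr 1
  rw [← Equiv.sum_comp (((frobeniusEquiv K 3).toEquiv).trans (Equiv.mulLeft₀ (γ : K) γ.ne_zero))
    (fun x : K => (ψ (-((γ⁻¹ : Kˣ) * b ^ 3 * x)) • R (u x)) * T)]
  refine Finset.sum_congr rfl fun x _ => ?_
  have h4 : (((frobeniusEquiv K 3).toEquiv).trans (Equiv.mulLeft₀ (γ : K) γ.ne_zero)) x = γ * x ^ 3 := rfl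
  rw [mul_smul_comm, hTu, h4, smul_mul_assoc, ← hF (-(b * x))]
  congr 3
  have : ((γ⁻¹ : Kˣ) : K) * γ = 1 := by simp
  linear_combination (b ^ 3 * x ^ 3) * this

omit hinv in
/-- the numbers `c j` -/
theorem Ten.exists_c {τ : ZMod 8 → ZMod 8} (hTE : ∀ j, T * E R ψ (pw a j : K) = E R ψ (pw a (τ j) : K) * T) :
    ∃ c : ZMod 8 → k, ∀ j, T (Wv R ψ v a j) = c j • Wv R ψ v a (τ j) := by
  have h1 : ∀ j, ∃ c : k, T (Wv R ψ v a j) = c • Wv R ψ v a (τ j) := by
    intro j
    apply S.line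
    rw [← Module.End.mul_apply, ← hTE, Module.End.mul_apply, S.W_mem]
  choose c hc using h1
  exact ⟨c, hc⟩

include hT in
theorem Ten.c_rel {τ : ZMod 8 → ZMod 8} (hτ : ∀ j, τ (j + 4) = τ j + 4) {c : ZMod 8 → k}
    (hc : ∀ j, T (Wv R ψ v a j) = c j • Wv R ψ v a (τ j)) (j : ZMod 8) :
    c j * c (j + 4) * nn f R ψ v a (τ j) = nn f R ψ v a j := by
  have h1 := hT (Wv R ψ v a j) (Wv R ψ v a (j + 4))
  rw [hc, hc, map_smul, map_smul, LinearMap.smul_apply, smul_eq_mul, smul_eq_mul, hτ] at h1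
  change _ = nn f R ψ v a j at h1
  rw [← h1]
  unfold nn
  ring

omit hinv in
/-- the torus character on the weight vectors, inverse -/
theorem Ten.t_inv_W (j : ZMod 8) : R (t a⁻¹) (Wv R ψ v a j) = lam a • Wv R ψ v a (j + 2) := by
  have h1 := S.t_W (j + 2)
  have h2 : j + 2 + 6 = j := by
    have : (8 : ZMod 8) = 0 := by decide
    linear_combination this
  rw [h2] at h1
  have h3 : R (t a⁻¹) (R (t a) (Wv R ψ v a (j + 2))) = Wv R ψ v a (j + 2) := by
    rw [← Module.End.mul_apply, ← map_mul, ← t_mul, inv_mul_cancel, t_one, map_one, Module.End.one_apply]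
  rw [h1, map_smul] at h3
  rw [← h3, smul_smul, mul_inv_cancel₀ S.lam_ne, one_smul]

omit hinv in
/-- the torus on the fixed vectors -/
theorem Ten.eig {x : V} (hx : E R ψ 0 x = x) : (R (t a) x = lam a • x → ∃ c : k, x = c • v) ∧
    (R (t a) x = (lam a)⁻¹ • x → ∃ c : k, x = c • vs R ψ v) := by
  have h1 := S.hw.range_le S.prim S.card S.span (show x ∈ LinearMap.range (E R ψ 0) from ⟨x, hx⟩)
  obtain ⟨p, q, rfl⟩ := Submodule.mem_span_pair.1 h1
  have h2 := S.lam_ne
  have h3 : lam a - (lam a)⁻¹ ≠ 0 := by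
    intro h
    apply S.two
    have h4 : lam a * (lam a)⁻¹ = 1 := mul_inv_cancel₀ h2
    linear_combination (-lam a) * h + S.lam2 - h4
  obtain ⟨B, b1, b2, -⟩ := S.exists_basis
  have hv := S.v_ne
  have hvs : vs R ψ v ≠ 0 := by
    rw [← b2]
    exact B.ne_zero _
  rw [map_add, map_smul, map_smul, S.hw.tor, S.hw.t_vs, smul_add, smul_add]
  constructor
  · intro h
    have h4 : (q * ((lam a)⁻¹ - lam a)) • vs R ψ v = 0 := by
      rw [smul_comm p, smul_comm (lam a) q] at h
      have h5 := add_left_cancel h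
      rw [mul_smul, sub_smul, smul_sub, h5, sub_self]
    have h5 := (mul_eq_zero.1 ((smul_eq_zero.1 h4).resolve_right hvs)).resolve_right (fun h6 => h3 (by
      rw [← neg_sub, h6, neg_zero]))
    exact ⟨p, by rw [h5, zero_smul, add_zero]⟩
  · intro h
    have h4 : (p * (lam a - (lam a)⁻¹)) • v = 0 := by
      rw [smul_comm q, smul_comm (lam a)⁻¹ p] at h
      have h5 := add_right_cancel h
      rw [mul_smul, sub_smul, smul_sub, h5, sub_self]
    have h5 := (mul_eq_zero.1 ((smul_eq_zero.1 h4).resolve_right hv)).resolve_right h3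
    exact ⟨q, by rw [h5, zero_smul, zero_add]⟩

include hsym hnd hT in
/-- **The linear case.** -/
theorem Ten.det_lin {m : ZMod 8} (hm : m.val % 2 = 1) {γ : Kˣ} (hγ : γ⁻¹ = pw a m)
    (hTu : ∀ x : K, T * R (u x) = R (u (γ * x)) * T) (hTt : T * R (t a) = R (t a) * T) : LinearMap.det T = -1 := by
  have hTE : ∀ j, T * E R ψ (pw a j : K) = E R ψ (pw a (j + m) : K) * T := by
    intro j
    rw [T_E_lin T hTu, hγ, ← Units.val_mul, ← pw_add S.eight, add_comm m j]
  obtain ⟨c, hc⟩ := S.exists_c T (τ := fun j => j + m) hTE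
  have hrel := S.c_rel f hinv T hT (τ := fun j => j + m) (fun j => by ring) hc
  -- `c` is constant on the classes
  have hc6 : ∀ j, c (j + 6) = c j := by
    intro j
    have h1 := congrArg (fun A : Module.End k V => A (Wv R ψ v a j)) hTt
    simp only [Module.End.mul_apply] at h1
    rw [S.t_W, map_smul, hc, hc, map_smul, S.t_W, smul_smul, smul_smul] at h1
    have h2 : j + m + 6 = j + 6 + m := by ring
    rw [h2, ← sub_eq_zero, ← sub_smul] at h1
    have h3 := (smul_eq_zero.1 h1).resolve_right (S.W_ne _)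
    have h4 := S.lam_ne
    apply mul_left_cancel₀ (inv_ne_zero h4)
    linear_combination h3
  have hT0 : T * E R ψ 0 = E R ψ 0 * T := by
    have := T_E_lin T hTu (ψ := ψ) 0
    rwa [mul_zero] at this
  have hTv : E R ψ 0 (T v) = T v := by
    rw [← Module.End.mul_apply, ← hT0, Module.End.mul_apply, S.hw.fix]
  have hTvs : E R ψ 0 (T (vs R ψ v)) = T (vs R ψ v) := by
    rw [← Module.End.mul_apply, ← hT0, Module.End.mul_apply, S.E_zero_vs]
  obtain ⟨x, hx⟩ := (S.eig hTv).1 (by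
    rw [← Module.End.mul_apply, ← hTt, Module.End.mul_apply, S.hw.tor, map_smul])
  obtain ⟨y, hy⟩ := (S.eig hTvs).2 (by
    rw [← Module.End.mul_apply, ← hTt, Module.End.mul_apply, S.hw.t_vs, map_smul])
  have hxy : x * y = 1 := by
    have h1 := hT v (vs R ψ v)
    rw [hx, hy, map_smul, map_smul, LinearMap.smul_apply, smul_eq_mul, smul_eq_mul] at h1
    apply mul_right_cancel₀ (S.f_v_vs f hnd hinv)
    linear_combination h1
  obtain ⟨B, b1, b2, b3⟩ := S.exists_basis
  have hdet := det_mono B T (Equiv.sumCongr 1 (Equiv.addRight m)) (Sum.elim ![x, y] c) (by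
    rintro (i | j)
    · fin_cases i
      · change T (B (Sum.inl 0)) = x • B (Sum.inl 0)
        rw [b1, hx]
      · change T (B (Sum.inl 1)) = y • B (Sum.inl 1)
        rw [b2, hy]
    · change T (B (Sum.inr j)) = c j • B (Sum.inr (j + m))
      rw [b3, b3, hc])
  rw [hdet]
  have hsg : Equiv.Perm.sign (Equiv.sumCongr (1 : Equiv.Perm (Fin 2)) (Equiv.addRight m)) = -1 := by
    rw [Equiv.Perm.sign_sumCongr, sign_lin m hm, Equiv.Perm.sign_one, one_mul]
  rw [hsg, Fintype.prod_sum_type]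
  simp only [Sum.elim_inl, Sum.elim_inr, Fin.prod_univ_two, Matrix.cons_val_zero, Matrix.cons_val_one]
  rw [hxy, one_mul]
  have hprod : ∏ j : ZMod 8, c j = c 0 * c 1 * c 2 * c 3 * c 4 * c 5 * c 6 * c 7 := Fin.prod_univ_eight c
  have e6 : c 6 = c 0 := hc6 0
  have e4 : c 4 = c 6 := hc6 6
  have e2 : c 2 = c 4 := hc6 4
  have e7 : c 7 = c 1 := hc6 1
  have e5 : c 5 = c 7 := hc6 7
  have e3 : c 3 = c 5 := hc6 5
  have n6 : nn f R ψ v a 6 = - nn f R ψ v a 0 := S.nn_shift f hinv 0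
  have n4 : nn f R ψ v a 4 = - nn f R ψ v a 6 := S.nn_shift f hinv 6
  have n2 : nn f R ψ v a 2 = - nn f R ψ v a 4 := S.nn_shift f hinv 4
  have n0 := S.nn_ne f hnd hinv 0
  have hcm : ∀ j, c (j + 4) = c j := by
    intro j
    have h1 := hc6 (j + 6)
    rw [hc6 j] at h1
    rw [← h1]
    congr 1
    have : (8 : ZMod 8) = 0 := by decide
    linear_combination -this
  have key : (c 0 * c 1) ^ 2 = -1 := by
    have r0 := hrel 0
    have rm := hrel m
    rw [hcm] at r0 rm
    simp only [zero_add] at r0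
    have hcm1 : c m = c 1 := by
      rcases odd_cases m hm with rfl | rfl | rfl | rfl
      · rfl
      · rw [e3, e5, e7]
      · rw [e5, e7]
      · rw [e7]
    have hnm : nn f R ψ v a (m + m) = - nn f R ψ v a 0 := by
      rcases dbl_cases m hm with h | h
      · rw [h, n2, n4, n6]; ring
      · rw [h, n6]
    rw [hnm, hcm1] at rm
    rw [← rm] at r0
    apply mul_right_cancel₀ n0
    linear_combination -r0
  rw [hprod]
  push_cast
  have h9 : c 0 * c 1 * c 2 * c 3 * c 4 * c 5 * c 6 * c 7 = (c 0 * c 1) ^ 2 * (c 0 * c 1) ^ 2 := by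
    rw [e2, e3, e4, e5, e6, e7]; ring
  rw [h9, key]
  ring

include hsym hnd hT in
/-- **The semilinear case.** -/
theorem Ten.det_semi [CharP K 3] (hF : ∀ y, ψ (y ^ 3) = ψ y) {m : ZMod 8} (hm : m.val % 2 = 1) {γ : Kˣ}
    (hγ : γ⁻¹ = pw a m) (hTu : ∀ x : K, T * R (u x) = R (u (γ * x ^ 3)) * T) (hTt : T * R (t a) = R (t a⁻¹) * T) :
    LinearMap.det T = -1 := by
  have hpw3 : ∀ j : ZMod 8, (pw a j) ^ 3 = pw a (3 * j) := by
    intro j
    have : (3 : ZMod 8) * j = j + j + j := by ring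
    rw [this, pw_add S.eight, pw_add S.eight, pow_succ, sq]
  have hTE : ∀ j, T * E R ψ (pw a j : K) = E R ψ (pw a (semi m j) : K) * T := by
    intro j
    have : semi m j = m + 3 * j := by
      change 3 * j + m = _
      ring
    rw [T_E_semi T hF hTu, hγ, ← Units.val_pow_eq_pow_val, hpw3, ← Units.val_mul, ← pw_add S.eight, this]
  obtain ⟨c, hc⟩ := S.exists_c T (τ := semi m) hTE
  have hs4 : ∀ j, semi m (j + 4) = semi m j + 4 := by
    intro j
    change 3 * (j + 4) + m = 3 * j + m + 4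
    have : (8 : ZMod 8) = 0 := by decide
    linear_combination this
  have hrel := S.c_rel f hinv T hT (τ := semi m) hs4 hc
  have hc6 : ∀ j, c (j + 6) = - c j := by
    intro j
    have h1 := congrArg (fun A : Module.End k V => A (Wv R ψ v a j)) hTt
    simp only [Module.End.mul_apply] at h1
    rw [S.t_W, map_smul, hc, hc, map_smul, S.t_inv_W, smul_smul, smul_smul] at h1
    have h2 : semi m (j + 6) = semi m j + 2 := by
      change 3 * (j + 6) + m = 3 * j + m + 2
      have : (8 : ZMod 8) = 0 := by decide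
      linear_combination 2 * this
    rw [h2, ← sub_eq_zero, ← sub_smul] at h1
    have h3 := (smul_eq_zero.1 h1).resolve_right (S.W_ne _)
    have h4 := S.lam_ne
    have h5 : (lam a)⁻¹ * lam a = 1 := inv_mul_cancel₀ h4
    apply mul_left_cancel₀ (inv_ne_zero h4)
    linear_combination h3 + (lam a)⁻¹ * c j * S.lam2 - (c j * lam a) * h5
  have hT0 : T * E R ψ 0 = E R ψ 0 * T := by
    have := T_E_semi T hF hTu (ψ := ψ) 0
    rwa [zero_pow three_ne_zero, mul_zero] at this
  have hTv : E R ψ 0 (T v) = T v := by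
    rw [← Module.End.mul_apply, ← hT0, Module.End.mul_apply, S.hw.fix]
  have hTvs : E R ψ 0 (T (vs R ψ v)) = T (vs R ψ v) := by
    rw [← Module.End.mul_apply, ← hT0, Module.End.mul_apply, S.E_zero_vs]
  -- `R (t a)` on `T v`
  have hta : ∀ x : V, R (t a) (R (t a⁻¹) x) = x := by
    intro x
    rw [← Module.End.mul_apply, ← map_mul, ← t_mul, mul_inv_cancel, t_one, map_one, Module.End.one_apply]
  have hcm : ∀ x : V, T x = R (t a) (T (R (t a) x)) := by
    intro x
    rw [← Module.End.mul_apply T, hTt, Module.End.mul_apply, hta]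
  obtain ⟨x, hx⟩ := (S.eig hTv).2 (by
    have h1 := hcm v
    rw [S.hw.tor, map_smul, map_smul] at h1
    conv_rhs => rw [h1]
    rw [smul_smul, inv_mul_cancel₀ S.lam_ne, one_smul])
  obtain ⟨y, hy⟩ := (S.eig hTvs).1 (by
    have h1 := hcm (vs R ψ v)
    rw [S.hw.t_vs, map_smul, map_smul] at h1
    conv_rhs => rw [h1]
    rw [smul_smul, mul_inv_cancel₀ S.lam_ne, one_smul])
  have hxy : x * y = 1 := by
    have h1 := hT v (vs R ψ v)
    rw [hx, hy, map_smul, map_smul, LinearMap.smul_apply, smul_eq_mul, smul_eq_mul, hsym] at h1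
    apply mul_right_cancel₀ (S.f_v_vs f hnd hinv)
    linear_combination h1
  obtain ⟨B, b1, b2, b3⟩ := S.exists_basis
  have hdet := det_mono B T (Equiv.sumCongr (Equiv.swap 0 1) (semi m)) (Sum.elim ![x, y] c) (by
    rintro (i | j)
    · fin_cases i
      · change T (B (Sum.inl 0)) = x • B (Sum.inl 1)
        rw [b1, b2, hx]
      · change T (B (Sum.inl 1)) = y • B (Sum.inl 0)
        rw [b1, b2, hy]
    · change T (B (Sum.inr j)) = c j • B (Sum.inr (semi m j))
      rw [b3, b3, hc])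
  rw [hdet]
  have hsg : Equiv.Perm.sign (Equiv.sumCongr (Equiv.swap (0 : Fin 2) 1) (semi m)) = -1 := by
    rw [Equiv.Perm.sign_sumCongr, sign_semi m hm, mul_one]
    decide
  rw [hsg, Fintype.prod_sum_type]
  simp only [Sum.elim_inl, Sum.elim_inr, Fin.prod_univ_two, Matrix.cons_val_zero, Matrix.cons_val_one]
  rw [hxy, one_mul]
  have hprod : ∏ j : ZMod 8, c j = c 0 * c 1 * c 2 * c 3 * c 4 * c 5 * c 6 * c 7 := Fin.prod_univ_eight c
  have e6 : c 6 = - c 0 := hc6 0
  have e4 : c 4 = - c 6 := hc6 6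
  have e2 : c 2 = - c 4 := hc6 4
  have e7 : c 7 = - c 1 := hc6 1
  have e5 : c 5 = - c 7 := hc6 7
  have e3 : c 3 = - c 5 := hc6 5
  have n6 : nn f R ψ v a 6 = - nn f R ψ v a 0 := S.nn_shift f hinv 0
  have n4 : nn f R ψ v a 4 = - nn f R ψ v a 6 := S.nn_shift f hinv 6
  have n0 := S.nn_ne f hnd hinv 0
  have hcm4 : ∀ j, c (j + 4) = c j := by
    intro j
    have h1 := hc6 (j + 6)
    rw [hc6 j, neg_neg] at h1
    rw [← h1]
    congr 1
    have : (8 : ZMod 8) = 0 := by decide
    linear_combination -this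
  have key : (c 0 * c 1) ^ 2 = 1 := by
    have r0 := hrel 0
    have rm := hrel m
    rw [hcm4] at r0 rm
    have z0 : semi m 0 = m := by
      change 3 * 0 + m = m
      ring
    have zm : semi m m = 4 := four_mul m hm
    rw [z0] at r0
    rw [zm, n4, n6, neg_neg] at rm
    have hcm1 : c m * c m = c 1 * c 1 := by
      rcases odd_cases m hm with rfl | rfl | rfl | rfl
      · rfl
      · rw [e3, e5, e7]; ring
      · rw [e5, e7]; ring
      · rw [e7]; ring
    rw [hcm1] at rm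
    rw [← rm] at r0
    apply mul_right_cancel₀ n0
    linear_combination r0
  rw [hprod]
  push_cast
  have h9 : c 0 * c 1 * c 2 * c 3 * c 4 * c 5 * c 6 * c 7 = (c 0 * c 1) ^ 2 * (c 0 * c 1) ^ 2 := by
    rw [e2, e3, e4, e5, e6, e7]; ring
  rw [h9, key]
  ring

end form

end rep

end Cfsg.Agent.H937.T2
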