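import Cfsg.Agent.H937.O10Tr
import Cfsg.Agent.H937.T2Fields

/-!
# `A₆` in dimension ten: the data needed for the wedge square (helper937)

`six_data` : `Cx p Q H P`, `Soc P ≃* A₆`, `p ≠ 3` : `P ≃* A₆`, the traces of `P` are those of `Λ²` of the heart of the
permutation module, and `H` induces permutations of the six points.
-/

set_option autoImplicit false
set_option linter.unusedSectionVars false

namespace Cfsg.Agent.H937.T2

open Matrix Module Cfsg Cfsg.Geo Cfsg.Agent.H464.Sl2 Cfsg.Agent.H915.LD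
open Cfsg.Agent.H933.O10 (Cx)
open Cfsg.Agent.StdAlt.Six (A6 mv NS mv_conj' ns_of_mv_three ns_of_mv_six)

universe u'

theorem six_data {F : Type u'} [Field F] [Finite F] {p : ℕ} {Q : (Fin 10 → F) → F} {H P : Subgroup (GL (Fin 10) F)}
    (hX : Cx p Q H P) (hp3 : p ≠ 3) (e : Soc P ≃* alternatingGroup (Fin 6)) :
    p ≠ 2 ∧ ∃ e' : P ≃* alternatingGroup (Fin 6),
      (∀ x : P, 2 * tr (x : GL (Fin 10) F) =
        (((fx (e' x : Equiv.Perm (Fin 6)) - 1) ^ 2 - (fx ((e' x : Equiv.Perm (Fin 6)) * e' x) - 1) : ℤ) : F)) ∧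
      ∀ h ∈ H, ∃ σ : Equiv.Perm (Fin 6), ∀ x y : P, (y : GL (Fin 10) F) = h * x * h⁻¹ →
        (e' y : Equiv.Perm (Fin 6)) = σ * e' x * σ⁻¹ := by
  classical
  have hp : Fact p.Prime := ⟨hX.prime⟩
  have hch := hX.char
  have hC := hX.core
  have hfF := Fintype.ofFinite F
  obtain ⟨hp2, -⟩ := a6_ten p hp3 hC (by rw [Fintype.card_fin]) e
  obtain ⟨K, _, _, hK, _, ⟨f⟩⟩ := exists_nine e
  have h3 : ¬ 3 ∣ Nat.card ((scalars (Fin 10) F).subgroupOf P) :=
    not_dvd_scalars hC Nat.prime_three (by rw [Fintype.card_fin]; norm_num)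
  obtain ⟨ρ, hρ, hρ2⟩ := exists_rep hC Nat.prime_three (by omega)
    (((Nat.Prime.coprime_iff_not_dvd Nat.prime_three).2 h3).symm) f
  have habs : ActsAbsolutelyIrreducibly (matrixSet ρ.range) := by rw [hρ]; exact hC.absIrred
  have hpK := a6_not_dvd_nine p hp3 hK
  obtain ⟨-, h5⟩ := fix_iff p hp2 hpK hρ hC (a6_sd hC e h3)
  have hz : ρ (t (-1)) = 1 := by
    by_contra h
    exact (h5 h).2 hX.fixQ
  have hmem : ∀ g, ρ g ∈ P := fun g => by rw [← hρ]; exact ⟨g, rfl⟩
  have hker : ∀ g, ρ g = 1 → g ∈ Subgroup.center (SpecialLinearGroup (Fin 2) K) := by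
    intro g hg
    have h6 := hρ2 g (hmem g)
    have h7 : (⟨ρ g, hmem g⟩ : P) = 1 := Subtype.ext hg
    rw [h7, map_one, map_one] at h6
    exact (QuotientGroup.eq_one_iff g).1 h6.symm
  have hcen : ∀ g ∈ Subgroup.center (SpecialLinearGroup (Fin 2) K), ρ g = 1 := by
    intro g hg
    obtain ⟨h6, h7⟩ := center_entries hg
    obtain ⟨b, rfl⟩ := diag_eq h6 h7
    obtain ⟨r, hr, hr'⟩ := Matrix.SpecialLinearGroup.mem_center_iff.1 hg
    rw [Fintype.card_fin] at hr
    have h8 : r = b := by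
      have := congrFun (congrFun hr' 0) 0
      rw [t_coe] at this
      simpa using this
    rw [h8] at hr
    have h9 : (b : K) * b = 1 := by rw [← sq, hr]
    rcases mul_self_eq_one_iff.1 h9 with h | h
    · have : b = 1 := Units.ext h
      rw [this, t_one, map_one]
    · have : b = -1 := Units.ext h
      rw [this, hz]
  have hinj : ∀ x : P, toSoc P x = 1 → x = 1 := by
    rintro ⟨x, hx⟩ h6
    rw [← hρ] at hx
    obtain ⟨g, rfl⟩ := hx
    have h7 := hρ2 g (hmem g)
    rw [h6, map_one] at h7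
    exact Subtype.ext (hcen g ((QuotientGroup.eq_one_iff g).1 h7.symm))
  have hbij : Function.Bijective (e.toMonoidHom.comp (toSoc P)) := by
    constructor
    · rw [injective_iff_map_eq_one]
      intro x hx
      apply hinj
      apply e.injective
      rw [map_one]
      exact hx
    · exact e.surjective.comp (toSoc_surjective P)
  set e' : P ≃* alternatingGroup (Fin 6) := MulEquiv.ofBijective _ hbij with he'
  have hone : ∀ x : P, (e' x : Equiv.Perm (Fin 6)) = 1 ↔ x = 1 := by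
    intro x
    rw [← map_eq_one_iff e' e'.injective]
    exact ⟨fun h => Subtype.ext h, fun h => by rw [h]; rfl⟩
  have hmul : ∀ x y : P, ((e' (x * y) : alternatingGroup (Fin 6)) : Equiv.Perm (Fin 6)) = e' x * e' y := by
    intro x y
    rw [map_mul]
    rfl
  have hval : ∀ (g : SpecialLinearGroup (Fin 2) K) (hg : ρ g ∈ P), ρ g = 1 ↔ (⟨ρ g, hg⟩ : P) = 1 := by
    intro g hg
    exact ⟨fun h => Subtype.ext h, fun h => congrArg Subtype.val h⟩
  refine ⟨hp2, e', ?_, ?_⟩
  · rintro ⟨x, hx⟩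
    have hx' := hx
    rw [← hρ] at hx'
    obtain ⟨g, rfl⟩ := hx'
    set X : P := ⟨ρ g, hx⟩ with hX'
    rw [perm_dec _ (Equiv.Perm.mem_alternatingGroup.1 (e' X).2)]
    have e1 : (e' X : Equiv.Perm (Fin 6)) = 1 ↔ ρ g = 1 := by rw [hone, ← hval]
    have e2 : (e' X : Equiv.Perm (Fin 6)) * e' X = 1 ↔ ρ g * ρ g = 1 := by
      rw [← hmul, hone]
      exact ⟨fun h => congrArg Subtype.val h, fun h => Subtype.ext h⟩
    have e3 : (e' X : Equiv.Perm (Fin 6)) * e' X * e' X = 1 ↔ ρ g * ρ g * ρ g = 1 := by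
      rw [← hmul, ← hmul, hone]
      exact ⟨fun h => congrArg Subtype.val h, fun h => Subtype.ext h⟩
    simp only [e1, e2, e3]
    rcases tr_cases p hp2 hp3 hK habs hz hker g with h | ⟨h1, h2, h3⟩ | ⟨h1, h2, h3, h4⟩ | ⟨h1, h2, h3, h4⟩
    · rw [if_pos h]
      change 2 * tr (ρ g) = _
      rw [h, tr, Units.val_one, Matrix.trace_one, Fintype.card_fin]
      push_cast
      norm_num
    · rw [if_neg h1, if_pos h2]
      change 2 * tr (ρ g) = _
      rw [h3]
      push_cast
      norm_num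
    · rw [if_neg h1, if_neg h2, if_pos h3]
      change 2 * tr (ρ g) = _
      rw [h4]
      push_cast
      norm_num
    · rw [if_neg h1, if_neg h2, if_neg h3]
      change 2 * tr (ρ g) = _
      rw [h4]
      push_cast
      norm_num
  · intro h hh
    have hn := hX.hc.normal
    have hh' : h⁻¹ ∈ H := inv_mem hh
    let φ : MulAut P :=
      { toFun := fun x => ⟨h * x * h⁻¹, hn h hh x x.2⟩
        invFun := fun x => ⟨h⁻¹ * x * h, by have := hn h⁻¹ hh' x x.2; rwa [inv_inv] at this⟩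
        left_inv := fun x => Subtype.ext (by simp only; group)
        right_inv := fun x => Subtype.ext (by simp only; group)
        map_mul' := fun x y => Subtype.ext (by simp only [Subgroup.coe_mul]; group) }
    let α : MulAut A6 := e'.symm.trans (φ.trans e')
    have hα : ∀ x : P, α (e' x) = e' (φ x) := by
      intro x
      change e' (φ (e'.symm (e' x))) = _
      rw [e'.symm_apply_apply]
    obtain ⟨y, hy, hyc⟩ := class_preserved p hp2 hp3 hK habs hz (kerZ_of_center ρ hker) hX.hQ hX.hH.1.le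
      (by rw [hρ]; exact hX.hc.le) (fun h hh x hx => by rw [hρ] at hx ⊢; exact hn h hh x hx) hh
    rw [hρ] at hy
    set U : P := ⟨ρ (u 1), hmem _⟩ with hU
    have h1 : φ U = (⟨y, hy⟩ : P) * U * (⟨y, hy⟩ : P)⁻¹ := Subtype.ext hyc
    have h2 : α (e' U) = e' ⟨y, hy⟩ * e' U * (e' ⟨y, hy⟩)⁻¹ := by
      rw [hα, h1, map_mul, map_mul, map_inv]
    have hU3 : U * U * U = 1 := by
      apply Subtype.ext
      change ρ (u 1) * ρ (u 1) * ρ (u 1) = 1
      have h30 : (1 : K) + 1 + 1 = 0 := by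
        have : ((3 : ℕ) : K) = 0 := CharP.cast_eq_zero K 3
        rw [← this]
        norm_num
      rw [← map_mul, ← map_mul, ← u_add, ← u_add, h30, u_zero, map_one]
    have hU1 : U ≠ 1 := by
      intro h
      have h3 := (center_entries (hker _ (congrArg Subtype.val h))).2
      exact one_ne_zero h3
    have hX3 : e' U * e' U * e' U = 1 := by rw [← map_mul, ← map_mul, hU3, map_one]
    have hX1 : e' U ≠ 1 := fun h => hU1 (e'.injective (by rw [h, map_one]))
    have hmv : mv ((α (e' U) : A6) : Equiv.Perm (Fin 6)) = mv ((e' U : A6) : Equiv.Perm (Fin 6)) := by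
      rw [h2]
      exact mv_conj' _ _
    have hNS : NS α := by
      by_cases h3 : mv ((e' U : A6) : Equiv.Perm (Fin 6)) = 3
      · exact ns_of_mv_three h3 (by rw [hmv, h3])
      · exact ns_of_mv_six hX3 hX1 h3 (by rw [hmv]; exact h3)
    obtain ⟨σ, hσ⟩ := hNS
    refine ⟨σ, fun x y hxy => ?_⟩
    have h4 : y = φ x := Subtype.ext hxy
    rw [h4, ← hα]
    exact hσ _

end Cfsg.Agent.H937.T2
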