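import Cfsg.Agent.H937.O10Aut

/-!
# `A₆` in dimension ten: traces (helper937)
-/

set_option autoImplicit false
set_option linter.unusedSectionVars false

namespace Cfsg.Agent.H937.T2

open Matrix Module Cfsg Cfsg.Geo Cfsg.Agent.H464.Sl2 Cfsg.Agent.H915.LD
open Cfsg.Agent.H931.L2T (trace_u_ne trace_eq_X tr_conj' extI trace_extI extI_apply mt_t)

universe u' v'

/-- the matrix trace -/
local notation "mtr" => Cfsg.Agent.H931.L2T.mt

/-- the number of fixed points -/
def fx (σ : Equiv.Perm (Fin 6)) : ℤ := ((Finset.univ.filter fun i => σ i = i).card : ℤ)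

theorem perm_dec : ∀ σ : Equiv.Perm (Fin 6), Equiv.Perm.sign σ = 1 →
    (fx σ - 1) ^ 2 - (fx (σ * σ) - 1) = if σ = 1 then 20 else if σ * σ = 1 then -4 else if σ * σ * σ = 1 then 2 else 0 := by
  decide +kernel

section sl

variable {K : Type v'} [Field K]

theorem det_rel (g : SpecialLinearGroup (Fin 2) K) : g.1 0 0 * g.1 1 1 - g.1 0 1 * g.1 1 0 = 1 := by
  have := g.2
  rwa [Matrix.det_fin_two] at this

theorem mt_sq (g : SpecialLinearGroup (Fin 2) K) : mtr (g * g) = mtr g ^ 2 - 2 := by
  have hdet := det_rel g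
  change (g.1 * g.1) 0 0 + (g.1 * g.1) 1 1 = (g.1 0 0 + g.1 1 1) ^ 2 - 2
  rw [Matrix.mul_apply, Fin.sum_univ_two, Matrix.mul_apply, Fin.sum_univ_two]
  linear_combination (-2) * hdet

theorem mt_cube (g : SpecialLinearGroup (Fin 2) K) : mtr (g * g * g) = mtr g ^ 3 - 3 * mtr g := by
  have hdet := det_rel g
  change (g.1 * g.1 * g.1) 0 0 + (g.1 * g.1 * g.1) 1 1 = (g.1 0 0 + g.1 1 1) ^ 3 - 3 * (g.1 0 0 + g.1 1 1)
  simp only [Matrix.mul_apply, Fin.sum_univ_two]
  linear_combination (-3) * (g.1 0 0 + g.1 1 1) * hdet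

theorem sq_eq (g : SpecialLinearGroup (Fin 2) K) (h : mtr g = 0) : g * g = t (-1) := by
  have hdet := det_rel g
  have h0 : g.1 0 0 + g.1 1 1 = 0 := h
  have h1 : g.1 1 1 = - g.1 0 0 := by linear_combination h0
  rw [h1] at hdet
  apply Subtype.ext
  rw [t_coe]
  change g.1 * g.1 = _
  ext i j
  rw [Matrix.mul_apply, Fin.sum_univ_two]
  fin_cases i <;> fin_cases j <;> simp
  · linear_combination -hdet
  · rw [h1]; ring
  · rw [h1]; ring
  · rw [h1]; linear_combination -hdet

theorem diag_eq {g : SpecialLinearGroup (Fin 2) K} (h1 : g.1 1 0 = 0) (h2 : g.1 0 1 = 0) : ∃ b : Kˣ, g = t b := by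
  have hdet := det_rel g
  rw [h1, mul_zero, sub_zero] at hdet
  refine ⟨⟨g.1 0 0, g.1 1 1, hdet, by rw [mul_comm]; exact hdet⟩, ?_⟩
  apply Subtype.ext
  rw [t_coe]
  ext i j
  fin_cases i <;> fin_cases j
  · rfl
  · exact h2
  · exact h1
  · rfl

theorem center_sq {g : SpecialLinearGroup (Fin 2) K} (h : g ∈ Subgroup.center (SpecialLinearGroup (Fin 2) K)) :
    mtr g ^ 2 = 4 := by
  obtain ⟨r, hr, hr'⟩ := Matrix.SpecialLinearGroup.mem_center_iff.1 h
  rw [Fintype.card_fin] at hr
  have h1 : mtr g = g.1 0 0 + g.1 1 1 := rfl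
  rw [h1, ← hr']
  simp only [Matrix.scalar_apply, Matrix.diagonal_apply_eq]
  linear_combination 4 * hr

theorem center_entries {g : SpecialLinearGroup (Fin 2) K} (h : g ∈ Subgroup.center (SpecialLinearGroup (Fin 2) K)) :
    g.1 1 0 = 0 ∧ g.1 0 1 = 0 := by
  obtain ⟨r, hr, hr'⟩ := Matrix.SpecialLinearGroup.mem_center_iff.1 h
  rw [← hr']
  simp

end sl

section tr

variable {K : Type v'} [Field K] [Fintype K] [CharP K 3] {F : Type u'} [Field F] [Finite F]
  {ρ : SpecialLinearGroup (Fin 2) K →* GL (Fin 10) F}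

/-- **Traces.** -/
theorem tr_cases (p : ℕ) [hp : Fact p.Prime] [CharP F p] (hp2 : p ≠ 2) (hp3 : p ≠ 3) (h9 : Fintype.card K = 9)
    (habs : ActsAbsolutelyIrreducibly (matrixSet ρ.range)) (hz : ρ (t (-1)) = 1)
    (hker : ∀ g, ρ g = 1 → g ∈ Subgroup.center (SpecialLinearGroup (Fin 2) K)) (g : SpecialLinearGroup (Fin 2) K) :
    ρ g = 1 ∨ (ρ g ≠ 1 ∧ ρ g * ρ g = 1 ∧ tr (ρ g) = -2) ∨
      (ρ g ≠ 1 ∧ ρ g * ρ g ≠ 1 ∧ ρ g * ρ g * ρ g = 1 ∧ tr (ρ g) = 1) ∨
      (ρ g ≠ 1 ∧ ρ g * ρ g ≠ 1 ∧ ρ g * ρ g * ρ g ≠ 1 ∧ tr (ρ g) = 0) := by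
  classical
  obtain ⟨a, ha'⟩ := exists_i (E := K) h9
  have ha : a ^ 4 = -1 := by
    apply Units.ext
    rw [Units.val_pow_eq_pow_val, Units.val_neg, Units.val_one, ← ha']
    ring
  set k := AlgebraicClosure F with hk
  obtain ⟨ψ, v, lam, S, -⟩ : ∃ (ψ : AddChar K k) (v : Fin 10 → k) (lam : Kˣ →* k),
      Ten (extI ρ k) ψ v lam a ∧ ∀ y, ψ (y ^ 3) = ψ y := exists_ten (ρ := ρ) p hp2 hp3 h9 habs hz ha
  set R := extI ρ k with hR
  have h3K : (3 : K) = 0 := by exact_mod_cast CharP.cast_eq_zero K 3
  have htr : ∀ g, ∀ z : ℤ, LinearMap.trace k (Fin 10 → k) (R g) = z → tr (ρ g) = z := by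
    intro g z hg
    apply (algebraMap F k).injective
    rw [map_intCast, ← hg, hR, trace_extI]
  have hzneg : ∀ ε : Kˣ, ε ^ 2 = 1 → ρ (t ε) = 1 := by
    intro ε hε
    have h2 : (ε : K) * ε = 1 := by rw [← Units.val_mul, ← sq, hε, Units.val_one]
    rcases mul_self_eq_one_iff.1 h2 with h | h
    · have : ε = 1 := Units.ext h
      rw [this, t_one, map_one]
    · have : ε = -1 := Units.ext h
      rw [this, hz]
  have hl1 : lam (-1) = 1 := by
    have h3 := S.hw.tor (-1)
    have hRz : R (t (-1)) = 1 := by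
      rw [hR, extI_apply, hz, Units.val_one, Matrix.map_one _ (map_zero _) (map_one _), Matrix.toLin'_one]
      rfl
    rw [hRz, Module.End.one_apply] at h3
    have h5 : (1 - lam (-1)) • v = 0 := by rw [sub_smul, ← h3, one_smul, sub_self]
    exact (sub_eq_zero.1 ((smul_eq_zero.1 h5).resolve_right S.hw.ne)).symm
  by_cases ht : (mtr g) ^ 2 - 4 = 0
  · obtain ⟨h, ε, y, hε, rfl⟩ := exists_conj_unip g ht
    have h1 : ρ (h * (t ε * u y) * h⁻¹) = ρ (h * u y * h⁻¹) := by
      rw [map_mul, map_mul, map_mul, hzneg ε hε, one_mul, ← map_mul, ← map_mul]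
    rw [h1]
    by_cases hy : y = 0
    · left
      rw [hy, u_zero, mul_one, mul_inv_cancel, map_one]
    · right; right; left
      have hent : ∀ y : K, y ≠ 0 → ρ (h * u y * h⁻¹) ≠ 1 := by
        intro y hy h2
        have h3 : ρ (u y) = 1 := by
          have h4 : ρ (h * u y * h⁻¹) = ρ h * ρ (u y) * (ρ h)⁻¹ := by
            rw [map_mul, map_mul, map_inv]
          rw [h4] at h2
          exact conj_eq_one_iff.1 h2
        have h4 := (center_entries (hker _ h3)).2
        exact hy h4
      have hmul : ∀ y y' : K, (h * u y * h⁻¹) * (h * u y' * h⁻¹) = h * u (y + y') * h⁻¹ := by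
        intro y y'
        rw [u_add]
        group
      refine ⟨hent y hy, ?_, ?_, ?_⟩
      · rw [← map_mul, hmul]
        apply hent
        intro h0
        apply hy
        linear_combination y * h3K - h0
      · rw [← map_mul, ← map_mul, hmul, hmul]
        have : y + y + y = 0 := by linear_combination y * h3K
        rw [this, u_zero, mul_one, mul_inv_cancel, map_one]
      · have h5 := htr (h * u y * h⁻¹) 1 (by
          rw [tr_conj', trace_u_ne R S.prim S.card S.r1 hy, S.r0]
          push_cast
          ring)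
        rw [h5, Int.cast_one]
  · have hne1 : ρ g ≠ 1 := by
      intro h
      apply ht
      rw [center_sq (hker _ h), sub_self]
    have hsq : ρ g * ρ g = 1 → mtr g = 0 := by
      intro h
      rw [← map_mul] at h
      have h1 := center_sq (hker _ h)
      rw [mt_sq] at h1
      have h2 : mtr g ^ 2 * (mtr g ^ 2 - 4) = 0 := by linear_combination h1
      exact pow_eq_zero_iff two_ne_zero |>.1 ((mul_eq_zero.1 h2).resolve_right ht)
    have hcu : ρ g * ρ g * ρ g ≠ 1 := by
      intro h
      rw [← map_mul, ← map_mul] at h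
      have h1 := center_sq (hker _ h)
      rw [mt_cube] at h1
      have h2 : (mtr g ^ 2 - 4) * (mtr g ^ 2 - 4) ^ 2 = 0 := by
        linear_combination h1 - (mtr g ^ 2 - 4) * (2 * mtr g ^ 2 - 5) * h3K
      rcases mul_eq_zero.1 h2 with h3 | h3
      · exact ht h3
      · exact ht (pow_eq_zero_iff two_ne_zero |>.1 h3)
    have ha0 : (a : K) ≠ 0 := a.ne_zero
    have ha4 : (a : K) ^ 4 = -1 := by
      rw [← Units.val_pow_eq_pow_val, ha, Units.val_neg, Units.val_one]
    have hlam2 : lam (a ^ 2) = -1 := by rw [map_pow, S.lam2]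
    have hlamn : ∀ x : Kˣ, lam (-x) = lam x := by
      intro x
      have : -x = -1 * x := by rw [neg_one_mul]
      rw [this, map_mul, hl1, one_mul]
    have htrb : ∀ b : Kˣ, mtr g = (b : K) + ((b⁻¹ : Kˣ) : K) → b ^ 2 ≠ 1 →
        LinearMap.trace k (Fin 10 → k) (R g) = lam b + (lam b)⁻¹ := by
      intro b hb hb2
      have h8 := trace_eq_X R (t b) (by rw [mt_t, ← hb]; exact ht)
      rw [mt_t, ← hb, ← trace_eq_X R g ht] at h8
      rw [← h8]
      have h9 := chi_t R S.prim S.card hb2
      rw [S.hw.trace_two S.prim S.card S.span S.r0] at h9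
      exact h9
    have h2K : (2 : K) ≠ 0 := by
      intro h
      apply one_ne_zero (α := K)
      linear_combination h3K - h
    by_cases h0 : mtr g = 0
    · right; left
      refine ⟨hne1, ?_, ?_⟩
      · rw [← map_mul, sq_eq g h0, hz]
      · have h1 := htrb (a ^ 2) (by
          rw [h0, ← inv_pow, Units.val_pow_eq_pow_val, Units.val_pow_eq_pow_val, Units.val_inv_eq_inv_val]
          field_simp
          linear_combination -ha4) (by
          intro h
          rw [← pow_mul, ha] at h
          apply h2K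
          have := congrArg Units.val h
          rw [Units.val_neg, Units.val_one] at this
          linear_combination -this)
        rw [hlam2] at h1
        have h2 := htr g (-2) (by rw [h1]; push_cast; norm_num)
        rw [h2]
        push_cast
        rfl
    · right; right; right
      refine ⟨hne1, fun h => h0 (hsq h), hcu, ?_⟩
      have h1 : LinearMap.trace k (Fin 10 → k) (R g) = ((0 : ℤ) : k) := by
        by_cases hs : ∀ x : K, x * x - mtr g * x + 1 ≠ 0
        · rw [(hw_prin R S.hw).trace_nonsplit S.prim S.card S.span (by rw [S.dim, h9]) hs]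
          simp
        · push Not at hs
          obtain ⟨b, hb⟩ := hs
          have hb0 : b ≠ 0 := by
            rintro rfl
            simp at hb
          have h5 : mtr g = b + b⁻¹ := by
            field_simp
            linear_combination -hb
          set β : Kˣ := Units.mk0 b hb0 with hβ
          have hβ1 : (b : K) ^ 2 - 1 ≠ 0 := by
            intro h
            apply ht
            rw [h5]
            field_simp
            linear_combination (b ^ 2 - 1) * h
          have hβ2 : (b : K) ^ 2 + 1 ≠ 0 := by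
            intro h
            apply h0
            rw [h5]
            field_simp
            rw [h, mul_zero]
          have hb2 : β ^ 2 ≠ 1 := by
            intro h
            have := congrArg Units.val h
            rw [Units.val_pow_eq_pow_val, Units.val_one, hβ, Units.val_mk0] at this
            exact hβ1 (sub_eq_zero.2 this)
          have h8 : b ^ 8 = 1 := by
            have := FiniteField.pow_card_sub_one_eq_one b hb0
            rwa [h9] at this
          have h4 : b ^ 4 = -1 := by
            have h1 : (b ^ 2 - 1) * ((b ^ 2 + 1) * (b ^ 4 + 1)) = 0 := by linear_combination h8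
            have h2 := ((mul_eq_zero.1 ((mul_eq_zero.1 h1).resolve_left hβ1)).resolve_left hβ2)
            linear_combination h2
          have h6 : β ^ 2 = a ^ 2 ∨ β ^ 2 = -a ^ 2 := by
            have h1 : (b ^ 2 - (a : K) ^ 2) * (b ^ 2 + (a : K) ^ 2) = 0 := by linear_combination h4 - ha4
            rcases mul_eq_zero.1 h1 with h | h
            · left
              apply Units.ext
              rw [Units.val_pow_eq_pow_val, Units.val_pow_eq_pow_val]
              exact sub_eq_zero.1 h
            · right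
              apply Units.ext
              rw [Units.val_neg, Units.val_pow_eq_pow_val, Units.val_pow_eq_pow_val]
              exact eq_neg_of_add_eq_zero_left h
          have h7 : lam β ^ 2 = -1 := by
            rw [← map_pow]
            rcases h6 with h6 | h6
            · rw [h6, hlam2]
            · rw [h6, hlamn, hlam2]
          rw [htrb β (by rw [h5, Units.val_inv_eq_inv_val, hβ, Units.val_mk0]) hb2, Int.cast_zero]
          rw [inv_eq_of_mul_eq_one_right (b := -lam β) (by linear_combination -h7), add_neg_cancel]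
      have h2 := htr g 0 h1
      rw [h2, Int.cast_zero]

end tr

end Cfsg.Agent.H937.T2
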