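import Cfsg.Agent.H937.SL3Stab
import Cfsg.Agent.CpAut.Psl
import Cfsg.Agent.CpAutU.Fixed
import Cfsg.Agent.H953.Index

/-!
# Automorphisms of `SL_3(q)` and stabilisers of points (helper937, for S4388)
-/

set_option autoImplicit false
set_option linter.unusedSectionVars false

namespace Cfsg.Agent.H937.SL3

open Matrix MulAction
open Cfsg.Agent.ClassicalGeometry.AutPSL.Root
open Cfsg.Agent.ClassicalGeometry.AutPSL.Auto
open Cfsg.Agent.CpAut.Psl

section general

variable {ι F : Type*} [Fintype ι] [DecidableEq ι] [Field F]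

theorem comp_ne_zero (σ : F ≃+* F) {v : ι → F} (hv : v ≠ 0) : (σ : F → F) ∘ v ≠ 0 := by
  intro h
  apply hv
  funext i
  have h1 := congrFun h i
  exact (map_eq_zero_iff σ σ.injective).1 h1

theorem gl_ne_zero (A : GL ι F) {v : ι → F} (hv : v ≠ 0) : (A : Matrix ι ι F) *ᵥ v ≠ 0 := by
  intro h
  apply hv
  have h1 : ((A⁻¹ : GL ι F) : Matrix ι ι F) *ᵥ ((A : Matrix ι ι F) *ᵥ v) = v := by
    rw [mulVec_mulVec, ← Units.val_mul, inv_mul_cancel, Units.val_one, one_mulVec]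
  rw [← h1, h, mulVec_zero]

theorem comp_mulVec (σ : F ≃+* F) (M : Matrix ι ι F) (v : ι → F) :
    (σ : F → F) ∘ (M *ᵥ v) = (M.map σ) *ᵥ ((σ : F → F) ∘ v) := by
  funext i
  exact RingHom.map_mulVec (σ : F →+* F) M v i

theorem comp_smul (σ : F ≃+* F) (c : F) (v : ι → F) : (σ : F → F) ∘ (c • v) = σ c • ((σ : F → F) ∘ v) := by
  funext i
  exact map_mul σ c (v i)

/-- the preimage of the stabiliser of a point under a semilinear automorphism -/
theorem semi_iff (A : GL ι F) (σ : F ≃+* F) {v : ι → F} (hv : v ≠ 0) (g : Matrix.SpecialLinearGroup ι F) :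
    (cj A * fld σ : MulAut _) g ∈ stabilizer (Matrix.SpecialLinearGroup ι F) (Projectivization.mk F v hv) ↔
    g ∈ stabilizer (Matrix.SpecialLinearGroup ι F)
      (Projectivization.mk F ((σ.symm : F → F) ∘ (((A⁻¹ : GL ι F) : Matrix ι ι F) *ᵥ v))
        (comp_ne_zero σ.symm (gl_ne_zero A⁻¹ hv))) := by
  rw [mem_stab_mk, mem_stab_mk]
  have h1 : (((cj A * fld σ : MulAut _) g : Matrix.SpecialLinearGroup ι F) : Matrix ι ι F) =
      (A : Matrix ι ι F) * (g : Matrix ι ι F).map σ * ((A⁻¹ : GL ι F) : Matrix ι ι F) := rfl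
  have hAA : (A : Matrix ι ι F) * ((A⁻¹ : GL ι F) : Matrix ι ι F) = 1 := by
    rw [← Units.val_mul, mul_inv_cancel, Units.val_one]
  have hAA' : ((A⁻¹ : GL ι F) : Matrix ι ι F) * (A : Matrix ι ι F) = 1 := by
    rw [← Units.val_mul, inv_mul_cancel, Units.val_one]
  set w := ((A⁻¹ : GL ι F) : Matrix ι ι F) *ᵥ v with hw
  have hcomp : (σ : F → F) ∘ ((σ.symm : F → F) ∘ w) = w := by
    funext i; exact σ.apply_symm_apply _
  have hcomp' : ∀ u : ι → F, (σ.symm : F → F) ∘ ((σ : F → F) ∘ u) = u := by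
    intro u; funext i; exact σ.symm_apply_apply _
  constructor
  · rintro ⟨c, hc⟩
    refine ⟨σ.symm c, ?_⟩
    rw [h1, ← mulVec_mulVec, ← mulVec_mulVec, ← hw] at hc
    have h2 : (g : Matrix ι ι F).map σ *ᵥ w = c • w := by
      have h3 := congrArg (fun u => ((A⁻¹ : GL ι F) : Matrix ι ι F) *ᵥ u) hc
      simp only [mulVec_smul] at h3
      rwa [mulVec_mulVec, hAA', one_mulVec, ← hw] at h3
    rw [← hcomp' ((g : Matrix ι ι F) *ᵥ ((σ.symm : F → F) ∘ w)), comp_mulVec, hcomp, h2, comp_smul]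
  · rintro ⟨c, hc⟩
    refine ⟨σ c, ?_⟩
    rw [h1, ← mulVec_mulVec, ← mulVec_mulVec, ← hw]
    have h2 : (g : Matrix ι ι F).map σ *ᵥ w = σ c • w := by
      have h3 : (σ : F → F) ∘ ((g : Matrix ι ι F) *ᵥ ((σ.symm : F → F) ∘ w)) =
          (σ : F → F) ∘ (c • ((σ.symm : F → F) ∘ w)) := congrArg (fun u => (σ : F → F) ∘ u) hc
      rwa [comp_mulVec, comp_smul, hcomp] at h3
    rw [h2, mulVec_smul, hw, mulVec_mulVec, hAA, one_mulVec]

end general

section three

variable {F : Type*} [Field F]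

/-- the inverse transpose does not map a stabiliser of a point into a stabiliser of a point -/
theorem no_graph {v u : Fin 3 → F} (hv : v ≠ 0) (hu : u ≠ 0)
    (h : ∀ g ∈ stabilizer (Matrix.SpecialLinearGroup (Fin 3) F) (Projectivization.mk F v hv),
      (itr : MulAut _) g ∈ stabilizer (Matrix.SpecialLinearGroup (Fin 3) F) (Projectivization.mk F u hu)) : False := by
  have h1 : ∀ g ∈ stabilizer (Matrix.SpecialLinearGroup (Fin 3) F) (Projectivization.mk F v hv),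
      ∀ w : Fin 3 → F, u ⬝ᵥ w = 0 → u ⬝ᵥ ((g : Matrix (Fin 3) (Fin 3) F) *ᵥ w) = 0 := by
    intro g hg w hw
    obtain ⟨c, hc⟩ := (mem_stab_mk hu).1 (h g⁻¹ (inv_mem hg))
    have h2 : (((itr : MulAut _) g⁻¹ : Matrix.SpecialLinearGroup (Fin 3) F) : Matrix (Fin 3) (Fin 3) F) =
        (g : Matrix (Fin 3) (Fin 3) F)ᵀ := by
      rw [coe_itr, inv_inv]
    rw [h2, mulVec_transpose] at hc
    rw [dotProduct_mulVec, hc, smul_dotProduct, hw, smul_zero]
  -- two vectors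
  obtain ⟨w1, hw1, hw1v⟩ : ∃ w1 : Fin 3 → F, u ⬝ᵥ w1 = 0 ∧ w1 ∉ Submodule.span F {v} := by
    by_contra hcon
    push Not at hcon
    let f : (Fin 3 → F) →ₗ[F] F :=
      { toFun := fun w => u ⬝ᵥ w, map_add' := fun a b => dotProduct_add u a b, map_smul' := fun c a => dotProduct_smul c u a }
    have h2 : LinearMap.ker f ≤ Submodule.span F {v} := fun w hw => hcon w hw
    have h3 := Submodule.finrank_mono h2
    have h4 := finrank_span_singleton (K := F) hv
    have h5 := LinearMap.finrank_range_add_finrank_ker f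
    rw [Module.finrank_fin_fun] at h5
    have h6 : Module.finrank F (LinearMap.range f) ≤ 1 := by
      have := Submodule.finrank_le (LinearMap.range f)
      rwa [Module.finrank_self] at this
    omega
  obtain ⟨w2, hw2, hw2v⟩ : ∃ w2 : Fin 3 → F, u ⬝ᵥ w2 ≠ 0 ∧ w2 ∉ Submodule.span F {v} := by
    obtain ⟨i, hi⟩ := Function.ne_iff.1 hu
    have h0 : u ⬝ᵥ Pi.single i 1 ≠ 0 := by rw [dotProduct_single, mul_one]; exact hi
    by_cases h2 : (Pi.single i 1 : Fin 3 → F) ∈ Submodule.span F {v}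
    · refine ⟨Pi.single i 1 + w1, by rwa [dotProduct_add, hw1, add_zero], fun h3 => hw1v ?_⟩
      have := Submodule.sub_mem _ h3 h2
      rwa [add_sub_cancel_left] at this
    · exact ⟨_, h0, h2⟩
  have hw10 : w1 ≠ 0 := fun h => hw1v (h ▸ Submodule.zero_mem _)
  have hw20 : w2 ≠ 0 := fun h => hw2v (h ▸ Submodule.zero_mem _)
  have hne : ∀ {w : Fin 3 → F} (hw : w ≠ 0), w ∉ Submodule.span F {v} →
      Projectivization.mk F v hv ≠ Projectivization.mk F w hw := by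
    intro w hw hwv h
    obtain ⟨a, ha⟩ := (Projectivization.mk_eq_mk_iff' F w v hw hv).1 h.symm
    exact hwv (Submodule.mem_span_singleton.2 ⟨a, ha⟩)
  have h2 : IsMultiplyPretransitive (Matrix.SpecialLinearGroup (Fin 3) F) (Projectivization F (Fin 3 → F)) 2 :=
    inferInstance
  rw [is_two_pretransitive_iff] at h2
  obtain ⟨g, hg1, hg2⟩ := h2 (hne hw10 hw1v) (hne hw20 hw2v)
  rw [Projectivization.smul_mk, Projectivization.mk_eq_mk_iff'] at hg2
  obtain ⟨a, ha⟩ := hg2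
  have h3 : a • w2 = (g : Matrix (Fin 3) (Fin 3) F) *ᵥ w1 := ha
  have h4 := h1 g (mem_stabilizer_iff.2 hg1) w1 hw1
  rw [← h3, dotProduct_smul, smul_eq_mul, mul_eq_zero] at h4
  rcases h4 with h4 | h4
  · rw [h4, zero_smul] at h3
    exact smul_ne_zero_iff_ne g |>.2 hw10 h3.symm
  · exact hw2 h4

/-! ### arithmetic -/

theorem prime_facts {r Q : ℕ} (hr : r.Prime) (h3 : r ≠ 3) (hQ : 1 ≤ Q) (hd : r ∣ Q ^ 2 + Q + 1) :
    ¬ r ∣ Q ^ 3 * (Q ^ 2 - 1) * (Q - 1) := by
  obtain ⟨k, rfl⟩ := Nat.exists_eq_add_of_le hQ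
  have e1 : (1 + k) ^ 2 - 1 = k * (k + 2) := by
    have : (1 + k) ^ 2 = k * (k + 2) + 1 := by ring
    omega
  have e2 : 1 + k - 1 = k := by omega
  rw [e1, e2]
  have hQ' : ¬ r ∣ 1 + k := by
    intro h
    have h4 : r ∣ (1 + k) ^ 2 + (1 + k) := by
      rw [sq]; exact Dvd.dvd.add (h.mul_right _) h
    exact hr.one_lt.ne' (Nat.dvd_one.1 ((Nat.dvd_add_right h4).1 hd))
  have hk : ¬ r ∣ k := by
    intro h
    have h4 : (1 + k) ^ 2 + (1 + k) + 1 = k * (k + 3) + 3 := by ring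
    rw [h4] at hd
    have h5 : r ∣ 3 := (Nat.dvd_add_right (h.mul_right _)).1 hd
    exact h3 ((Nat.prime_dvd_prime_iff_eq hr Nat.prime_three).1 h5)
  have hk2 : ¬ r ∣ k + 2 := by
    intro h
    have h4 : (1 + k) ^ 2 + (1 + k) + 1 = (k + 2) * (1 + k) + 1 := by ring
    rw [h4] at hd
    exact hr.one_lt.ne' (Nat.dvd_one.1 ((Nat.dvd_add_right (h.mul_right _)).1 hd))
  intro h
  rcases hr.dvd_mul.1 h with h | h
  · rcases hr.dvd_mul.1 h with h | h
    · exact hQ' (hr.dvd_of_dvd_pow h)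
    · rcases hr.dvd_mul.1 h with h | h
      · exact hk h
      · exact hk2 h
  · exact hk h

theorem exists_prime {Q : ℕ} (hQ : 2 ≤ Q) : ∃ r : ℕ, r.Prime ∧ r ≠ 3 ∧ r ∣ Q ^ 2 + Q + 1 := by
  by_contra hcon
  push Not at hcon
  have h1 : Q ^ 2 + Q + 1 ≠ 0 := by omega
  have h2 := Nat.eq_prime_pow_of_unique_prime_dvd h1 (p := 3) (fun {d} hd hdd => by
    by_contra h; exact hcon d hd h hdd)
  set k := (Q ^ 2 + Q + 1).primeFactorsList.length with hk
  have h7 : 7 ≤ Q ^ 2 + Q + 1 := by nlinarith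
  rcases (by omega : k = 0 ∨ k = 1 ∨ 2 ≤ k) with h | h | h
  · rw [h, pow_zero] at h2; omega
  · rw [h, pow_one] at h2; omega
  · have h9 : 9 ∣ Q ^ 2 + Q + 1 := by
      rw [h2]
      exact (pow_dvd_pow 3 h)
    have h10 : (Q ^ 2 + Q + 1) % 9 = 0 := Nat.mod_eq_zero_of_dvd h9
    rw [Nat.add_mod, Nat.add_mod (Q ^ 2), Nat.pow_mod] at h10
    have h11 : Q % 9 < 9 := Nat.mod_lt _ (by norm_num)
    interval_cases (Q % 9) <;> omega

theorem card_SL3 {K : Type*} [Field K] [Finite K] :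
    Nat.card (Matrix.SpecialLinearGroup (Fin 3) K) =
      Nat.card K ^ 3 * (Nat.card K ^ 2 - 1) * (Nat.card K - 1) * (Nat.card K ^ 2 + Nat.card K + 1) := by
  have : Fintype K := Fintype.ofFinite K
  rw [Cfsg.Agent.H953.card_SL 3 (by norm_num)]
  have h1 : ∑ i ∈ Finset.range 3, i = 3 := by decide
  have h2 : Finset.Icc 2 3 = {2, 3} := by decide
  rw [h1, h2, Finset.prod_pair (by norm_num), Nat.card_eq_fintype_card]
  have h3 : 1 ≤ Fintype.card K := Fintype.card_pos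
  have h4 : Fintype.card K ^ 3 - 1 = (Fintype.card K - 1) * (Fintype.card K ^ 2 + Fintype.card K + 1) := by
    obtain ⟨k, hk⟩ := Nat.exists_eq_add_of_le h3
    rw [hk]
    have : (1 + k) ^ 3 = (1 + k - 1) * ((1 + k) ^ 2 + (1 + k) + 1) + 1 := by
      rw [Nat.add_sub_cancel_left]; ring
    omega
  rw [h4]
  ring

theorem sum_three (Q : ℕ) : ∑ i ∈ Finset.range 3, Q ^ i = Q ^ 2 + Q + 1 := by
  rw [Finset.sum_range_succ, Finset.sum_range_succ, Finset.sum_range_one]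
  ring

theorem card_stab3 {K : Type*} [Field K] [Finite K] (x : Projectivization K (Fin 3 → K)) :
    Nat.card (stabilizer (Matrix.SpecialLinearGroup (Fin 3) K) x) =
      Nat.card K ^ 3 * (Nat.card K ^ 2 - 1) * (Nat.card K - 1) := by
  have h1 := (stabilizer (Matrix.SpecialLinearGroup (Fin 3) K) x).card_mul_index
  rw [index_stab, sum_three, card_SL3] at h1
  exact Nat.eq_of_mul_eq_mul_right (by positivity) h1

/-! ### the case of a field automorphism of order three -/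

theorem fld_emb (σ : F ≃+* F) (c : Matrix.SpecialLinearGroup (Fin 3) ↥(fixf σ)) :
    (fld σ : MulAut _) (emb σ c) = emb σ c := by
  apply Subtype.ext
  ext i j
  rw [coe_fld_apply, coe_emb]
  exact (c.1 i j).2

theorem core_three [Finite F] {σ : F ≃+* F} (hσ : σ ^ 3 = 1) {c : Matrix.SpecialLinearGroup (Fin 3) ↥(fixf σ)} {r : ℕ}
    (hr : r.Prime) (hc : orderOf c = r) (hr3 : r ≠ 3) (hrd : r ∣ Nat.card ↥(fixf σ) ^ 2 + Nat.card ↥(fixf σ) + 1)
    {v : Fin 3 → F} (hv : v ≠ 0)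
    (h : ∀ g ∈ stabilizer (Matrix.SpecialLinearGroup (Fin 3) F) (Projectivization.mk F v hv),
      (cj (Matrix.SpecialLinearGroup.toGL (emb σ c)) * fld σ : MulAut _) g ∈
        stabilizer (Matrix.SpecialLinearGroup (Fin 3) F) (Projectivization.mk F v hv)) : False := by
  set a : Matrix.SpecialLinearGroup (Fin 3) F := emb σ c with ha
  set A : GL (Fin 3) F := Matrix.SpecialLinearGroup.toGL a with hA
  have h1 : stabilizer (Matrix.SpecialLinearGroup (Fin 3) F) (Projectivization.mk F v hv) ≤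
      stabilizer (Matrix.SpecialLinearGroup (Fin 3) F)
      (Projectivization.mk F ((σ.symm : F → F) ∘ (((A⁻¹ : GL (Fin 3) F) : Matrix (Fin 3) (Fin 3) F) *ᵥ v))
        (comp_ne_zero σ.symm (gl_ne_zero A⁻¹ hv))) := fun g hg => (semi_iff A σ hv g).1 (h g hg)
  obtain ⟨μ, hμ⟩ := (Projectivization.mk_eq_mk_iff' F _ _ _ _).1 (stab_le h1)
  have hAv : (A : Matrix (Fin 3) (Fin 3) F) = (a : Matrix (Fin 3) (Fin 3) F) := rfl
  have hsv : (a : Matrix (Fin 3) (Fin 3) F) *ᵥ ((σ : F → F) ∘ v) = σ μ • v := by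
    have h2 : (σ : F → F) ∘ v = σ μ • (((A⁻¹ : GL (Fin 3) F) : Matrix (Fin 3) (Fin 3) F) *ᵥ v) := by
      rw [← hμ, comp_smul]
      congr 1
      rw [hμ]
      funext i
      exact σ.apply_symm_apply _
    rw [h2, mulVec_smul, ← hAv, mulVec_mulVec, ← Units.val_mul, mul_inv_cancel, Units.val_one, one_mulVec]
  set ν := σ μ with hν
  have haσ : (a : Matrix (Fin 3) (Fin 3) F).map σ = (a : Matrix (Fin 3) (Fin 3) F) := by
    have := congrArg Subtype.val (fld_emb σ c)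
    exact this
  have hs2 : (a : Matrix (Fin 3) (Fin 3) F) *ᵥ ((σ : F → F) ∘ ((σ : F → F) ∘ v)) = σ ν • ((σ : F → F) ∘ v) := by
    rw [← comp_smul, ← hsv, comp_mulVec, haσ]
  have hs3 : (a : Matrix (Fin 3) (Fin 3) F) *ᵥ ((σ : F → F) ∘ ((σ : F → F) ∘ ((σ : F → F) ∘ v))) =
      σ (σ ν) • ((σ : F → F) ∘ ((σ : F → F) ∘ v)) := by
    rw [← comp_smul, ← hs2, comp_mulVec, haσ]
  have hσ3 : ∀ x : F, σ (σ (σ x)) = x := by
    intro x
    have := congrArg (fun τ : F ≃+* F => τ x) hσ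
    exact this
  have hv3 : (σ : F → F) ∘ ((σ : F → F) ∘ ((σ : F → F) ∘ v)) = v := by
    funext i; exact hσ3 _
  rw [hv3] at hs3
  have hcube : ((a ^ 3 : Matrix.SpecialLinearGroup (Fin 3) F) : Matrix (Fin 3) (Fin 3) F) *ᵥ v =
      (ν * σ ν * σ (σ ν)) • v := by
    rw [Matrix.SpecialLinearGroup.coe_pow, pow_succ, pow_succ, pow_one, ← mulVec_mulVec, hs3, mulVec_smul,
      ← mulVec_mulVec, hs2, mulVec_smul, hsv, smul_smul, smul_smul]
    congr 1
    ring
  have hN : σ (ν * σ ν * σ (σ ν)) = ν * σ ν * σ (σ ν) := by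
    rw [map_mul, map_mul, hσ3]; ring
  -- an eigenvector over the fixed field
  let N : ↥(fixf σ) := ⟨ν * σ ν * σ (σ ν), hN⟩
  have hdet : (((c ^ 3 : Matrix.SpecialLinearGroup (Fin 3) ↥(fixf σ)) : Matrix (Fin 3) (Fin 3) ↥(fixf σ)) -
      N • (1 : Matrix (Fin 3) (Fin 3) ↥(fixf σ))).det = 0 := by
    apply (fixf σ).subtype.injective
    rw [RingHom.map_det, map_zero, ← Matrix.exists_mulVec_eq_zero_iff]
    refine ⟨v, hv, ?_⟩
    have h5 : (fixf σ).subtype.mapMatrix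
        (((c ^ 3 : Matrix.SpecialLinearGroup (Fin 3) ↥(fixf σ)) : Matrix (Fin 3) (Fin 3) ↥(fixf σ)) -
          N • (1 : Matrix (Fin 3) (Fin 3) ↥(fixf σ))) =
        ((a ^ 3 : Matrix.SpecialLinearGroup (Fin 3) F) : Matrix (Fin 3) (Fin 3) F) -
          (ν * σ ν * σ (σ ν)) • (1 : Matrix (Fin 3) (Fin 3) F) := by
      rw [ha, ← map_pow, map_sub]
      congr 1
      ext i j
      rw [RingHom.mapMatrix_apply, Matrix.map_apply, Matrix.smul_apply, Matrix.smul_apply, smul_eq_mul, smul_eq_mul,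
        map_mul]
      congr 1
      rw [Matrix.one_apply, Matrix.one_apply]
      split_ifs
      · exact map_one _
      · exact map_zero _
    rw [h5, sub_mulVec, hcube, smul_mulVec, one_mulVec, sub_self]
  obtain ⟨w, hw, hw2⟩ := Matrix.exists_mulVec_eq_zero_iff.2 hdet
  have hmem : c ^ 3 ∈ stabilizer (Matrix.SpecialLinearGroup (Fin 3) ↥(fixf σ)) (Projectivization.mk ↥(fixf σ) w hw) := by
    rw [mem_stab_mk]
    refine ⟨N, ?_⟩
    rw [sub_mulVec, smul_mulVec, one_mulVec, sub_eq_zero] at hw2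
    exact hw2
  have hord : orderOf (c ^ 3) = r := by
    rw [Nat.Coprime.orderOf_pow, hc]
    rw [hc]
    exact (Nat.coprime_primes hr Nat.prime_three).2 hr3
  have hdvd : r ∣ Nat.card (stabilizer (Matrix.SpecialLinearGroup (Fin 3) ↥(fixf σ))
      (Projectivization.mk ↥(fixf σ) w hw)) := by
    rw [← hord]
    exact Subgroup.orderOf_dvd_natCard _ hmem
  rw [card_stab3] at hdvd
  exact prime_facts hr hr3 Nat.card_pos hrd hdvd

end three

end Cfsg.Agent.H937.SL3
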