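import Mathlib
import Cfsg.Agent.ClassicalGeometry.AutPSL.Main

/-!
# Subgroups of `SL_n(q)` of index prime to the characteristic (helper937, for S4388)

* `Cen K` : the set of all centres all of whose transvections lie in `K`, a `K`-invariant subspace;
* `exists_invariant` : a proper subgroup of `SL_n(q)` of index prime to the characteristic leaves a proper subspace
  invariant;
* `point_or_line` : for `n = 3` such a subgroup fixes a point or a line;
* `index_stab`, `stab_inj` : stabilisers of points.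
-/

set_option autoImplicit false
set_option linter.unusedSectionVars false

namespace Cfsg.Agent.H937.SL3

open Matrix MulAction
open Cfsg.Agent.ClassicalGeometry.AutPSL.Root
open Cfsg.Agent.ClassicalGeometry.AutPSL.Auto

variable {ι F : Type*} [Fintype ι] [DecidableEq ι] [Field F]

/-- linear functionals are dot products -/
theorem exists_dot (f : (ι → F) →ₗ[F] F) : ∃ u : ι → F, ∀ w, f w = u ⬝ᵥ w := by
  refine ⟨fun i => f (fun j => if i = j then 1 else 0), fun w => ?_⟩
  rw [LinearMap.pi_apply_eq_sum_univ f w]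
  simp only [dotProduct, smul_eq_mul]
  exact Finset.sum_congr rfl fun i _ => mul_comm _ _

theorem exists_dot_of_notMem {W : Submodule F (ι → F)} {x : ι → F} (hx : x ∉ W) :
    ∃ u : ι → F, u ⬝ᵥ x = 1 ∧ ∀ w ∈ W, u ⬝ᵥ w = 0 := by
  obtain ⟨f, hf, hW⟩ := Submodule.exists_dual_map_eq_bot_of_notMem hx inferInstance
  obtain ⟨u, hu⟩ := exists_dot f
  have h0 : ∀ w ∈ W, u ⬝ᵥ w = 0 := by
    intro w hw
    have h1 : f w ∈ W.map f := ⟨w, hw, rfl⟩
    rw [hW, Submodule.mem_bot] at h1
    rw [← hu, h1]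
  rw [hu] at hf
  refine ⟨(u ⬝ᵥ x)⁻¹ • u, ?_, fun w hw => ?_⟩
  · rw [smul_dotProduct, smul_eq_mul, inv_mul_cancel₀ hf]
  · rw [smul_dotProduct, h0 w hw, smul_zero]

/-- the centres of the transvection groups contained in `K` -/
def Cen (K : Subgroup (Matrix.SpecialLinearGroup ι F)) : Set (ι → F) := {v | ∀ φ (h : φ ⬝ᵥ v = 0), tr v φ h ∈ K}

theorem cen_zero (K : Subgroup (Matrix.SpecialLinearGroup ι F)) : (0 : ι → F) ∈ Cen K := by
  intro φ h
  have : tr (0 : ι → F) φ h = 1 := by
    apply Subtype.ext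
    rw [coe_tr, zero_vecMulVec, add_zero]
    rfl
  rw [this]
  exact K.one_mem

theorem cen_smul {K : Subgroup (Matrix.SpecialLinearGroup ι F)} {v : ι → F} (hv : v ∈ Cen K) (c : F) :
    c • v ∈ Cen K := by
  rcases eq_or_ne c 0 with rfl | hc
  · rw [zero_smul]; exact cen_zero K
  · intro φ h
    have h1 : (c • φ) ⬝ᵥ v = 0 := by
      rw [dotProduct_smul] at h
      rw [smul_dotProduct, h]
    have h2 : tr (c • v) φ h = tr v (c • φ) h1 := by
      apply Subtype.ext
      rw [coe_tr, coe_tr, smul_vecMulVec, vecMulVec_smul]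
    rw [h2]
    exact hv _ _

theorem cen_apply {K : Subgroup (Matrix.SpecialLinearGroup ι F)} {v : ι → F} (hv : v ∈ Cen K)
    {g : Matrix.SpecialLinearGroup ι F} (hg : g ∈ K) : (g : Matrix ι ι F) *ᵥ v ∈ Cen K := by
  intro φ h
  have h0 : (φ ᵥ* (g : Matrix ι ι F)) ⬝ᵥ v = 0 := by rw [← dotProduct_mulVec]; exact h
  have h1 : tr ((g : Matrix ι ι F) *ᵥ v) φ h = g * tr v (φ ᵥ* (g : Matrix ι ι F)) h0 * g⁻¹ := by
    apply Subtype.ext
    rw [Matrix.SpecialLinearGroup.coe_mul, Matrix.SpecialLinearGroup.coe_mul, coe_tr, coe_tr, mul_add, mul_one,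
      add_mul, ← Matrix.SpecialLinearGroup.coe_mul, mul_inv_cancel, Matrix.SpecialLinearGroup.coe_one, mul_vecMulVec,
      vecMulVec_mul, vecMul_vecMul, ← Matrix.SpecialLinearGroup.coe_mul, mul_inv_cancel,
      Matrix.SpecialLinearGroup.coe_one, vecMul_one]
  rw [h1]
  exact K.mul_mem (K.mul_mem hg (hv _ _)) (K.inv_mem hg)

theorem cen_add {K : Subgroup (Matrix.SpecialLinearGroup ι F)} {a b : ι → F} (ha : a ∈ Cen K) (hb : b ∈ Cen K) :
    a + b ∈ Cen K := by
  by_cases h : b ∈ Submodule.span F {a}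
  · obtain ⟨c, rfl⟩ := Submodule.mem_span_singleton.1 h
    have : a + c • a = (1 + c) • a := by rw [add_smul, one_smul]
    rw [this]
    exact cen_smul ha _
  · obtain ⟨u, hu, hu0⟩ := exists_dot_of_notMem h
    have h1 : u ⬝ᵥ a = 0 := hu0 a (Submodule.mem_span_singleton_self a)
    have h2 : (tr a u h1 : Matrix ι ι F) *ᵥ b = a + b := by
      rw [tr_mulVec, hu, one_smul, add_comm]
    rw [← h2]
    exact cen_apply hb (ha u h1)

/-- the `K`-invariant subspace of centres -/
def cenS (K : Subgroup (Matrix.SpecialLinearGroup ι F)) : Submodule F (ι → F) where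
  carrier := Cen K
  add_mem' := fun ha hb => cen_add ha hb
  zero_mem' := cen_zero K
  smul_mem' := fun c _ hv => cen_smul hv c

theorem eq_top_of_cenS {K : Subgroup (Matrix.SpecialLinearGroup ι F)} (h : cenS K = ⊤) : K = ⊤ := by
  rw [eq_top_iff, ← Cfsg.Agent.LieClassical.SLGen.closure_transvections, Subgroup.closure_le]
  rintro _ ⟨i, j, hij, c, rfl⟩
  rw [transvection_eq_tr hij c]
  have h1 : ∀ v : ι → F, v ∈ Cen K := fun v => by
    have : v ∈ cenS K := by rw [h]; trivial
    exact this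
  exact h1 _ _ _

/-! ### groups of index prime to the characteristic -/

/-- the group of transvections with centre `v` -/
def trG (v : ι → F) : Subgroup (Matrix.SpecialLinearGroup ι F) where
  carrier := {g | ∃ φ, ∃ h : φ ⬝ᵥ v = 0, g = tr v φ h}
  one_mem' := ⟨0, zero_dotProduct v, by
    apply Subtype.ext
    rw [coe_tr, vecMulVec_zero, add_zero]; rfl⟩
  mul_mem' := by
    rintro _ _ ⟨φ, h, rfl⟩ ⟨ψ, h', rfl⟩
    exact ⟨φ + ψ, _, tr_mul_same_center v φ ψ h h'⟩
  inv_mem' := by
    rintro _ ⟨φ, h, rfl⟩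
    have h1 : (-φ) ⬝ᵥ v = 0 := by rw [neg_dotProduct, h, neg_zero]
    refine ⟨-φ, h1, ?_⟩
    rw [inv_eq_iff_mul_eq_one, tr_mul_same_center v φ (-φ) h h1]
    apply Subtype.ext
    rw [coe_tr, add_neg_cancel, vecMulVec_zero, add_zero]
    rfl

theorem tr_pow (v φ : ι → F) (h : φ ⬝ᵥ v = 0) (n : ℕ) :
    ((tr v φ h) ^ n : Matrix.SpecialLinearGroup ι F) = tr v ((n : F) • φ) (by rw [smul_dotProduct, h, smul_zero]) := by
  induction n with
  | zero =>
    apply Subtype.ext
    rw [pow_zero, coe_tr, Nat.cast_zero, zero_smul, vecMulVec_zero, add_zero]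
    rfl
  | succ n ih =>
    rw [pow_succ, ih, tr_mul_same_center]
    apply Subtype.ext
    rw [coe_tr, coe_tr]
    congr 2
    rw [Nat.cast_succ, add_smul, one_smul]

theorem isPGroup_trG {p : ℕ} [Fact p.Prime] [CharP F p] (v : ι → F) : IsPGroup p (trG v) := by
  rintro ⟨_, φ, h, rfl⟩
  refine ⟨1, Subtype.ext ?_⟩
  show (tr v φ h) ^ p ^ 1 = 1
  rw [pow_one, tr_pow]
  apply Subtype.ext
  rw [coe_tr, CharP.cast_eq_zero, zero_smul, vecMulVec_zero, add_zero]
  rfl

/-- a Sylow `p`-subgroup contains a full group of transvections with given centre -/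
theorem exists_cen [Finite F] {p : ℕ} [Fact p.Prime] [CharP F p] [Nonempty ι]
    {K : Subgroup (Matrix.SpecialLinearGroup ι F)} (hK : ¬ p ∣ K.index) : ∃ v : ι → F, v ≠ 0 ∧ v ∈ Cen K := by
  obtain ⟨P⟩ : Nonempty (Sylow p K) := inferInstance
  have hidx : ¬ p ∣ ((P : Subgroup K).map K.subtype).index := by
    rw [Subgroup.index_map_subtype, (Fact.out : p.Prime).dvd_mul]
    rintro (h | h)
    · exact P.not_dvd_index h
    · exact hK h
  let P' : Sylow p (Matrix.SpecialLinearGroup ι F) := (P.isPGroup'.map K.subtype).toSylow hidx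
  have hPK : (P' : Subgroup (Matrix.SpecialLinearGroup ι F)) ≤ K := Subgroup.map_subtype_le _
  have hcard : p ∣ Nat.card (ι → F) := by
    have : Fintype F := Fintype.ofFinite F
    obtain ⟨n, hn, hF⟩ := FiniteField.card F p
    rw [Nat.card_eq_fintype_card, Fintype.card_fun, hF, ← pow_mul]
    exact dvd_pow_self p (Nat.mul_ne_zero n.ne_zero Fintype.card_ne_zero)
  obtain ⟨v, hv, hv0⟩ := P'.isPGroup'.exists_fixed_point_of_prime_dvd_card_of_fixed_point (ι → F) hcard (a := 0)
    (fun g => smul_zero _)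
  refine ⟨v, hv0.symm, fun φ h => hPK ?_⟩
  have hfix : ∀ g ∈ (P' : Subgroup (Matrix.SpecialLinearGroup ι F)), (g : Matrix ι ι F) *ᵥ v = v := fun g hg =>
    hv ⟨g, hg⟩
  have hnorm : (P' : Subgroup (Matrix.SpecialLinearGroup ι F)) ≤
      Subgroup.normalizer ((trG v : Subgroup (Matrix.SpecialLinearGroup ι F)) : Set _) := by
    have key : ∀ g ∈ (P' : Subgroup (Matrix.SpecialLinearGroup ι F)), ∀ x ∈ trG v, g * x * g⁻¹ ∈ trG v := by
      rintro g hg _ ⟨φ, h, rfl⟩
      have h0 : (φ ᵥ* ((g⁻¹ : Matrix.SpecialLinearGroup ι F) : Matrix ι ι F)) ⬝ᵥ v = 0 := by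
        rw [← dotProduct_mulVec, hfix _ (inv_mem hg)]; exact h
      refine ⟨_, h0, ?_⟩
      apply Subtype.ext
      rw [Matrix.SpecialLinearGroup.coe_mul, Matrix.SpecialLinearGroup.coe_mul, coe_tr, coe_tr, mul_add, mul_one,
        add_mul, ← Matrix.SpecialLinearGroup.coe_mul, mul_inv_cancel, Matrix.SpecialLinearGroup.coe_one, mul_vecMulVec,
        vecMulVec_mul, hfix g hg]
    intro g hg
    rw [Subgroup.mem_normalizer_iff]
    intro x
    refine ⟨key g hg x, fun hx => ?_⟩
    have := key g⁻¹ (inv_mem hg) _ hx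
    rwa [inv_inv, show g⁻¹ * (g * x * g⁻¹) * g = x by group] at this
  have h1 := P'.isPGroup'.to_sup_of_normal_right' (isPGroup_trG (p := p) v) hnorm
  have h2 := P'.is_maximal' h1 le_sup_left
  rw [← h2]
  exact (le_sup_right : trG v ≤ _) ⟨φ, h, rfl⟩

/-- a proper subgroup of index prime to the characteristic leaves a proper subspace invariant -/
theorem exists_invariant [Finite F] {p : ℕ} [Fact p.Prime] [CharP F p] [Nonempty ι]
    {K : Subgroup (Matrix.SpecialLinearGroup ι F)} (hK : ¬ p ∣ K.index) (hne : K ≠ ⊤) :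
    ∃ W : Submodule F (ι → F), W ≠ ⊥ ∧ W ≠ ⊤ ∧ ∀ g ∈ K, ∀ w ∈ W, (g : Matrix ι ι F) *ᵥ w ∈ W := by
  obtain ⟨v, hv0, hv⟩ := exists_cen (p := p) hK
  refine ⟨cenS K, ?_, fun h => hne (eq_top_of_cenS h), fun g hg w hw => cen_apply hw hg⟩
  intro h
  have h1 : v ∈ cenS K := hv
  rw [h, Submodule.mem_bot] at h1
  exact hv0 h1

/-! ### stabilisers of points -/

/-- the stabiliser of a point in terms of matrices -/
theorem mem_stab_mk {g : Matrix.SpecialLinearGroup ι F} {v : ι → F} (hv : v ≠ 0) :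
    g ∈ stabilizer (Matrix.SpecialLinearGroup ι F) (Projectivization.mk F v hv) ↔
      ∃ c : F, (g : Matrix ι ι F) *ᵥ v = c • v := by
  rw [mem_stabilizer_iff, Projectivization.smul_mk, Projectivization.mk_eq_mk_iff']
  constructor
  · rintro ⟨c, hc⟩; exact ⟨c, hc.symm⟩
  · rintro ⟨c, hc⟩; exact ⟨c, hc.symm⟩

theorem pretrans [Nontrivial ι] : IsPretransitive (Matrix.SpecialLinearGroup ι F) (Projectivization F (ι → F)) :=
  inferInstance

theorem index_stab (n : ℕ) [Finite F] (x : Projectivization F (Fin n → F)) :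
    (stabilizer (Matrix.SpecialLinearGroup (Fin n) F) x).index = ∑ i ∈ Finset.range n, Nat.card F ^ i := by
  rw [index_stabilizer_of_transitive, Projectivization.card_of_finrank F (Fin n → F) (Module.finrank_fin_fun F)]

/-- a stabiliser of a point moves every other point -/
theorem stab_le [Nontrivial ι] {x y : Projectivization F (ι → F)}
    (h : stabilizer (Matrix.SpecialLinearGroup ι F) x ≤ stabilizer (Matrix.SpecialLinearGroup ι F) y) : x = y := by
  by_contra hxy
  have h2 : IsMultiplyPretransitive (Matrix.SpecialLinearGroup ι F) (Projectivization F (ι → F)) 2 := inferInstance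
  rw [is_two_pretransitive_iff] at h2
  -- a third point
  obtain ⟨z, hzx, hzy⟩ : ∃ z : Projectivization F (ι → F), z ≠ x ∧ z ≠ y := by
    induction x using Projectivization.ind with | h v hv =>
    induction y using Projectivization.ind with | h w hw =>
    have hvw : ¬ ∃ a : F, a • w = v := fun h => hxy ((Projectivization.mk_eq_mk_iff' F v w hv hw).2 h)
    have h0 : v + w ≠ 0 := by
      intro h0
      apply hvw
      refine ⟨-1, ?_⟩
      rw [neg_smul, one_smul, neg_eq_iff_add_eq_zero, add_comm]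
      exact h0
    refine ⟨Projectivization.mk F (v + w) h0, ?_, ?_⟩
    · intro h1
      obtain ⟨a, ha⟩ := (Projectivization.mk_eq_mk_iff' F _ _ h0 hv).1 h1
      have h3 : (a - 1) • v = w := by rw [sub_smul, one_smul, ha]; abel
      rcases eq_or_ne (a - 1) 0 with h4 | h4
      · rw [h4, zero_smul] at h3
        exact hw h3.symm
      · apply hvw
        exact ⟨(a - 1)⁻¹, by rw [← h3, smul_smul, inv_mul_cancel₀ h4, one_smul]⟩
    · intro h1
      obtain ⟨a, ha⟩ := (Projectivization.mk_eq_mk_iff' F _ _ h0 hw).1 h1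
      apply hvw
      exact ⟨a - 1, by rw [sub_smul, one_smul, ha]; abel⟩
  obtain ⟨g, h3, h4⟩ := h2 hxy (fun h => hzx h.symm : x ≠ z)
  have h5 : g ∈ stabilizer (Matrix.SpecialLinearGroup ι F) y := h (mem_stabilizer_iff.2 h3)
  rw [mem_stabilizer_iff.1 h5] at h4
  exact hzy h4.symm

theorem stab_eq_of_le {n : ℕ} [Finite F] {K : Subgroup (Matrix.SpecialLinearGroup (Fin n) F)}
    {x : Projectivization F (Fin n → F)} (h : K ≤ stabilizer (Matrix.SpecialLinearGroup (Fin n) F) x)
    (hi : K.index ≤ ∑ i ∈ Finset.range n, Nat.card F ^ i) : K = stabilizer (Matrix.SpecialLinearGroup (Fin n) F) x := by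
  refine le_antisymm h ?_
  have h1 := Subgroup.relIndex_mul_index h
  rw [index_stab] at h1
  have h2 : 0 < ∑ i ∈ Finset.range n, Nat.card F ^ i := by
    rw [← index_stab n x]
    exact Nat.pos_of_ne_zero Subgroup.index_ne_zero_of_finite
  have h3 : K.relIndex (stabilizer (Matrix.SpecialLinearGroup (Fin n) F) x) = 1 := by
    have h4 : K.relIndex (stabilizer (Matrix.SpecialLinearGroup (Fin n) F) x) ≠ 0 := by
      intro h0
      rw [h0, zero_mul] at h1
      exact Subgroup.index_ne_zero_of_finite h1.symm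
    rw [← h1] at hi
    have h5 : K.relIndex (stabilizer (Matrix.SpecialLinearGroup (Fin n) F) x) ≤ 1 := by
      by_contra hcon
      have h6 : 2 * ∑ i ∈ Finset.range n, Nat.card F ^ i ≤
          K.relIndex (stabilizer (Matrix.SpecialLinearGroup (Fin n) F) x) * ∑ i ∈ Finset.range n, Nat.card F ^ i :=
        Nat.mul_le_mul_right _ (by omega)
      omega
    omega
  exact Subgroup.relIndex_eq_one.1 h3

/-! ### dimension three -/

theorem point_or_line {K : Subgroup (Matrix.SpecialLinearGroup (Fin 3) F)} {W : Submodule F (Fin 3 → F)}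
    (h0 : W ≠ ⊥) (h1 : W ≠ ⊤) (hK : ∀ g ∈ K, ∀ w ∈ W, (g : Matrix (Fin 3) (Fin 3) F) *ᵥ w ∈ W) :
    (∃ x : Projectivization F (Fin 3 → F), K ≤ stabilizer (Matrix.SpecialLinearGroup (Fin 3) F) x) ∨
    (∃ x : Projectivization F (Fin 3 → F),
      K.map (itr : MulAut (Matrix.SpecialLinearGroup (Fin 3) F)).toMonoidHom ≤
        stabilizer (Matrix.SpecialLinearGroup (Fin 3) F) x) := by
  have hfin : Module.finrank F W < 3 := by
    have := Submodule.finrank_lt h1
    rwa [Module.finrank_fin_fun] at this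
  have hpos : 0 < Module.finrank F W := by
    rw [Module.finrank_pos_iff]
    exact Submodule.nontrivial_iff_ne_bot.2 h0
  rcases (by omega : Module.finrank F W = 1 ∨ Module.finrank F W = 2) with h | h
  · left
    obtain ⟨v, hv0, hv⟩ := finrank_eq_one_iff'.1 h
    have hv1 : (v : Fin 3 → F) ≠ 0 := fun h2 => hv0 (Subtype.ext h2)
    refine ⟨Projectivization.mk F v hv1, fun g hg => (mem_stab_mk hv1).2 ?_⟩
    obtain ⟨c, hc⟩ := hv ⟨_, hK g hg v v.2⟩
    exact ⟨c, (congrArg Subtype.val hc).symm⟩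
  · right
    obtain ⟨f, hf0, hf⟩ := Submodule.exists_le_ker_of_lt_top W (lt_top_iff_ne_top.2 h1)
    obtain ⟨u, hu⟩ := exists_dot f
    have hu0 : u ≠ 0 := by
      rintro rfl
      apply hf0
      apply LinearMap.ext
      intro w
      rw [hu, zero_dotProduct]
      rfl
    have hker : W = LinearMap.ker f := by
      apply Submodule.eq_of_le_of_finrank_le hf
      have h2 := LinearMap.finrank_range_add_finrank_ker f
      rw [Module.finrank_fin_fun] at h2
      have h3 : 0 < Module.finrank F (LinearMap.range f) := by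
        rw [Module.finrank_pos_iff]
        exact Submodule.nontrivial_iff_ne_bot.2 (fun h4 => hf0 (LinearMap.range_eq_bot.1 h4))
      omega
    refine ⟨Projectivization.mk F u hu0, ?_⟩
    rintro _ ⟨g, hg, rfl⟩
    rw [mem_stab_mk hu0]
    -- `u ∘ g⁻¹` vanishes on `W`
    have h2 : ∀ w : Fin 3 → F, u ⬝ᵥ w = 0 →
        (u ᵥ* ((g⁻¹ : Matrix.SpecialLinearGroup (Fin 3) F) : Matrix (Fin 3) (Fin 3) F)) ⬝ᵥ w = 0 := by
      intro w hw
      rw [← dotProduct_mulVec, ← hu]
      have h3 : w ∈ W := by rw [hker, LinearMap.mem_ker, hu]; exact hw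
      have h4 := hK g⁻¹ (K.inv_mem hg) w h3
      rw [hker, LinearMap.mem_ker] at h4
      exact h4
    obtain ⟨c, hc⟩ := exists_smul_of_ker_le hu0 h2
    refine ⟨c, ?_⟩
    show ((g⁻¹ : Matrix.SpecialLinearGroup (Fin 3) F) : Matrix (Fin 3) (Fin 3) F)ᵀ *ᵥ u = c • u
    rw [mulVec_transpose, hc]

end Cfsg.Agent.H937.SL3
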