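import Cfsg.Agent.OrdDiv.Main
import Cfsg.Agent.H704.DegOK
import Cfsg.Agent.H704.Enum
import Cfsg.Agent.H621.SymDeg.Chars
import Cfsg.Agent.H167.HasStLie
import Cfsg.Agent.S0252
import Cfsg.Agent.S0253
import Cfsg.Agent.S0254
import Cfsg.Agent.S0256

/-!
Simple groups with degrees of `S_n`, `n ≤ 9` (task for S4905).
-/

set_option autoImplicit false
open Cfsg Cfsg.Agent.OrdDiv Cfsg.Agent.H704

universe u

namespace Cfsg.Agent.H937.SmallElim

theorem cands_eq : (cands [(2, 6), (3, 4), (5, 1), (7, 1)] 181440).filter (fun g => decide (5 ∣ ordN g)) =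
    [.alt 5, .alt 6, .alt 7, .alt 8, .alt 9, .psl 4 2, .psl 2 4, .psl 3 4, .psl 2 9, .psl 2 5, .psp 2 3, .psu 4 2] := by
  decide +kernel

theorem fact_dvd {n : ℕ} (h9 : n ≤ 9) : n.factorial ∣ 362880 := by
  have h := Nat.factorial_dvd_factorial h9
  rwa [show Nat.factorial 9 = 362880 from rfl] at h

/-- a degree that is not a degree of `S_n`. -/
theorem no_deg {n : ℕ} {T : Type*} [Group T] (hd : DegOK n T) {ψ : T → ℂ} (hψ : IsIrrCharacter T ψ) {c : ℕ}
    (hc : ψ 1 = c) : IsDeg n c ∨ IsDeg n (2 * c) := by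
  obtain ⟨d, h1, h2 | h2⟩ := hd ψ hψ
  · left
    rw [hc] at h2
    have h3 : d = c := by exact_mod_cast h2
    rwa [← h3]
  · right
    rw [hc] at h2
    have h3 : d = 2 * c := by exact_mod_cast h2
    rwa [← h3]

theorem alt_case {n : ℕ} (h5 : 5 ≤ n) (h9 : n ≤ 9) {T : Type u} [Group T] [Finite T] [IsSimpleGroup T]
    (hna : ¬ IsMulCommutative T) (hd : DegOK n T) (hdvd : 2 * Nat.card T ∣ n.factorial) {m : ℕ} (hm5 : 5 ≤ m)
    (e : T ≃* alternatingGroup (Fin m)) : m = n := by
  have hcard := alt_card hm5 e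
  rw [← hcard] at hdvd
  have hmn : m ≤ n := by
    by_contra h
    push Not at h
    have h1 := Nat.le_of_dvd (Nat.factorial_pos n) hdvd
    have h2 := (Nat.factorial_lt (by omega : 0 < n)).2 h
    omega
  obtain ⟨ψ, hψ, h1⟩ := Cfsg.Agent.H621.SymDeg.alt_irr hm5 e
  have hA := no_deg hd hψ h1
  rcases Nat.lt_or_ge m n with hlt | hge
  swap
  · omega
  exfalso
  have hm8 : m ≤ 8 := by omega
  by_cases hspec : m = 5 ∧ n = 9
  · obtain ⟨rfl, rfl⟩ := hspec
    have hperf : commutator T = ⊤ := by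
      rcases (inferInstance : (commutator T).Normal).eq_bot_or_eq_top with h | h
      · exfalso
        apply hna
        rw [commutator_eq_bot_iff_center_eq_top] at h
        exact ⟨⟨fun a b => (Subgroup.mem_center_iff.1 (h ▸ Subgroup.mem_top b) a)⟩⟩
      · exact h
    have h60 : Nat.card T = 60 := by
      have h2 : Nat.factorial 5 = 120 := rfl
      omega
    obtain ⟨ψ', c, hψ', hc, hc1, hc2, hc3, hc4⟩ := Cfsg.Agent.H621.SymDeg.exists_irr_not_dvd hperf (r := 2)
      Nat.prime_two (by rw [h60]; norm_num)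
    rw [h60] at hc3 hc4
    have hc8 : c ≤ 7 := by nlinarith
    have hc35 : c = 3 ∨ c = 5 := by
      interval_cases c <;> omega
    rcases no_deg hd hψ' hc with h | h
    · have := deg9 h
      rcases hc35 with rfl | rfl <;> revert this <;> decide
    · have := deg9 h
      rcases hc35 with rfl | rfl <;> revert this <;> decide
  · have hn6 : 6 ≤ n := by omega
    interval_cases n
    · have hm : m = 5 := by omega
      subst hm
      rcases hA with h | h <;> (have := deg6 h; revert this; decide)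
    · rcases hA with h | h <;> (have := deg7 h; interval_cases m <;> revert this <;> decide)
    · rcases hA with h | h <;> (have := deg8 h; interval_cases m <;> revert this <;> decide)
    · rcases hA with h | h <;> (have := deg9 h; interval_cases m <;> first | (exact hspec ⟨rfl, rfl⟩) | (revert this; decide))

theorem small_elim_of (TT : OrderTable.{u}) {n : ℕ} (h5 : 5 ≤ n) (h9 : n ≤ 9) {T : Type u} [Group T] [Finite T]
    [IsSimpleGroup T] (hkn : IsKnownSimple' T)
    (hna : ¬ IsMulCommutative T) (hd : DegOK n T) (hdvd : 2 * Nat.card T ∣ n.factorial) (h5T : 5 ∣ Nat.card T)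
    (h7T : 7 ≤ n → 7 ∣ Nat.card T ∨ 2 * Nat.card T * 60 ≤ n.factorial) :
    Nonempty (T ≃* alternatingGroup (Fin n)) ∨
      (n = 8 ∧ ∃ (F : Type) (_ : Field F) (_ : Fintype F), Fintype.card F = 4 ∧
        Nonempty (T ≃* Matrix.ProjectiveSpecialLinearGroup (Fin 3) F)) := by
  have hdN : Nat.card T ∣ 181440 := by
    have h1 := hdvd.trans (fact_dvd h9)
    rw [show 362880 = 2 * 181440 from rfl] at h1
    exact Nat.dvd_of_mul_dvd_mul_left two_pos h1
  obtain ⟨g, hg, hr, hcard⟩ := exists_good TT hkn (fun h => hna ⟨⟨h⟩⟩) (l := [(2, 6), (3, 4), (5, 1), (7, 1)])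
    (by decide +kernel) hdN
  have hg' : g ∈ (cands [(2, 6), (3, 4), (5, 1), (7, 1)] 181440).filter (fun g => decide (5 ∣ ordN g)) := by
    rw [List.mem_filter]
    exact ⟨hg, by rw [← hcard]; simpa using h5T⟩
  rw [cands_eq] at hg'
  have halt : ∀ m, 5 ≤ m → Nonempty (T ≃* alternatingGroup (Fin m)) →
      Nonempty (T ≃* alternatingGroup (Fin n)) := by
    rintro m hm ⟨e⟩
    have h1 := alt_case h5 h9 hna hd hdvd hm e
    subst h1
    exact ⟨e⟩
  have h25920 : Nat.card T ≠ 25920 := by
    intro h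
    rw [h] at hdvd h7T
    have hn9 : n = 9 := by
      interval_cases n <;> first | rfl | (exfalso; revert hdvd; decide +kernel)
    subst hn9
    rcases h7T (by norm_num) with h1 | h1
    · revert h1; decide
    · revert h1; decide +kernel
  simp only [List.mem_cons, List.mem_nil_iff, or_false] at hg'
  rcases hg' with rfl | rfl | rfl | rfl | rfl | rfl | rfl | rfl | rfl | rfl | rfl | rfl
  · exact Or.inl (halt 5 (by norm_num) hr)
  · exact Or.inl (halt 6 (by norm_num) hr)
  · exact Or.inl (halt 7 (by norm_num) hr)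
  · exact Or.inl (halt 8 (by norm_num) hr)
  · exact Or.inl (halt 9 (by norm_num) hr)
  · obtain ⟨F, _, _, hF, ⟨e⟩⟩ := hr
    obtain ⟨e'⟩ := Cfsg.Agent.S0256.result hF
    exact Or.inl (halt 8 (by norm_num) ⟨e.trans e'⟩)
  · obtain ⟨F, _, _, hF, ⟨e⟩⟩ := hr
    obtain ⟨e'⟩ := Cfsg.Agent.S0252.result hF
    exact Or.inl (halt 5 (by norm_num) ⟨e.trans e'⟩)
  · -- L₃(4)
    right
    obtain ⟨F, hfld, hfin, hF, ⟨e⟩⟩ := hr
    have hc : Nat.card T = 20160 := hcard.trans (by decide +kernel)
    refine ⟨?_, F, hfld, hfin, hF, ⟨e⟩⟩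
    have hn : n = 8 ∨ n = 9 := by
      rw [hc] at hdvd
      interval_cases n
      · exfalso; revert hdvd; decide +kernel
      · exfalso; revert hdvd; decide +kernel
      · exfalso; revert hdvd; decide +kernel
      · exact Or.inl rfl
      · exact Or.inr rfl
    rcases hn with rfl | rfl
    · rfl
    exfalso
    have hlie : IsLieTypeChar 2 T := by
      refine Or.inl ⟨F, hfld, hfin, ?_, 3, by norm_num, by norm_num, ⟨e⟩⟩
      obtain ⟨p, hp⟩ := CharP.exists F
      have : Fact p.Prime := ⟨CharP.char_is_prime F p⟩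
      obtain ⟨n, hp', hn⟩ := FiniteField.card F p
      rw [hF] at hn
      have h1 : p ∣ 2 ^ 2 := by
        rw [show 2 ^ 2 = 4 from rfl, hn]
        exact dvd_pow_self p n.ne_zero
      have h2 : p = 2 := (Nat.prime_dvd_prime_iff_eq hp' Nat.prime_two).1 (hp'.dvd_of_dvd_pow h1)
      rwa [h2] at hp
    obtain ⟨χ, hχ, h1, -⟩ := Cfsg.Agent.H167.StChar.hasSt_of_lie Nat.prime_two hlie
    have h2 : (Nat.card T).factorization 2 = 6 := by
      rw [hc, show (20160 : ℕ) = 2 ^ 6 * 315 from rfl, Nat.factorization_mul (by norm_num) (by norm_num),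
        Finsupp.add_apply, Nat.Prime.factorization_pow Nat.prime_two, Finsupp.single_eq_same,
        Nat.factorization_eq_zero_of_not_dvd (by norm_num)]
    rw [h2] at h1
    rcases no_deg hd hχ h1 with h | h
    · have := deg9 h
      revert this; decide
    · have := deg9 h
      revert this; decide
  · obtain ⟨F, _, _, hF, ⟨e⟩⟩ := hr
    obtain ⟨e'⟩ := Cfsg.Agent.S0254.result hF
    exact Or.inl (halt 6 (by norm_num) ⟨e.trans e'⟩)
  · obtain ⟨F, _, _, hF, ⟨e⟩⟩ := hr
    obtain ⟨e'⟩ := Cfsg.Agent.S0253.result hF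
    exact Or.inl (halt 5 (by norm_num) ⟨e.trans e'⟩)
  · exact absurd (hcard.trans (by decide +kernel)) h25920
  · exact absurd (hcard.trans (by decide +kernel)) h25920

end Cfsg.Agent.H937.SmallElim
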