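import Cfsg.Agent.H937.T2Rep
import Cfsg.Agent.H882.Del.Mat
import Cfsg.Agent.S0242

/-!
# `PSL₂(q)` in dimension `q` lies in `A_{q+1}` (helper937)

`ρ : SL₂(E) → GL(ι, F)` with range `P`, `v0` fixed by the Borel subgroup and unique (up to scalars) fixed by `U`,
`|ι| = |E|`: if `P` is the residual core of a maximal subgroup of `Ω(Q)` then `Soc P ≃ A_{q+1}`.
-/

set_option autoImplicit false
set_option linter.unusedSectionVars false

namespace Cfsg.Agent.H937.T2

open Matrix Module Cfsg Cfsg.Geo Cfsg.Agent.H915.LD Cfsg.Agent.H464.Sl2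
open Cfsg.Agent.LieClassical.OrthCore

universe u' v'

variable {ι : Type} [Fintype ι] [DecidableEq ι] {F : Type u'} [Field F] {P : Subgroup (GL ι F)}
  {E : Type v'} [Field E]

/-- A Borel-fixed vector, unique up to scalars among the `U`-fixed vectors. -/
structure Stein (ρ : SpecialLinearGroup (Fin 2) E →* GL ι F) (v0 : ι → F) : Prop where
  ne : v0 ≠ 0
  fix_u : ∀ x : E, (ρ (u x) : Matrix ι ι F) *ᵥ v0 = v0
  fix_t : ∀ a : Eˣ, (ρ (t a) : Matrix ι ι F) *ᵥ v0 = v0
  uniq : ∀ v : ι → F, (∀ x : E, (ρ (u x) : Matrix ι ι F) *ᵥ v = v) → ∃ c : F, v = c • v0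

variable {ρ : SpecialLinearGroup (Fin 2) E →* GL ι F} {v0 : ι → F}

theorem mul_vec (a b : SpecialLinearGroup (Fin 2) E) (v : ι → F) :
    (ρ (a * b) : Matrix ι ι F) *ᵥ v = (ρ a : Matrix ι ι F) *ᵥ ((ρ b : Matrix ι ι F) *ᵥ v) := by
  rw [map_mul, Units.val_mul, Matrix.mulVec_mulVec]

theorem eq_of_inv {a : SpecialLinearGroup (Fin 2) E} {v w : ι → F} (h : (ρ a : Matrix ι ι F) *ᵥ v = w) :
    (ρ a⁻¹ : Matrix ι ι F) *ᵥ w = v := by
  rw [← h, ← mul_vec, inv_mul_cancel, map_one, Units.val_one, Matrix.one_mulVec]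

theorem w_eq (c : Eˣ) : w c = w 1 * t c := (w_one_mul_t c).symm

theorem Stein.big (S : Stein ρ v0) (x y : E) (c : Eˣ) :
    (ρ (u x * w c * u y) : Matrix ι ι F) *ᵥ v0 = (ρ (u x) : Matrix ι ι F) *ᵥ ((ρ (w 1) : Matrix ι ι F) *ᵥ v0) := by
  rw [mul_vec, mul_vec, S.fix_u, w_eq, mul_vec, S.fix_t]

theorem Stein.small (S : Stein ρ v0) (x : E) (a : Eˣ) : (ρ (u x * t a) : Matrix ι ι F) *ᵥ v0 = v0 := by
  rw [mul_vec, S.fix_t, S.fix_u]

theorem Stein.w_ne (S : Stein ρ v0) (hρ : ρ.range = P) (hC : Core P) : (ρ (w 1) : Matrix ι ι F) *ᵥ v0 ≠ v0 := by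
  intro hw
  have hall : ∀ g ∈ P, (g : Matrix ι ι F) *ᵥ v0 = v0 := by
    intro g hg
    rw [← hρ] at hg
    obtain ⟨x, rfl⟩ := hg
    rcases bruhat x with ⟨x, a, rfl⟩ | ⟨x, c, y, rfl⟩
    · exact S.small x a
    · rw [S.big, hw, S.fix_u]
  have h2 := hC.two_le
  rcases hC.absIrred.1 (Submodule.span F {v0}) (by
    rintro _ ⟨g, hg, rfl⟩ _ ⟨w, hw, rfl⟩
    obtain ⟨c, rfl⟩ := Submodule.mem_span_singleton.1 hw
    rw [Matrix.toLin'_apply, Matrix.mulVec_smul, hall g hg]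
    exact Submodule.smul_mem _ _ (Submodule.mem_span_singleton_self _)) with h | h
  · exact S.ne (Submodule.span_singleton_eq_bot.1 h)
  · have h1 := finrank_span_singleton (K := F) S.ne
    rw [h, finrank_top, Module.finrank_fintype_fun_eq_card] at h1
    omega

/-- the stabiliser of `v0` in `P` -/
def stab (P : Subgroup (GL ι F)) (v0 : ι → F) : Subgroup P where
  carrier := {g | ((g : GL ι F) : Matrix ι ι F) *ᵥ v0 = v0}
  mul_mem' := by
    intro a b ha hb
    change (((a * b : P) : GL ι F) : Matrix ι ι F) *ᵥ v0 = v0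
    rw [Subgroup.coe_mul, Units.val_mul, ← Matrix.mulVec_mulVec]
    rw [show ((b : GL ι F) : Matrix ι ι F) *ᵥ v0 = v0 from hb, show ((a : GL ι F) : Matrix ι ι F) *ᵥ v0 = v0 from ha]
  one_mem' := by
    change (((1 : P) : GL ι F) : Matrix ι ι F) *ᵥ v0 = v0
    rw [Subgroup.coe_one, Units.val_one, Matrix.one_mulVec]
  inv_mem' := by
    intro a ha
    change (((a⁻¹ : P) : GL ι F) : Matrix ι ι F) *ᵥ v0 = v0
    have ha' : ((a : GL ι F) : Matrix ι ι F) *ᵥ v0 = v0 := ha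
    conv_lhs => rw [← ha']
    rw [Matrix.mulVec_mulVec, ← Units.val_mul, ← Subgroup.coe_mul, inv_mul_cancel, Subgroup.coe_one, Units.val_one,
      Matrix.one_mulVec]

theorem mem_stab {g : P} : g ∈ stab P v0 ↔ ((g : GL ι F) : Matrix ι ι F) *ᵥ v0 = v0 := Iff.rfl

theorem exists_big {x y : E} (hxy : x ≠ y) :
    ∃ (a : E) (c : Eˣ) (b : E), (u x * w 1)⁻¹ * (u y * w 1) = u a * w c * u b := by
  have hz : y - x ≠ 0 := sub_ne_zero.2 (Ne.symm hxy)
  have e1 : (w (1 : Eˣ))⁻¹ = w (-1) := by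
    rw [inv_eq_iff_mul_eq_one, w_mul_w]
    have : (-(-1 / 1) : Eˣ) = 1 := by rw [div_one, neg_neg]
    rw [this, t_one]
  have e2 : (u x : SpecialLinearGroup (Fin 2) E)⁻¹ = u (-x) := by
    rw [inv_eq_iff_mul_eq_one, ← u_add, add_neg_cancel, u_zero]
  have e3 : (u x * w 1)⁻¹ * (u y * w 1) = w (-1) * u ((Units.mk0 _ hz : Eˣ) : E) * w 1 := by
    rw [_root_.mul_inv_rev, e1, e2, mul_assoc, ← mul_assoc (u (-x)), ← u_add, ← mul_assoc, Units.val_mk0]
    have : -x + y = y - x := by ring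
    rw [this]
  rw [e3, w_u_w]
  exact ⟨_, _, _, rfl⟩

section index

variable (S : Stein ρ v0) (hρ : ρ.range = P) (hC : Core P)

include hρ in
theorem mem_P (g : SpecialLinearGroup (Fin 2) E) : ρ g ∈ P := by rw [← hρ]; exact ⟨g, rfl⟩

include S hρ hC

/-- big cell elements do not fix `v0` -/
theorem not_big (x y : E) (c : Eˣ) : (ρ (u x * w c * u y) : Matrix ι ι F) *ᵥ v0 ≠ v0 := by
  intro h
  rw [S.big] at h
  apply S.w_ne hρ hC
  have h1 := eq_of_inv h
  have h2 := eq_of_inv (S.fix_u x)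
  rw [h2] at h1
  exact h1.symm

/-- representatives of the cosets -/
def rep (E : Type v') [Field E] : Option E → SpecialLinearGroup (Fin 2) E
  | none => 1
  | some x => u x * w 1

omit S hρ hC in
theorem exists_rep_mul (g : SpecialLinearGroup (Fin 2) E) :
    ∃ (o : Option E) (x : E) (a : Eˣ) (b : Bool), g = rep E o * (if b then u x * t a else t a * u x) := by
  rcases bruhat g with ⟨x, a, rfl⟩ | ⟨x, c, y, rfl⟩
  · exact ⟨none, x, a, true, by simp [rep]⟩
  · refine ⟨some x, y, c, false, ?_⟩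
    simp only [rep, Bool.false_eq_true, if_false]
    rw [w_eq c]
    group

theorem rep_sep {o o' : Option E} (h : o ≠ o') :
    (ρ ((rep E o)⁻¹ * rep E o') : Matrix ι ι F) *ᵥ v0 ≠ v0 := by
  have key : ∀ x : E, (ρ (u x * w 1) : Matrix ι ι F) *ᵥ v0 ≠ v0 := by
    intro x h
    have h3 := not_big S hρ hC x 0 1
    rw [u_zero, mul_one] at h3
    exact h3 h
  rcases o with _ | x <;> rcases o' with _ | y
  · exact absurd rfl h
  · intro h1
    simp only [rep, inv_one, one_mul] at h1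
    exact key y h1
  · intro h1
    simp only [rep, mul_one] at h1
    have h2 := eq_of_inv h1
    rw [inv_inv] at h2
    exact key x h2
  · have hxy : x ≠ y := fun h0 => h (by rw [h0])
    obtain ⟨a, c, b, e⟩ := exists_big hxy
    simp only [rep]
    rw [e]
    exact not_big S hρ hC a b c

theorem index_stab [Fintype E] : (stab P v0).index = Fintype.card E + 1 := by
  classical
  rw [← Fintype.card_option, ← Nat.card_eq_fintype_card, Subgroup.index]
  symm
  let r : Option E → P := fun o => ⟨ρ (rep E o), mem_P hρ _⟩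
  have hr : ∀ o o', (((r o)⁻¹ * r o' : P) : GL ι F) = ρ ((rep E o)⁻¹ * rep E o') := by
    intro o o'
    rw [map_mul, map_inv]
    rfl
  apply Nat.card_congr
  refine Equiv.ofBijective (fun o => ((r o : P) : P ⧸ stab P v0)) ⟨?_, ?_⟩
  · intro o o' h
    by_contra hne
    have h2 : (r o)⁻¹ * r o' ∈ stab P v0 := QuotientGroup.eq.1 h
    rw [mem_stab, hr] at h2
    exact rep_sep S hρ hC hne h2
  · intro q
    induction q using QuotientGroup.induction_on with
    | H g =>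
      obtain ⟨s, hs⟩ : (g : GL ι F) ∈ ρ.range := by rw [hρ]; exact g.2
      obtain ⟨o, x, a, b, e⟩ := exists_rep_mul s
      refine ⟨o, QuotientGroup.eq.2 ?_⟩
      rw [mem_stab]
      have h3 : (((r o)⁻¹ * g : P) : GL ι F) = ρ (if b then u x * t a else t a * u x) := by
        change (ρ (rep E o))⁻¹ * (g : GL ι F) = _
        rw [← hs, e, map_mul, inv_mul_cancel_left]
      rw [h3]
      cases b
      · simp only [Bool.false_eq_true, if_false]
        rw [mul_vec, S.fix_u, S.fix_t]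
      · simp only [if_true]
        exact S.small x a

theorem dcoset : ∀ g ∉ stab P v0, ∀ g' ∉ stab P v0, ∃ k ∈ stab P v0, ∃ k' ∈ stab P v0, g' = k * g * k' := by
  have hex : ∀ g : P, g ∉ stab P v0 → ∃ (x : E) (c : Eˣ) (y : E), (g : GL ι F) = ρ (u x * w c * u y) := by
    rintro ⟨g, hg⟩ hn
    rw [← hρ] at hg
    obtain ⟨s, rfl⟩ := hg
    rcases bruhat s with ⟨x, a, rfl⟩ | ⟨x, c, y, rfl⟩
    · exact absurd (S.small x a) hn
    · exact ⟨x, c, y, rfl⟩
  intro g hg g' hg'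
  obtain ⟨x, c, y, e⟩ := hex g hg
  obtain ⟨x', c', y', e'⟩ := hex g' hg'
  refine ⟨⟨ρ (u x' * u (-x)), mem_P hρ _⟩, ?_, ⟨ρ (u (-y) * t (c⁻¹ * c') * u y'), mem_P hρ _⟩, ?_, ?_⟩
  · rw [mem_stab]
    change (ρ (u x' * u (-x)) : Matrix ι ι F) *ᵥ v0 = v0
    rw [mul_vec, S.fix_u, S.fix_u]
  · rw [mem_stab]
    change (ρ (u (-y) * t (c⁻¹ * c') * u y') : Matrix ι ι F) *ᵥ v0 = v0
    rw [mul_vec, mul_vec, S.fix_u, S.fix_t, S.fix_u]
  · apply Subtype.ext
    change (g' : GL ι F) = ρ (u x' * u (-x)) * (g : GL ι F) * ρ (u (-y) * t (c⁻¹ * c') * u y')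
    rw [e, e', ← map_mul, ← map_mul]
    congr 1
    have e2 : ∀ x : E, (u (-x) : SpecialLinearGroup (Fin 2) E) = (u x)⁻¹ := by
      intro x
      rw [eq_inv_iff_mul_eq_one, ← u_add, neg_add_cancel, u_zero]
    have e3 : (w c' : SpecialLinearGroup (Fin 2) E) = w c * t (c⁻¹ * c') := by
      rw [w_eq c, mul_assoc, ← t_mul, mul_inv_cancel_left, ← w_eq]
    rw [e2, e2, e3]
    group

end index

/-- the unipotent subgroup -/
def uHom : Multiplicative E →* SpecialLinearGroup (Fin 2) E where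
  toFun x := u (Multiplicative.toAdd x)
  map_one' := u_zero
  map_mul' _ _ := u_add _ _

theorem u_injective : Function.Injective (uHom : Multiplicative E →* SpecialLinearGroup (Fin 2) E) := by
  intro x y h
  have h1 : (u (Multiplicative.toAdd x) : SpecialLinearGroup (Fin 2) E).1 0 1 = (u (Multiplicative.toAdd y)).1 0 1 := by
    have h2 : (u (Multiplicative.toAdd x) : SpecialLinearGroup (Fin 2) E) = u (Multiplicative.toAdd y) := h
    rw [h2]
  simpa using h1

/-- `U` is a Sylow subgroup -/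
theorem exists_sylow [Fintype E] (r : ℕ) [hr : Fact r.Prime] [CharP E r] :
    ∃ S : Sylow r (SpecialLinearGroup (Fin 2) E), (S : Subgroup (SpecialLinearGroup (Fin 2) E)) = uHom.range := by
  obtain ⟨n, -, hn⟩ := FiniteField.card E r
  have hcU : Nat.card (uHom : Multiplicative E →* SpecialLinearGroup (Fin 2) E).range = Fintype.card E := by
    have h1 := Nat.card_congr (MonoidHom.ofInjective (u_injective (E := E))).toEquiv
    rw [← h1, Nat.card_eq_fintype_card]
    exact Fintype.card_congr Multiplicative.toAdd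
  have hUp : IsPGroup r (uHom : Multiplicative E →* SpecialLinearGroup (Fin 2) E).range :=
    IsPGroup.of_card (n := n) (by rw [hcU, hn])
  have hcG := S0242.result (F := E) rfl 2 (by norm_num)
  rw [Fin.prod_univ_two] at hcG
  simp only [Fin.val_zero, Fin.val_one, pow_zero, pow_one] at hcG
  set q := Fintype.card E with hq
  have hq2 : 2 ≤ q := Fintype.one_lt_card
  have hidx := Subgroup.index_mul_card (uHom : Multiplicative E →* SpecialLinearGroup (Fin 2) E).range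
  rw [hcU] at hidx
  set i := (uHom : Multiplicative E →* SpecialLinearGroup (Fin 2) E).range.index with hi
  have hi2 : i = q ^ 2 - 1 := by
    have h1 : (q - 1) * (i * q) = (q - 1) * ((q ^ 2 - 1) * q) := by
      rw [hidx, hcG]
      have h3 : q ^ 2 - q = (q - 1) * q := by rw [Nat.sub_mul, one_mul, pow_two]
      rw [h3]; ring
    have h2 := Nat.eq_of_mul_eq_mul_left (by omega) h1
    exact Nat.eq_of_mul_eq_mul_right (by omega) h2
  have hnd : ¬ r ∣ i := by
    intro h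
    have h1 : r ∣ q := by rw [hn]; exact dvd_pow_self r n.ne_zero
    have h2 : r ∣ q ^ 2 := dvd_pow h1 two_ne_zero
    rw [hi2] at h
    have h3 := (Nat.dvd_sub h2 h)
    have h4 : q ^ 2 - (q ^ 2 - 1) = 1 := by
      have : 1 ≤ q ^ 2 := Nat.one_le_pow _ _ (by omega)
      omega
    rw [h4] at h3
    exact hr.out.one_lt.ne' (Nat.dvd_one.1 h3)
  exact ⟨hUp.toSylow hnd, rfl⟩

/-- **`PSL₂(q)` in dimension `q`.** -/
theorem stein_main [Finite F] [Fintype E] (h2 : (2 : F) ≠ 0) {Q : QuadraticForm F (ι → F)} (hQ : Nondeg Q)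
    (h5 : 5 ≤ Fintype.card ι) {H : Subgroup (GL ι F)} (hH : IsMaximalIn (omegaGL (Q : (ι → F) → F)) H)
    (hPc : IsResidualCore H P) (S : Stein ρ v0) (hρ : ρ.range = P) (hq : Fintype.card ι = Fintype.card E) {m : ℕ}
    (hm : Fintype.card ι + 1 = m) :
    Nonempty (Soc P ≃* alternatingGroup (Fin m)) ∧ (m : F) ≠ 0 ∧ ((3 : F) ≠ 0 → (m : F) + 1 ≠ 0) := by
  have hC : Core P := core_of_residual hPc
  refine Cfsg.Agent.H882.Del.mat_main h2 hQ h5 hH hPc (K := stab P v0) (by rw [index_stab S hρ hC, hq]) S.ne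
    (fun k hk => hk) (dcoset S hρ hC) ?_ hm
  intro h hh
  obtain ⟨r, hch⟩ := CharP.exists E
  have hr : Fact r.Prime := ⟨CharP.char_is_prime E r⟩
  obtain ⟨T, hT⟩ := exists_sylow (E := E) r
  -- the map onto `P`
  let θ : SpecialLinearGroup (Fin 2) E →* P := ρ.codRestrict P (fun g => mem_P hρ g)
  have hθ : Function.Surjective θ := by
    rintro ⟨g, hg⟩
    have hg' := hg
    rw [← hρ] at hg'
    obtain ⟨s, rfl⟩ := hg'
    exact ⟨s, rfl⟩
  let T' : Sylow r P := T.mapSurjective hθ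
  have hT' : ∀ x, x ∈ (T' : Subgroup P) ↔ ∃ y : E, x = θ (u y) := by
    intro x
    constructor
    · rintro ⟨s, hs, rfl⟩
      have hs' : s ∈ (T : Subgroup _) := hs
      rw [hT] at hs'
      obtain ⟨y, rfl⟩ := hs'
      exact ⟨Multiplicative.toAdd y, rfl⟩
    · rintro ⟨y, rfl⟩
      refine ⟨u y, ?_, rfl⟩
      change u y ∈ (T : Subgroup _)
      rw [hT]
      exact ⟨Multiplicative.ofAdd y, rfl⟩
  -- conjugation by `h`
  let φ : MulAut P := 
    { toFun := fun x => ⟨h * x * h⁻¹, hPc.normal h hh x x.2⟩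
      invFun := fun x => ⟨h⁻¹ * x * h, by
        have := hPc.normal h⁻¹ (inv_mem hh) x x.2
        rwa [inv_inv] at this⟩
      left_inv := fun x => by apply Subtype.ext; change h⁻¹ * (h * x * h⁻¹) * h = x; group
      right_inv := fun x => by apply Subtype.ext; change h * (h⁻¹ * x * h) * h⁻¹ = x; group
      map_mul' := fun x y => by apply Subtype.ext; change h * (x * y) * h⁻¹ = (h * x * h⁻¹) * (h * y * h⁻¹); group }
  have hφ : ∀ x : P, ((φ x : P) : GL ι F) = h * x * h⁻¹ := fun x => rfl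
  obtain ⟨g, hg⟩ := MulAction.exists_smul_eq P T' (φ • T')
  -- `h v0` is fixed by `g T' g⁻¹ = h T' h⁻¹`
  refine ⟨g, g.2, ?_⟩
  obtain ⟨c, hc⟩ := S.uniq (((g⁻¹ : P) : GL ι F).1 *ᵥ ((h : Matrix ι ι F) *ᵥ v0)) (by
    intro x
    have h3 : g * θ (u x) * g⁻¹ ∈ ((g • T' : Sylow r P) : Subgroup P) :=
      ⟨θ (u x), (hT' _).2 ⟨x, rfl⟩, rfl⟩
    rw [hg] at h3
    obtain ⟨z, hz, hzx⟩ := h3
    obtain ⟨y, rfl⟩ := (hT' z).1 hz
    have h4 : h * ρ (u y) * h⁻¹ = (g : GL ι F) * ρ (u x) * (g : GL ι F)⁻¹ := congrArg Subtype.val hzx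
    have h5 : ρ (u x) * ((g⁻¹ : P) : GL ι F) * h = ((g⁻¹ : P) : GL ι F) * h * ρ (u y) := by
      rw [Subgroup.coe_inv]
      calc ρ (u x) * (g : GL ι F)⁻¹ * h = (g : GL ι F)⁻¹ * ((g : GL ι F) * ρ (u x) * (g : GL ι F)⁻¹) * h := by group
        _ = (g : GL ι F)⁻¹ * (h * ρ (u y) * h⁻¹) * h := by rw [h4]
        _ = _ := by group
    rw [Matrix.mulVec_mulVec, Matrix.mulVec_mulVec, ← Units.val_mul, ← Units.val_mul, h5, Units.val_mul,
      Units.val_mul, ← Matrix.mulVec_mulVec, S.fix_u, Matrix.mulVec_mulVec])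
  refine ⟨c, ?_⟩
  rw [← Matrix.mulVec_smul, ← hc, Matrix.mulVec_mulVec, ← Units.val_mul, ← Subgroup.coe_mul, mul_inv_cancel,
    Subgroup.coe_one, Units.val_one, Matrix.one_mulVec]

end Cfsg.Agent.H937.T2
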